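import Cfsg.Agent.Lib.Steiner.PlanePSL

/-!
A simple group of order 20160 acting on a projective plane of order four is the linear group.
-/

set_option autoImplicit false

namespace Cfsg.Agent.CNSimple

open Cfsg Finset Cfsg.Agent.PlanePSL
open Cfsg.Agent.Lib.PlaneFour.Basic (IsPlane)
open scoped Pointwise LinearAlgebra.Projectivization

/-- A simple group of order 20160 acting faithfully on a plane of order four. -/
theorem nonempty_equiv_psl {G α : Type*} [Group G] [Finite G] [IsSimpleGroup G] [Fintype α]
    [DecidableEq α] [MulAction G α] [FaithfulSMul G α] {L : Set (Finset α)} (Q : IsPlane L)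
    (hL : ∀ g : G, ∀ b ∈ L, g • b ∈ L) (hG : Nat.card G = 20160) :
    ∃ (F : Type) (_ : Field F) (_ : Fintype F), Fintype.card F = 4 ∧
      Nonempty (G ≃* Matrix.ProjectiveSpecialLinearGroup (Fin 3) F) := by
  classical
  obtain ⟨F, i1, i2, hF⟩ : ∃ (F : Type) (_ : Field F) (_ : Fintype F), Fintype.card F = 4 := by
    haveI : Fact (Nat.Prime 2) := ⟨Nat.prime_two⟩
    let i : Fintype (GaloisField 2 2) := Fintype.ofFinite _
    refine ⟨GaloisField 2 2, inferInstance, i, ?_⟩
    rw [← Nat.card_eq_fintype_card, GaloisField.card 2 2 (by norm_num)]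
    norm_num
  refine ⟨F, i1, i2, hF, ?_⟩
  let : Fintype (ℙ F (Fin 3 → F)) := Fintype.ofFinite _
  have P := isPlane_lines hF
  obtain ⟨H, hH⟩ := Cfsg.Agent.Lib.PlaneFour.Count.exists_oval P
  obtain ⟨H', hH'⟩ := Cfsg.Agent.Lib.PlaneFour.Count.exists_oval Q
  obtain ⟨e, ⟨he, -⟩, -⟩ := Cfsg.Agent.Lib.PlaneFour.Extend.existsUnique_extend P Q hH hH'
    (Fintype.equivOfCardEq (by rw [Fintype.card_coe, Fintype.card_coe, hH.1, hH'.1]))
  let φ : Matrix.ProjectiveSpecialLinearGroup (Fin 3) F →* ↥(setSystemAut L) :=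
    (Steiner.autEquiv e he).toMonoidHom.comp ((MulAction.toPermHom _ _).codRestrict _ (psl_maps hF))
  have hφ : Function.Injective φ := fun a b h =>
    MulAction.toPerm_injective (congrArg Subtype.val ((Steiner.autEquiv e he).injective h))
  let ψ : G →* ↥(setSystemAut L) := (MulAction.toPermHom G α).codRestrict _ fun g =>
    aut_of_maps fun b hb => by
      have : (MulAction.toPermHom G α g) • b = g • b := by
        ext x
        simp [Finset.mem_smul_finset, Equiv.Perm.smul_def]
      rw [this]; exact hL g b hb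
  have hψ : Function.Injective ψ := fun a b h => MulAction.toPerm_injective (congrArg Subtype.val h)
  have hs := ClassicalSL.isSimpleGroup_psl (ι := Fin 3) (F := F) (by simp)
  have := SimpleCriteria.isSimpleGroup_congr (MonoidHom.ofInjective hφ)
  have e' := subgroup_eq φ.range ψ.range
    (by rw [← Nat.card_congr (MonoidHom.ofInjective hφ).toEquiv, card_psl hF])
    (by rw [← Nat.card_congr (MonoidHom.ofInjective hψ).toEquiv, hG])
    (card_aut_le Q)
  exact ⟨((MonoidHom.ofInjective hψ).trans (MulEquiv.subgroupCongr e'.symm)).trans (MonoidHom.ofInjective hφ).symm⟩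

end Cfsg.Agent.CNSimple
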