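import Cfsg.Agent.Lib.CNSimple.L34Classes
import Cfsg.Agent.Lib.CNSimple.Plane

/-!
# The configuration of two elementary subgroups of order 16 gives the linear group over four elements
-/

set_option autoImplicit false
set_option linter.style.haveILetI false
set_option linter.unusedSectionVars false

namespace Cfsg.Agent.CNSimple

open L34 Finset

universe u

variable {G : Type u} [Group G] [Finite G]

namespace L34

variable {S : Sylow 2 G} {V W : Subgroup G} (h : L34Hyp S V W)
include h

open Classical in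
theorem exists_common_line (hG : Nat.card G = 20160) (x y : G ⧸ Subgroup.normalizer (V : Set G))
    (hxy : x ≠ y) : ∃ k : G, Inc (pt V x) (cj k W) ∧ Inc (pt V y) (cj k W) := by
  haveI : Fintype (G ⧸ Subgroup.normalizer (V : Set G)) := Fintype.ofFinite _
  haveI : Fintype (G ⧸ Subgroup.normalizer (W : Set G)) := Fintype.ofFinite _
  obtain ⟨a, ha⟩ := pt_exists V x
  set M := (univ : Finset (G ⧸ Subgroup.normalizer (W : Set G))).filter
    fun l => Inc (pt W l) (cj a V) with hM
  have hMcard : M.card = 5 := by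
    rw [← L34.card_points (symm h) a, Nat.card_eq_fintype_card, Fintype.card_subtype]
  let F : G ⧸ Subgroup.normalizer (W : Set G) → Finset (G ⧸ Subgroup.normalizer (V : Set G)) := fun l =>
    (univ : Finset (G ⧸ Subgroup.normalizer (V : Set G))).filter fun p => Inc (pt V p) (pt W l) ∧ p ≠ x
  have hF : ∀ l ∈ M, (F l).card = 4 := by
    intro l hl
    rw [hM, Finset.mem_filter] at hl
    obtain ⟨k, hk⟩ := pt_exists W l
    have h5 : (univ.filter fun p : G ⧸ Subgroup.normalizer (V : Set G) => Inc (pt V p) (cj k W)).card = 5 := by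
      rw [← L34.card_points h k, Nat.card_eq_fintype_card, Fintype.card_subtype]
    have e : F l = (univ.filter fun p : G ⧸ Subgroup.normalizer (V : Set G) => Inc (pt V p) (cj k W)).erase x := by
      ext p; simp [F, hk, and_comm]
    rw [e, Finset.card_erase_of_mem, h5]
    rw [Finset.mem_filter, ha, ← hk]
    exact ⟨Finset.mem_univ _, inc_symm hl.2⟩
  have hdisj : (M : Set (G ⧸ Subgroup.normalizer (W : Set G))).PairwiseDisjoint F := by
    intro l hl l' hl' hne
    rw [Function.onFun, Finset.disjoint_left]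
    intro p hp hp'
    rw [Finset.mem_coe, hM, Finset.mem_filter] at hl hl'
    simp only [F, Finset.mem_filter] at hp hp'
    obtain ⟨k, hk⟩ := pt_exists W l
    obtain ⟨k', hk'⟩ := pt_exists W l'
    obtain ⟨b, hb⟩ := pt_exists V p
    refine hne (pt_inj W ?_)
    rw [hk, hk']
    refine noDigon h (a := a) (b := b) (fun e => hp.2.2 (pt_inj V (hb.trans (e.symm.trans ha.symm))))
      ?_ ?_ ?_ ?_
    · exact hk ▸ inc_symm hl.2
    · exact hk ▸ hb ▸ hp.2.1
    · exact hk' ▸ inc_symm hl'.2
    · exact hk' ▸ hb ▸ hp'.2.1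
  have hcard : (M.biUnion F).card = 20 := by
    rw [Finset.card_biUnion hdisj, Finset.sum_congr rfl hF, Finset.sum_const, hMcard, smul_eq_mul]
  have hsub : M.biUnion F ⊆ univ.erase x := by
    intro p hp
    obtain ⟨l, -, hp⟩ := Finset.mem_biUnion.1 hp
    exact Finset.mem_erase.2 ⟨(Finset.mem_filter.1 hp).2.2, Finset.mem_univ p⟩
  have h21 : Fintype.card (G ⧸ Subgroup.normalizer (V : Set G)) = 21 := by
    have e := (Subgroup.normalizer (V : Set G)).index_mul_card
    rw [h.card_NV, hG, Subgroup.index_eq_card, Nat.card_eq_fintype_card] at e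
    omega
  have heq := Finset.eq_of_subset_of_card_le hsub (by
    rw [hcard, Finset.card_erase_of_mem (Finset.mem_univ x), Finset.card_univ, h21])
  have hy : y ∈ M.biUnion F := heq ▸ Finset.mem_erase.2 ⟨Ne.symm hxy, Finset.mem_univ y⟩
  obtain ⟨l, hl, hyl⟩ := Finset.mem_biUnion.1 hy
  rw [hM, Finset.mem_filter] at hl
  obtain ⟨k, hk⟩ := pt_exists W l
  exact ⟨k, ha ▸ hk ▸ inc_symm hl.2, hk ▸ (Finset.mem_filter.1 hyl).2.1⟩

end L34

open Classical in
/-- The configuration gives `PSL(3, 4)`. -/
theorem l34 [IsSimpleGroup G] {S : Sylow 2 G} {V W : Subgroup G} (h : L34Hyp S V W) : IsL34 G := by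
  have hG := L34.card_eq h
  set N := Subgroup.normalizer (V : Set G) with hN
  haveI : Fintype (G ⧸ N) := Fintype.ofFinite _
  let line : G → Finset (G ⧸ N) := fun k => univ.filter fun p => Inc (pt V p) (cj k W)
  have hline : ∀ k, (line k).card = 5 := fun k => by
    rw [← L34.card_points h k, Nat.card_eq_fintype_card, Fintype.card_subtype]
  have h21 : Fintype.card (G ⧸ N) = 21 := by
    have e := N.index_mul_card
    rw [show Nat.card N = 960 from h.card_NV, hG, Subgroup.index_eq_card, Nat.card_eq_fintype_card] at e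
    omega
  have Q : Cfsg.Agent.Lib.PlaneFour.Basic.IsPlane (Set.range line) := by
    refine ⟨h21, fun b ⟨k, hk⟩ => hk ▸ hline k, fun s hs => ?_⟩
    obtain ⟨x, y, hxy, rfl⟩ := Finset.card_eq_two.1 hs
    obtain ⟨k, hkx, hky⟩ := exists_common_line h hG x y hxy
    refine ⟨line k, ⟨⟨k, rfl⟩, ?_⟩, ?_⟩
    · simp [line, Finset.insert_subset_iff, hkx, hky]
    rintro _ ⟨⟨l, rfl⟩, hsub⟩
    simp [line, Finset.insert_subset_iff] at hsub
    obtain ⟨a, ha⟩ := pt_exists V x
    obtain ⟨b, hb⟩ := pt_exists V y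
    have e : cj l W = cj k W := noDigon h (a := a) (b := b)
      (fun e => hxy (pt_inj V (ha.trans (e.trans hb.symm))))
      (ha ▸ hsub.1) (hb ▸ hsub.2) (ha ▸ hkx) (hb ▸ hky)
    simp only [line, e]
  haveI : FaithfulSMul G (G ⧸ N) := by
    have hcore : N.normalCore = ⊥ := by
      refine N.normalCore_normal.eq_bot_or_eq_top.resolve_right fun e => ?_
      have h1 : N = ⊤ := top_le_iff.1 (e ▸ N.normalCore_le)
      have h2 : Nat.card N = 960 := h.card_NV
      rw [h1, Subgroup.card_top, hG] at h2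
      omega
    refine ⟨fun {g g'} hgg => inv_mul_eq_one.1 ?_⟩
    have hm : g⁻¹ * g' ∈ (MulAction.toPermHom G (G ⧸ N)).ker := by
      rw [MonoidHom.mem_ker]
      refine Equiv.ext fun p => ?_
      show (g⁻¹ * g') • p = p
      rw [mul_smul, ← hgg, inv_smul_smul]
    rw [← Subgroup.normalCore_eq_ker, hcore, Subgroup.mem_bot] at hm
    exact hm
  refine nonempty_equiv_psl Q (fun g b hb => ?_) hG
  obtain ⟨k, rfl⟩ := hb
  refine ⟨g * k, ?_⟩
  ext p
  rw [Finset.mem_smul_finset]
  simp only [line, Finset.mem_filter, Finset.mem_univ, true_and]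
  constructor
  · intro hp
    refine ⟨g⁻¹ • p, ?_, smul_inv_smul g p⟩
    have := inc_cj g⁻¹ hp
    rwa [cj_cj, inv_mul_cancel_left, ← pt_smul] at this
  · rintro ⟨p, hp, rfl⟩
    rw [pt_smul]
    have := inc_cj g hp
    rwa [cj_cj] at this

end Cfsg.Agent.CNSimple
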