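import Cfsg.Prelude.Def_LieExceptional
import Cfsg.Prelude.Def_Exceptional
import Mathlib.LinearAlgebra.Matrix.ProjectiveSpecialLinearGroup

/-!
# Simple CN groups: shared definitions
-/

set_option autoImplicit false

namespace Cfsg.Agent.CNSimple

universe u

variable {G : Type u} [Group G]

/-- The centraliser of every involution is a `2`-group. -/
def CIT (G : Type u) [Group G] : Prop :=
  ∀ t : G, orderOf t = 2 → IsPGroup 2 (Subgroup.centralizer ({t} : Set G))

/-- An elementary abelian `2`-subgroup. -/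
def Elem (A : Subgroup G) : Prop :=
  (∀ a ∈ A, a * a = 1) ∧ ∀ a ∈ A, ∀ b ∈ A, a * b = b * a

/-- The configuration leading to `PSL(3, 4)`: two elementary subgroups of order 16 generating a
Sylow subgroup of order 64, each with normaliser of order 960. -/
structure L34Hyp (S : Sylow 2 G) (V W : Subgroup G) : Prop where
  cit : CIT G
  card_S : Nat.card S = 64
  card_V : Nat.card V = 16
  card_W : Nat.card W = 16
  elem_V : Elem V
  elem_W : Elem W
  V_le : V ≤ (S : Subgroup G)
  W_le : W ≤ (S : Subgroup G)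
  card_inf : Nat.card (V ⊓ W : Subgroup G) = 4
  invol : ∀ t ∈ (S : Subgroup G), orderOf t = 2 → t ∈ V ∨ t ∈ W
  cent_inf : ∀ z ∈ V ⊓ W, z ≠ 1 → Subgroup.centralizer ({z} : Set G) = (S : Subgroup G)
  card_NS : Nat.card (Subgroup.normalizer ((S : Subgroup G) : Set G)) = 192
  NS_le_V : Subgroup.normalizer ((S : Subgroup G) : Set G) ≤ Subgroup.normalizer (V : Set G)
  NS_le_W : Subgroup.normalizer ((S : Subgroup G) : Set G) ≤ Subgroup.normalizer (W : Set G)
  card_NV : Nat.card (Subgroup.normalizer (V : Set G)) = 960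
  card_NW : Nat.card (Subgroup.normalizer (W : Set G)) = 960
  trans_V : ∀ a ∈ V, a ≠ 1 → ∀ b ∈ V, b ≠ 1 →
    ∃ g ∈ Subgroup.normalizer (V : Set G), g * a * g⁻¹ = b
  trans_W : ∀ a ∈ W, a ≠ 1 → ∀ b ∈ W, b ≠ 1 →
    ∃ g ∈ Subgroup.normalizer (W : Set G), g * a * g⁻¹ = b

/-- `G` is `PSL(3, 4)`. -/
def IsL34 (G : Type u) [Group G] : Prop :=
  ∃ (F : Type) (_ : Field F) (_ : Fintype F), Fintype.card F = 4 ∧
    Nonempty (G ≃* Matrix.ProjectiveSpecialLinearGroup (Fin 3) F)

/-- A simple group with a nilpotent Hall subgroup of even order containing the centralisers of its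
elements: `PSL(2, 2^n)` or of Suzuki order. -/
def IsTwoTI (G : Type u) [Group G] : Prop :=
  (∃ (F : Type) (_ : Field F) (_ : Fintype F) (n : ℕ), Fintype.card F = 2 ^ n ∧
      Nonempty (G ≃* Matrix.ProjectiveSpecialLinearGroup (Fin 2) F)) ∨ Cfsg.IsSuzuki G

/-- The odd characteristic case: `PSL(2, q)` with dihedral Sylow subgroups and `2`-group
centralisers of involutions. -/
def IsOddPSL (G : Type u) [Group G] : Prop :=
  ∃ (F : Type) (_ : Field F) (_ : Fintype F),
    (Fintype.card F = 9 ∨ ((Fintype.card F).Prime ∧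
      ∃ k : ℕ, Fintype.card F = 2 ^ k + 1 ∨ Fintype.card F + 1 = 2 ^ k)) ∧
      Nonempty (G ≃* Matrix.ProjectiveSpecialLinearGroup (Fin 2) F)

end Cfsg.Agent.CNSimple
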