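import Cfsg.Agent.Lib.CNSimple.SFour
import Cfsg.Agent.Lib.CNSimple.Defs
import Mathlib.FieldTheory.Finite.Basic

/-!
# The configuration of degree four inside `PSL(3, 4)`
-/

set_option autoImplicit false
set_option linter.style.haveILetI false

namespace Cfsg.Agent.CNSimple

open Matrix

universe u

abbrev SLThree := Matrix.SpecialLinearGroup (Fin 3) (ZMod 2)

theorem sfour_slThree : SFourCfg SLThree := by
  letI : DecidableEq SLThree := fun A B =>
    decidable_of_iff ((A : Matrix (Fin 3) (Fin 3) (ZMod 2)) = B) Subtype.ext_iff.symm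
  let C : SLThree := ⟨!![1, 1, 0; 0, 1, 1; 0, 0, 1], by decide⟩
  let W : SLThree := ⟨!![1, 0, 0; 0, 1, 1; 0, 0, 1], by decide⟩
  let X : SLThree := ⟨!![0, 1, 0; 1, 1, 0; 0, 0, 1], by decide⟩
  let Y : SLThree := ⟨!![1, 0, 0; 0, 0, 1; 0, 1, 1], by decide⟩
  have hWi : W⁻¹ = W := inv_eq_of_mul_eq_one_right (by decide)
  have hCi : C⁻¹ = C * C * C := inv_eq_of_mul_eq_one_right (by decide)
  have hXi : X⁻¹ = X * X := inv_eq_of_mul_eq_one_right (by decide)
  have hYi : Y⁻¹ = Y * Y := inv_eq_of_mul_eq_one_right (by decide)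
  haveI : Fact (Nat.Prime 3) := ⟨Nat.prime_three⟩
  haveI : Fact (Nat.Prime 2) := ⟨Nat.prime_two⟩
  have hC : orderOf C = 4 := by
    rw [show (4 : ℕ) = 2 ^ (1 + 1) from rfl]
    refine orderOf_eq_prime_pow ?_ ?_
    · rw [pow_one, pow_two]; decide
    · rw [show (2 ^ (1 + 1) : ℕ) = 2 + 2 from rfl, pow_add, pow_two]; decide
  refine ⟨C, W, X, Y, hC, orderOf_eq_prime (by rw [pow_two]; decide) (fun h => absurd (congrArg Subtype.val h) (by decide)), ?_,
    orderOf_eq_prime (by rw [pow_three]; decide) (fun h => absurd (congrArg Subtype.val h) (by decide)),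
    orderOf_eq_prime (by rw [pow_three]; decide) (fun h => absurd (congrArg Subtype.val h) (by decide)), ?_, ?_, ?_, ?_⟩
  · rw [hWi, hCi]; decide
  · rw [hXi]; exact Subtype.ext (by decide)
  · rw [hXi]; exact Subtype.ext (by decide)
  · rw [hYi]; decide
  · rw [hYi]; decide

theorem sfour_psl_three {F : Type} [Field F] [CharP F 2] :
    SFourCfg (Matrix.ProjectiveSpecialLinearGroup (Fin 3) F) := by
  set φ : ZMod 2 →+* F := ZMod.castHom dvd_rfl F with hφ
  set f : SLThree →* Matrix.ProjectiveSpecialLinearGroup (Fin 3) F :=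
    (QuotientGroup.mk' _).comp (Matrix.SpecialLinearGroup.map φ) with hf
  refine SFourCfg.map f ?_ sfour_slThree
  rw [injective_iff_map_eq_one]
  intro A hA
  have hA' : Matrix.SpecialLinearGroup.map φ A ∈ Subgroup.center _ := (QuotientGroup.eq_one_iff _).1 hA
  obtain ⟨r, hr, e⟩ := Matrix.SpecialLinearGroup.mem_center_iff.1 hA'
  have hent : ∀ i j, φ ((A : Matrix (Fin 3) (Fin 3) (ZMod 2)) i j) = if i = j then r else 0 := fun i j => by
    have h := (congrFun (congrFun e i) j).symm
    rw [Matrix.scalar_apply, Matrix.diagonal_apply] at h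
    exact h
  have hr1 : r = φ 1 := by
    rcases (by decide : ∀ a : ZMod 2, a = 0 ∨ a = 1) ((A : Matrix (Fin 3) (Fin 3) (ZMod 2)) 0 0) with h0 | h0
    · have h := hent 0 0
      rw [h0, map_zero, if_pos rfl] at h
      rw [← h, zero_pow (by simp)] at hr
      exact absurd hr zero_ne_one
    · have h := hent 0 0
      rw [h0, if_pos rfl] at h
      exact h.symm
  refine Subtype.ext (Matrix.ext fun i j => φ.injective ?_)
  rw [hent i j, hr1, Matrix.SpecialLinearGroup.coe_one, Matrix.one_apply]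
  split_ifs <;> simp

theorem IsL34.sfour {G : Type u} [Group G] (h : IsL34 G) : SFourCfg G := by
  obtain ⟨F, _, _, hF, ⟨e⟩⟩ := h
  haveI : CharP F 2 := by
    obtain ⟨p, hp⟩ := CharP.exists F
    obtain ⟨n, hpp, hn⟩ := FiniteField.card F p
    rw [hF] at hn
    have : p = 2 := by
      have h1 : p ∣ 2 ^ 2 := by norm_num; exact hn ▸ dvd_pow_self p n.ne_zero
      exact (Nat.prime_dvd_prime_iff_eq hpp Nat.prime_two).1 (hpp.dvd_of_dvd_pow h1)
    subst this; exact hp
  exact SFourCfg.map e.symm.toMonoidHom e.symm.injective sfour_psl_three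

end Cfsg.Agent.CNSimple
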