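import Cfsg.Agent.Lib.CNSimple.Two
import Cfsg.Agent.Lib.CNSimple.L34
import Cfsg.Agent.Lib.CNSimple.L34Four

/-!
# Simple groups with `2`-groups as centralisers of involutions
-/

set_option autoImplicit false
set_option linter.style.haveILetI false
set_option linter.unusedSectionVars false

namespace Cfsg.Agent.CNSimple

open Cfsg.Agent.Invol

universe u

variable {G : Type u} [Group G] [Finite G]

theorem two_dvd_of_simple [IsSimpleGroup G] (hna : ∃ a b : G, a * b ≠ b * a) :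
    2 ∣ Nat.card G ∧ ¬ IsPGroup 2 G := by
  haveI : Fact (Nat.Prime 2) := ⟨Nat.prime_two⟩
  have hns : ¬ Group.IsSolvable G := fun hs => by
    obtain ⟨a, b, hab⟩ := hna
    exact hab ((IsSimpleGroup.comm_iff_isSolvable.2 hs) a b)
  refine ⟨by_contra fun h => hns (OddChar.oddSolvable G (Nat.odd_iff.2 (Nat.two_dvd_ne_zero.1 h))),
    fun hp => ?_⟩
  haveI := hp.isNilpotent
  exact hns inferInstance

namespace NoTI

variable [IsSimpleGroup G] (hG : NoTI G)
include hG

theorem dichotomy : (IsOddPSL G ∨ IsL34 G) ∧ SFourCfg G := by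
  haveI : Fact (Nat.Prime 2) := ⟨Nat.prime_two⟩
  have hq : ∀ {T V W : Subgroup G} {q : ℕ}, Conf T V W q → q = 2 ∨ q = 4 := by
    intro T V W q C
    have h4 := C.q_le hG
    have h2 := C.two_le
    obtain ⟨k, hk⟩ := IsPGroup.iff_card.1 (C.vw.elem_V.isPGroup.to_le (inf_le_left : V ⊓ W ≤ V))
    rw [C.vw.card_inf] at hk
    rcases k with _ | _ | _ | k
    · omega
    · exact Or.inl hk
    · exact Or.inr (by rw [hk]; norm_num)
    · have := Nat.one_le_two_pow (n := k)
      rw [pow_succ, pow_succ, pow_succ] at hk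
      omega
  rcases hG.exists_conf with ⟨S, V, W, q, C⟩ | ⟨H, S, L, T, X, o, hSH, hlt⟩
  · rcases hq C with rfl | rfl
    · exact ⟨Or.inl (C.two_psl hG le_rfl (inf_eq_left.2 C.nV.loc.T_le)), C.sfour hG.cit⟩
    · have h := l34 (C.l34Hyp hG.cit)
      exact ⟨Or.inr h, h.sfour⟩
  · obtain ⟨V, W, q, g, C, hgS, hgN, hgT, hgV, hTS, hSV⟩ := hG.outside_conf o hSH hlt
    rcases hq C with rfl | rfl
    · exact ⟨Or.inl (C.two_psl hG hTS hSV), C.sfour hG.cit⟩
    · exact (C.sub_four_false hG hgS hgN hgT hgV hTS hSV).elim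

end NoTI

/-- The dichotomy for all groups. -/
theorem ihyp_all : ∀ (n : ℕ) (H : Type u) [Group H] [Finite H], Nat.card H = n → CIT H → IsSimpleGroup H →
    (∃ a b : H, a * b ≠ b * a) → (∃ K : Subgroup H, TIHyp K) ∨ SFourCfg H := by
  intro n
  induction n using Nat.strong_induction_on with
  | _ n ih =>
    intro H _ _ hn hc hs hna
    refine (em (∃ K : Subgroup H, TIHyp K)).imp id fun hno => ?_
    haveI := hs
    obtain ⟨hev, hnp⟩ := two_dvd_of_simple hna
    exact (NoTI.dichotomy ⟨hc, fun M _ _ hM => ih _ (hn ▸ hM) M rfl, hev, hnp, hno⟩).2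

theorem ihyp (G : Type u) [Group G] [Finite G] : IHyp G := fun H _ _ _ => ihyp_all _ H rfl

/-- A non-abelian simple group in which the centralisers of involutions are `2`-groups has a good
subgroup of even order, or is `PSL(2, q)` for special odd `q`, or `PSL(3, 4)`. -/
theorem cit_simple [IsSimpleGroup G] (hna : ∃ a b : G, a * b ≠ b * a) (hc : CIT G) :
    (∃ K : Subgroup G, TIHyp K) ∨ IsOddPSL G ∨ IsL34 G := by
  refine (em (∃ K : Subgroup G, TIHyp K)).imp id fun hno => ?_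
  obtain ⟨hev, hnp⟩ := two_dvd_of_simple hna
  exact (NoTI.dichotomy ⟨hc, ihyp G, hev, hnp, hno⟩).1

/-- The list for groups with a good subgroup of even order or `2`-groups as centralisers. -/
theorem simple_list [IsSimpleGroup G] (hna : ∃ a b : G, a * b ≠ b * a)
    (h : (∃ K : Subgroup G, TIHyp K) ∨ CIT G) :
    (∃ (F : Type) (_ : Field F) (_ : Fintype F),
        (Fintype.card F = 9 ∨ (∃ n : ℕ, Fintype.card F = 2 ^ n) ∨
          ((Fintype.card F).Prime ∧ ∃ k : ℕ, Fintype.card F = 2 ^ k + 1 ∨ Fintype.card F + 1 = 2 ^ k)) ∧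
        Nonempty (G ≃* Matrix.ProjectiveSpecialLinearGroup (Fin 2) F)) ∨
    (∃ (F : Type) (_ : Field F) (_ : Fintype F), Fintype.card F = 4 ∧
        Nonempty (G ≃* Matrix.ProjectiveSpecialLinearGroup (Fin 3) F)) ∨
    Cfsg.IsSuzuki G := by
  have hti : ∀ K : Subgroup G, TIHyp K → _ := fun K hK => hK.main
  rcases (h.elim Or.inl fun hc => cit_simple hna hc) with ⟨K, hK⟩ | ⟨F, i1, i2, hq, he⟩ | hL
  · rcases hti K hK with ⟨F, i1, i2, n, hn, he⟩ | hs
    · exact Or.inl ⟨F, i1, i2, Or.inr (Or.inl ⟨n, hn⟩), he⟩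
    · exact Or.inr (Or.inr hs)
  · exact Or.inl ⟨F, i1, i2, hq.imp id Or.inr, he⟩
  · exact Or.inr (Or.inl hL)

end Cfsg.Agent.CNSimple
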