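import Cfsg.Agent.Lib.CNSimple.TI
import Cfsg.Agent.Lib.CNSimple.Defs
import Cfsg.Agent.Lib.ZassSuz.Main
import Cfsg.Agent.Lib.Solvable.Frobenius
import Cfsg.Agent.S1230

/-!
# Simple groups with a good subgroup of even order: Zassenhaus groups
-/

set_option autoImplicit false
set_option linter.style.haveILetI false
set_option linter.unusedSectionVars false

namespace Cfsg.Agent.CNSimple

open scoped Pointwise
open Cfsg.Agent.Invol MulAction

universe u

variable {G : Type u} [Group G] [Finite G]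

namespace TIHyp

variable {K : Subgroup G} (h : TIHyp K)
include h

theorem exists_swap_fix {d : G} (hd : d ∈ h.N) {y : G ⧸ h.N} (hy : y ≠ ((1 : G) : G ⧸ h.N))
    (hdy : d • y = y) : ∃ u : G, orderOf u = 2 ∧ u ∉ h.N ∧ u • ((1 : G) : G ⧸ h.N) = y ∧ d ∈ h.D u := by
  obtain ⟨u, hu, huN, huy⟩ := h.exists_swapper hy
  refine ⟨u, hu, huN, huy, (h.mem_D hu).2 ⟨hd, h.fix_base.1 ?_⟩⟩
  rw [mul_smul, mul_smul, huy, hdy, ← huy, ← mul_smul, mul_self hu, one_smul]

/-- A non-trivial element of `K` fixes only one point. -/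
theorem fix_K {a : G} (ha : a ∈ K) (ha1 : a ≠ 1) {y : G ⧸ h.N} (hy : a • y = y) :
    y = ((1 : G) : G ⧸ h.N) := by
  by_contra hne
  obtain ⟨u, hu, huN, -, hd⟩ := h.exists_swap_fix (h.K_le_N ha) hne hy
  exact ha1 (h.D_inf_K hu huN ha hd)

theorem two_le_m [IsSimpleGroup G] : 2 ≤ h.m := by
  by_contra hlt
  have hm1 : h.m = 1 := by have := h.odd_m.pos; omega
  have heq : K = h.N := le_antisymm h.K_le_N
    (Subgroup.relIndex_eq_one.1 (h.relIndex_eq_m.trans hm1))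
  have hKtop : K ≠ ⊤ := fun e => h.ne_top (top_le_iff.1 (e ▸ h.K_le_N))
  have hfc : Cfsg.IsFrobeniusComplement K := by
    refine ⟨h.good.ne_bot, hKtop, fun g hg => ?_⟩
    rw [eq_bot_iff]
    intro x hx
    rw [Subgroup.mem_bot]
    by_contra hx1
    obtain ⟨hx2, hx3⟩ := Subgroup.mem_inf.1 hx
    rw [Subgroup.mem_pointwise_smul_iff_inv_smul_mem, ← map_inv, MulAut.smul_def, MulAut.conj_apply,
      inv_inv] at hx3
    refine hg (heq.ge (h.mem_N_of_meet hx3 (fun e => hx1 ?_) ?_))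
    · exact (conj_eq_one_iff (a := g⁻¹)).1 (by rwa [inv_inv])
    · rwa [show g * (g⁻¹ * x * g) * g⁻¹ = x by group]
  obtain ⟨M, -, hMn, hMbot, hcompl, -, -, -, -⟩ := FrobeniusStruct.exists_kernel hfc
  rcases Subgroup.Normal.eq_bot_or_eq_top hMn with e | e
  · exact hMbot e
  · subst e
    exact h.good.ne_bot (Subgroup.isComplement'_top_left.mp hcompl)

theorem no_three {g : G} {b c : G ⧸ h.N} (hb : b ≠ ((1 : G) : G ⧸ h.N))
    (hc : c ≠ ((1 : G) : G ⧸ h.N)) (hbc : b ≠ c) (hg : g ∈ h.N) (hgb : g • b = b) (hgc : g • c = c) :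
    g = 1 := by
  by_contra hg1
  obtain ⟨u, hu, huN, hub, hd⟩ := h.exists_swap_fix hg hb hgb
  rcases h.fix_two hu huN hd hg1 hgc with e | e
  · exact hc e
  · exact hbc (hub.symm.trans e.symm)

theorem smul_ne_base {n : G} (hn : n ∈ h.N) {c : G ⧸ h.N} (hc : c ≠ ((1 : G) : G ⧸ h.N)) :
    n • c ≠ ((1 : G) : G ⧸ h.N) := fun e => hc (by
  rwa [← h.fix_base.2 hn, smul_left_cancel_iff] at e)

/-- `K` is regular on the other points. -/
theorem regular_of_two_le (hm2 : 2 ≤ h.m) {y z : G ⧸ h.N} (hy : y ≠ ((1 : G) : G ⧸ h.N))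
    (hz : z ≠ ((1 : G) : G ⧸ h.N)) : ∃! a : K, (a : G) • y = z := by
  classical
  haveI : Fintype (G ⧸ h.N) := Fintype.ofFinite _
  set x₀ : G ⧸ h.N := ((1 : G) : G ⧸ h.N) with hx₀
  let f : K → {w : G ⧸ h.N // w ≠ x₀} := fun a =>
    ⟨(a : G) • y, h.smul_ne_base (h.K_le_N a.2) hy⟩
  have hf : Function.Injective f := fun a b e => by
    have e' : (a : G) • y = (b : G) • y := congrArg Subtype.val e
    refine Subtype.ext (inv_mul_eq_one.1 ?_)
    by_contra hne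
    exact hy (h.fix_K (mul_mem (inv_mem a.2) b.2) hne (by rw [mul_smul, ← e', inv_smul_smul]))
  let T := Σ w : {w : G ⧸ h.N // w ≠ x₀}, {d : G // d ∈ h.N ∧ d • w.1 = w.1 ∧ d ≠ 1}
  have hT : Nat.card {w : G ⧸ h.N // w ≠ x₀} * (h.m - 1) = Nat.card T := by
    rw [Nat.card_sigma, Finset.sum_congr rfl (fun w _ => ?_), Finset.sum_const, Finset.card_univ,
      ← Nat.card_eq_fintype_card, smul_eq_mul]
    obtain ⟨u, hu, huN, huw⟩ := h.exists_swapper w.2
    have e : Nat.card {d : G // d ∈ h.N ∧ d • w.1 = w.1 ∧ d ≠ 1} =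
        Nat.card {d : h.D u // (d : G) ≠ 1} := by
      refine Nat.card_congr ⟨fun d => ⟨⟨d.1, (h.mem_D hu).2 ⟨d.2.1, h.fix_base.1 ?_⟩⟩, d.2.2.2⟩,
        fun d => ⟨d.1.1, d.1.2.1, ?_, d.2⟩, fun _ => rfl, fun _ => rfl⟩
      · rw [mul_smul, mul_smul, huw, d.2.2.1, ← huw, ← mul_smul, mul_self hu, one_smul]
      · have e : (u * d.1 * u) • x₀ = x₀ := h.fix_base.2 ((h.mem_D hu).1 d.1.2).2
        rw [mul_smul, mul_smul, huw] at e
        rw [← smul_left_cancel_iff u, e, ← huw, ← mul_smul, mul_self hu, one_smul]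
    haveI : Fintype (h.D u) := Fintype.ofFinite _
    rw [e, Nat.card_eq_fintype_card (α := {d : h.D u // (d : G) ≠ 1}), Fintype.card_subtype_compl,
      ← Nat.card_eq_fintype_card, h.card_D hu huN]
    congr 1
    rw [Fintype.card_eq_one_iff]
    exact ⟨⟨1, rfl⟩, fun d => Subtype.ext (Subtype.ext d.2)⟩
  let g : T → {n : h.N // n ∉ K.subgroupOf h.N} := fun p =>
    ⟨⟨p.2.1, p.2.2.1⟩, fun e => p.2.2.2.2 (by
      by_contra hne
      exact p.1.2 (h.fix_K e hne p.2.2.2.1))⟩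
  have hg : Function.Injective g := by
    rintro ⟨⟨w, hw⟩, ⟨d, hd⟩⟩ ⟨⟨w', hw'⟩, ⟨d', hd'⟩⟩ e
    have hdd : d = d' := congrArg (fun n => ((n.1 : h.N) : G)) e
    subst hdd
    by_cases hww : w = w'
    · subst hww; rfl
    · exact absurd (h.no_three hw hw' hww hd.1 hd.2.1 hd'.2.1) hd.2.2
  have hle := Nat.card_le_card_of_injective g hg
  haveI : Fintype h.N := Fintype.ofFinite _
  rw [← hT, Nat.card_eq_fintype_card (α := {n : h.N // n ∉ K.subgroupOf h.N}),
    Fintype.card_subtype_compl, ← Nat.card_eq_fintype_card, ← Nat.card_eq_fintype_card,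
    h.card_N] at hle
  have e : Nat.card {n : h.N // n ∈ K.subgroupOf h.N} = Nat.card K :=
    Nat.card_congr (Subgroup.subgroupOfEquivOfLe h.K_le_N).toEquiv
  rw [e, ← Nat.mul_sub_one] at hle
  have hcard := Nat.le_of_mul_le_mul_right hle (by omega)
  obtain ⟨a, ha⟩ := (hf.bijective_of_nat_card_le hcard).2 ⟨z, hz⟩
  exact ⟨a, congrArg Subtype.val ha, fun b hb =>
    hf (Subtype.ext (hb.trans (congrArg Subtype.val ha).symm))⟩

theorem regular [IsSimpleGroup G] {y z : G ⧸ h.N} (hy : y ≠ ((1 : G) : G ⧸ h.N))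
    (hz : z ≠ ((1 : G) : G ⧸ h.N)) : ∃! a : K, (a : G) • y = z :=
  h.regular_of_two_le h.two_le_m hy hz

/-- A simple group with a good subgroup of even order is a Zassenhaus group on the cosets of the
normaliser. -/
theorem zassenhaus [IsSimpleGroup G] : Cfsg.IsZassenhausGroup G (G ⧸ h.N) := by
  classical
  haveI := Fintype.ofFinite (G ⧸ h.N)
  haveI : Fact (Nat.Prime 2) := ⟨Nat.prime_two⟩
  obtain ⟨v, hv, hvN⟩ := h.exists_invol_not_mem
  set x₀ : G ⧸ h.N := ((1 : G) : G ⧸ h.N) with hx₀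
  set y₀ : G ⧸ h.N := v • x₀ with hy₀
  have hyx : y₀ ≠ x₀ := fun e => hvN (h.fix_base.1 e)
  have hm2 := h.two_le_m
  have hmove : ∀ p : G ⧸ h.N, ∃ g : G, g • p = x₀ := fun p => by
    obtain ⟨g, rfl⟩ := QuotientGroup.mk_surjective p
    exact ⟨g⁻¹, by rw [← h.smul_base, inv_smul_smul]⟩
  have hfixy : ∀ d ∈ h.D v, d • y₀ = y₀ := fun d hd => by
    have e : (v * d * v) • x₀ = x₀ := h.fix_base.2 ((h.mem_D hv).1 hd).2
    rw [mul_smul, mul_smul] at e
    rw [← smul_left_cancel_iff v, e, hy₀, ← mul_smul, mul_self hv, one_smul]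
  obtain ⟨⟨d₀, hd₀⟩, hd₀1⟩ : ∃ d : h.D v, d ≠ 1 := by
    haveI : Nontrivial (h.D v) := Finite.one_lt_card_iff_nontrivial.1 (by rw [h.card_D hv hvN]; omega)
    exact exists_ne 1
  refine ⟨⟨fun {g g'} e => ?_⟩, MulAction.is_two_pretransitive_iff.2 ?_, ?_,
    ⟨d₀, fun e => hd₀1 (Subtype.ext e), x₀, y₀, hyx.symm, h.fix_base.2 hd₀.1, hfixy d₀ hd₀⟩, ?_⟩
  · refine (inv_mul_eq_one.1 ?_).symm
    have hmem : g'⁻¹ * g ∈ h.N.normalCore := by
      rw [Subgroup.normalCore_eq_ker, MonoidHom.mem_ker]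
      exact Equiv.ext fun c => by
        show (g'⁻¹ * g) • c = c
        rw [mul_smul, e, inv_smul_smul]
    rcases IsSimpleGroup.eq_bot_or_eq_top_of_normal h.N.normalCore inferInstance with e' | e'
    · rwa [e', Subgroup.mem_bot] at hmem
    · exact absurd (top_le_iff.1 (e' ▸ h.N.normalCore_le)) h.ne_top
  · intro a b c d hab hcd
    obtain ⟨g₁, hg₁⟩ := hmove a
    obtain ⟨g₂, hg₂⟩ := hmove c
    obtain ⟨k, hk, -⟩ := h.regular (y := g₁ • b) (z := g₂ • d)
      (fun e => hab (smul_left_cancel g₁ (hg₁.trans e.symm)))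
      (fun e => hcd (smul_left_cancel g₂ (hg₂.trans e.symm)))
    refine ⟨g₂⁻¹ * k * g₁, ?_, ?_⟩
    · rw [mul_smul, mul_smul, hg₁, h.fix_base.2 (h.K_le_N k.2), inv_smul_eq_iff, hg₂]
    · rw [mul_smul, mul_smul, hk, inv_smul_smul]
  · intro g a b c hab hbc hac h1 h2 h3
    obtain ⟨g₁, hg₁⟩ := hmove a
    have hc : ∀ p : G ⧸ h.N, g • p = p → (g₁ * g * g₁⁻¹) • (g₁ • p) = g₁ • p := fun p hp => by
      rw [mul_smul, inv_smul_smul, mul_smul, hp]
    have := h.no_three (fun e => hab (smul_left_cancel g₁ (hg₁.trans e.symm)))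
      (fun e => hac (smul_left_cancel g₁ (hg₁.trans e.symm))) (fun e => hbc (smul_left_cancel g₁ e))
      (h.fix_base.1 (by rw [hx₀.symm, ← hg₁]; exact hc a h1)) (hc b h2) (hc c h3)
    exact conj_eq_one_iff.1 this
  · intro M hM htr
    refine ⟨x₀, fun e => ?_⟩
    rcases IsSimpleGroup.eq_bot_or_eq_top_of_normal M hM with rfl | rfl
    · obtain ⟨⟨m, hm⟩, hm'⟩ := htr.exists_smul_eq x₀ y₀
      rw [Subgroup.mem_bot] at hm
      subst hm
      exact hyx (hm'.symm.trans (one_smul G x₀))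
    · have h1 : (⟨d₀, trivial⟩ : (⊤ : Subgroup G)) ∈ stabilizer (⊤ : Subgroup G) x₀ :=
        mem_stabilizer_iff.2 (h.fix_base.2 hd₀.1)
      exact hd₀1 (Subtype.ext (congrArg (fun a : (⊤ : Subgroup G) => (a : G)) ((Subgroup.eq_bot_iff_forall _).1 e _ h1)))

/-- With an abelian good subgroup the group is `PSL(2, 2^n)`. -/
theorem psl_of_comm [IsSimpleGroup G] (hna : ∀ a ∈ K, ∀ b ∈ K, a * b = b * a) :
    ∃ (F : Type) (_ : Field F) (_ : Fintype F) (n : ℕ), Fintype.card F = 2 ^ n ∧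
      Nonempty (G ≃* Matrix.ProjectiveSpecialLinearGroup (Fin 2) F) := by
  classical
  haveI := Fintype.ofFinite (G ⧸ h.N)
  haveI : Fact (Nat.Prime 2) := ⟨Nat.prime_two⟩
  obtain ⟨v, hv, hvN⟩ := h.exists_invol_not_mem
  set x₀ : G ⧸ h.N := ((1 : G) : G ⧸ h.N) with hx₀
  set y₀ : G ⧸ h.N := v • x₀ with hy₀
  have hyx : y₀ ≠ x₀ := fun e => hvN (h.fix_base.1 e)
  have hfixy : ∀ d ∈ h.D v, d • y₀ = y₀ := fun d hd => by
    have e : (v * d * v) • x₀ = x₀ := h.fix_base.2 ((h.mem_D hv).1 hd).2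
    rw [mul_smul, mul_smul] at e
    rw [← smul_left_cancel_iff v, e, hy₀, ← mul_smul, mul_self hv, one_smul]
  have hzg := h.zassenhaus
  have hm2 := h.two_le_m
  have D : ZassKer.Ker x₀ y₀ K := ZassSuz.ker_of_reg hzg hyx.symm
    (fun a ha => mem_stabilizer_iff.2 (h.fix_base.2 (h.K_le_N ha)))
    (fun g hg a ha => h.conj_K (h.fix_base.1 hg) ha) fun p q hp hq => h.regular hp hq
  have hK2 : IsPGroup 2 K := by
    obtain ⟨p, f, hp, hf, hpf⟩ := (isPrimePow_nat_iff _).mp D.isPrimePow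
    have hp2 : p = 2 := ((Nat.prime_dvd_prime_iff_eq Nat.prime_two hp).mp
      (Nat.prime_two.dvd_of_dvd_pow (hpf ▸ h.even))).symm
    exact IsPGroup.of_card (n := f) (by rw [← hpf, hp2])
  have htwo : Nat.card (Zass.two (G := G) x₀ y₀) = h.m := by
    rw [← h.card_D hv hvN]
    refine Nat.card_congr (Equiv.subtypeEquivRight fun g => ?_)
    rw [Zass.two, Subgroup.mem_inf, mem_stabilizer_iff, mem_stabilizer_iff, h.fix_base]
    refine ⟨fun hg => (h.mem_D hv).2 ⟨hg.1, h.fix_base.1 ?_⟩, fun hg => ⟨hg.1, hfixy g hg⟩⟩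
    rw [mul_smul, mul_smul, ← hx₀, ← hy₀, hg.2, hy₀, ← mul_smul, mul_self hv, one_smul]
  rcases (D.ab hna).dichotomy with hd | ⟨hd, -⟩
  swap
  · rw [htwo] at hd
    have := h.even
    have hpos : 0 < Nat.card K := Nat.card_pos
    omega
  rw [htwo] at hd
  obtain ⟨T, hT⟩ := h.good.sylow 2 Nat.prime_two h.even
  have hTK : (T : Subgroup G) = K := (T.3 hK2 hT).symm
  haveI := Fintype.ofFinite K
  have hel : ∀ a ∈ K, a ≠ 1 → orderOf a = 2 := by
    intro a ha ha1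
    let f : h.J → {a : K // a ≠ 1} := fun t => ⟨⟨t.1, t.2.2⟩, fun e => ne_one t.2.1 (congrArg Subtype.val e)⟩
    have hc : Nat.card h.J = Nat.card {a : K // a ≠ 1} := by
      rw [show Nat.card h.J = h.m from rfl, hd, Nat.card_eq_fintype_card (α := {a : K // a ≠ 1}),
        Fintype.card_subtype_compl, Fintype.card_subtype_eq, Nat.card_eq_fintype_card]
    obtain ⟨t, ht⟩ := ((Nat.bijective_iff_injective_and_card f).2
      ⟨fun s t e => Subtype.ext (congrArg (fun y : {a : K // a ≠ 1} => ((y : K) : G)) e), hc⟩).2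
      ⟨⟨a, ha⟩, fun e => ha1 (congrArg Subtype.val e)⟩
    have e : t.1 = a := congrArg (fun y : {a : K // a ≠ 1} => ((y : K) : G)) ht
    exact e ▸ t.2.1
  have hcase : ElemCase T := by
    refine ⟨fun hc => ?_, fun hn => ?_, fun t ht => ?_⟩
    · obtain ⟨z, hzK, hz, -⟩ := h.exists_central
      haveI : Subsingleton h.J := by
        haveI : IsCyclic K := hTK ▸ hc
        refine ⟨fun s t => Subtype.ext ?_⟩
        have hpre : ∀ s : h.J, ∃ a : K, (a : G) = s.1 ∧ orderOf a = 2 := fun s =>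
          ⟨⟨s.1, s.2.2⟩, rfl, by rw [Subgroup.orderOf_mk]; exact s.2.1⟩
        obtain ⟨a, ha, ha2⟩ := hpre s
        obtain ⟨b, hb, hb2⟩ := hpre t
        have h1 : (Finset.univ.filter fun x : K => orderOf x = 2).card ≤ 1 := by
          rw [IsCyclic.card_orderOf_eq_totient (ha2 ▸ orderOf_dvd_natCard a |>.trans
            (dvd_of_eq Nat.card_eq_fintype_card))]
          decide
        rw [← ha, ← hb, Finset.card_le_one.1 h1 a (by simp [ha2]) b (by simp [hb2])]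
      have : h.m ≤ 1 := Finite.card_le_one_iff_subsingleton.2 inferInstance
      omega
    · exact h.ne_top (Subgroup.normalizer_eq_top_iff.2 (hTK ▸ hn))
    · obtain ⟨g, hg⟩ : ∃ g : G, g⁻¹ * t * g ∈ K := by
        obtain ⟨z, hzK, hz, -⟩ := h.exists_central
        obtain ⟨g, hg⟩ := isConj_iff.1 (h.isConj hz ht)
        exact ⟨g, by rw [← hg]; simpa [mul_assoc] using hzK⟩
      have hmem : ∀ c ∈ Subgroup.centralizer ({t} : Set G), g⁻¹ * c * g ∈ K := fun c hc => by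
        refine h.good.cent _ hg (fun e => ne_one ht ?_) (mem_Ct.2 ?_)
        · exact (conj_eq_one_iff (a := g⁻¹)).1 (by rwa [inv_inv])
        · calc g⁻¹ * c * g * (g⁻¹ * t * g) = g⁻¹ * (c * t) * g := by group
            _ = g⁻¹ * t * g * (g⁻¹ * c * g) := by rw [mem_Ct.1 hc]; group
      refine ⟨⟨⟨fun a b => Subtype.ext ?_⟩⟩, fun c hc => ?_⟩
      · have e := congrArg (fun x => g * x * g⁻¹) (hna _ (hmem a a.2) _ (hmem b b.2))
        simpa [mul_assoc] using e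
      · by_cases h1 : g⁻¹ * c * g = 1
        · rw [(conj_eq_one_iff (a := g⁻¹)).1 (by rwa [inv_inv] : g⁻¹ * c * g⁻¹⁻¹ = 1), one_pow]
        · have := hel _ (hmem c hc) h1
          rw [show g⁻¹ * c * g = g⁻¹ * c * g⁻¹⁻¹ by group, order_conj] at this
          rw [← this]; exact pow_orderOf_eq_one c
  obtain ⟨F, i1, i2, hF, he⟩ := S1230.key hcase
  obtain ⟨n, hn⟩ := IsPGroup.iff_card.1 T.2
  exact ⟨F, i1, i2, n, hF.trans hn, he⟩

/-- Simple groups with a good subgroup of even order. -/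
theorem main [IsSimpleGroup G] :
    IsTwoTI G := by
  classical
  haveI := Fintype.ofFinite (G ⧸ h.N)
  haveI : Fact (Nat.Prime 2) := ⟨Nat.prime_two⟩
  obtain ⟨v, hv, hvN⟩ := h.exists_invol_not_mem
  set x₀ : G ⧸ h.N := ((1 : G) : G ⧸ h.N) with hx₀
  set y₀ : G ⧸ h.N := v • x₀ with hy₀
  have hyx : y₀ ≠ x₀ := fun e => hvN (h.fix_base.1 e)
  have hfixy : ∀ d ∈ h.D v, d • y₀ = y₀ := fun d hd => by
    have e : (v * d * v) • x₀ = x₀ := h.fix_base.2 ((h.mem_D hv).1 hd).2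
    rw [mul_smul, mul_smul] at e
    rw [← smul_left_cancel_iff v, e, hy₀, ← mul_smul, mul_self hv, one_smul]
  have hzg := h.zassenhaus
  have hm2 := h.two_le_m
  have D : ZassKer.Ker x₀ y₀ K := ZassSuz.ker_of_reg hzg hyx.symm
    (fun a ha => mem_stabilizer_iff.2 (h.fix_base.2 (h.K_le_N ha)))
    (fun g hg a ha => h.conj_K (h.fix_base.1 hg) ha) fun p q hp hq => h.regular hp hq
  have hK2 : IsPGroup 2 K := by
    obtain ⟨p, f, hp, hf, hpf⟩ := (isPrimePow_nat_iff _).mp D.isPrimePow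
    have hp2 : p = 2 := ((Nat.prime_dvd_prime_iff_eq Nat.prime_two hp).mp
      (Nat.prime_two.dvd_of_dvd_pow (hpf ▸ h.even))).symm
    exact IsPGroup.of_card (n := f) (by rw [← hpf, hp2])
  by_cases hna : ∃ a ∈ K, ∃ b ∈ K, a * b ≠ b * a
  · exact Or.inr (ZassSuz.isSuzuki D hna)
  push Not at hna
  exact Or.inl (h.psl_of_comm hna)

end TIHyp

end Cfsg.Agent.CNSimple
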