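import Cfsg.Agent.Lib.CNSimple.Basic
import Cfsg.Agent.Lib.Involutions.BaerSuzuki

/-!
# Groups with centralisers of involutions `2`-groups: the largest normal `2`-subgroup
-/

set_option autoImplicit false
set_option linter.style.haveILetI false
set_option linter.unusedSectionVars false

namespace Cfsg.Agent.CNSimple

open Cfsg.Agent.Invol

universe u

variable {G : Type u} [Group G] [Finite G]

/-- `s` inverting a fixed-point-free `y` centralises at most the square root of a `2`-group. -/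
theorem sqrt_bound (hc : CIT G) {D : Subgroup G} (hD : IsPGroup 2 D) {s y : G} (hs : orderOf s = 2)
    (hy : Odd (orderOf y)) (hy1 : y ≠ 1) (hsy : s * y * s⁻¹ = y⁻¹)
    (hyD : y ∈ Subgroup.normalizer (D : Set G)) :
    Nat.card (D ⊓ Ct s : Subgroup G) * Nat.card (D ⊓ Ct s : Subgroup G) ≤ Nat.card D := by
  have hy2 : y * y ≠ 1 := fun e => hy1 <| orderOf_eq_one_iff.1 <|
    Nat.eq_one_of_dvd_coprimes (Nat.coprime_two_right.2 hy) dvd_rfl
      (orderOf_dvd_of_pow_eq_one (by rw [pow_two, e]))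
  rw [← Nat.card_prod]
  refine Nat.card_le_card_of_injective (fun p => (⟨(p.1 : G) * (y * p.2 * y⁻¹),
    mul_mem p.1.2.1 ((Subgroup.mem_normalizer_iff.1 hyD _).1 p.2.2.1)⟩ : D)) ?_
  rintro ⟨a, b⟩ ⟨a', b'⟩ e
  have e' : (a : G) * (y * b * y⁻¹) = a' * (y * b' * y⁻¹) := congrArg Subtype.val e
  obtain ⟨c, hcdef⟩ : ∃ c, c = (a' : G)⁻¹ * a := ⟨_, rfl⟩
  have hc2 : c = y * ((b' : G) * (b : G)⁻¹) * y⁻¹ := by
    calc c = (a' : G)⁻¹ * (a * (y * b * y⁻¹)) * (y * b * y⁻¹)⁻¹ := by rw [hcdef]; group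
      _ = _ := by rw [e']; group
  have hcD : c ∈ D := hcdef ▸ mul_mem (inv_mem a'.2.1) a.2.1
  have hcs : c * s = s * c := mem_Ct.1 (hcdef ▸ mul_mem (inv_mem a'.2.2) a.2.2 : c ∈ Ct s)
  have hbs : (b' : G) * (b : G)⁻¹ * s = s * ((b' : G) * (b : G)⁻¹) :=
    mem_Ct.1 (mul_mem b'.2.2 (inv_mem b.2.2) : (b' : G) * (b : G)⁻¹ ∈ Ct s)
  have hys : y * s * y⁻¹ = y * y * s := by
    have h1 : s * y⁻¹ = y * s := by
      have h := congrArg (fun x => x⁻¹ * s) hsy
      simpa [mul_assoc] using h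
    rw [mul_assoc, h1, mul_assoc]
  have hcys : c * (y * y * s) = y * y * s * c := by
    rw [← hys, hc2]
    calc y * ((b' : G) * (b : G)⁻¹) * y⁻¹ * (y * s * y⁻¹)
        = y * ((b' : G) * (b : G)⁻¹ * s) * y⁻¹ := by group
      _ = y * s * y⁻¹ * (y * ((b' : G) * (b : G)⁻¹) * y⁻¹) := by rw [hbs]; group
  have hcyy : y * y * c = c * (y * y) := by
    calc y * y * c = y * y * (s * s) * c := by rw [mul_self hs, mul_one]
      _ = y * y * s * (s * c) := by group
      _ = y * y * s * c * s := by rw [← hcs]; group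
      _ = c * (y * y * s) * s := by rw [hcys]
      _ = c * (y * y) * (s * s) := by group
      _ = c * (y * y) := by rw [mul_self hs, mul_one]
  have hc1 : c = 1 := by
    by_contra hne
    obtain ⟨k, hk⟩ := order_two_pow hD hcD
    refine hy2 (hc.odd_comm hne hk ?_ hcyy)
    rw [← pow_two, (Nat.coprime_two_right.2 hy).orderOf_pow]; exact hy
  have ha : a = a' := Subtype.ext (inv_mul_eq_one.1 (hcdef ▸ hc1)).symm
  have hb : (b' : G) * (b : G)⁻¹ = 1 := conj_eq_one_iff.1 (hc2.symm.trans hc1)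
  exact Prod.ext ha (Subtype.ext (mul_inv_eq_one.1 hb).symm)

/-- `X` is the largest normal `2`-subgroup. -/
structure IsO2 (X : Subgroup G) : Prop where
  normal : X.Normal
  isPGroup : IsPGroup 2 X
  le : ∀ N : Subgroup G, N.Normal → IsPGroup 2 N → N ≤ X

theorem isO2_pCore : IsO2 (Cfsg.pCore 2 G) := by
  haveI : Fact (Nat.Prime 2) := ⟨Nat.prime_two⟩
  exact ⟨inferInstance, LEBasic.pCore_isPGroup, fun N hN hp => LEBasic.le_pCore hN hp⟩

variable {X : Subgroup G} (hX : IsO2 X)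
include hX

theorem IsO2.centralizer_le (hc : CIT G) {V : Subgroup G} [V.Normal] (hV : IsPGroup 2 V) (hV1 : V ≠ ⊥) :
    Subgroup.centralizer (V : Set G) ≤ X := by
  obtain ⟨⟨v, hv⟩, hv1⟩ := Subgroup.ne_bot_iff_exists_ne_one.1 hV1
  have hv1' : v ≠ 1 := fun e => hv1 (Subtype.ext e)
  obtain ⟨k, hk⟩ := order_two_pow hV hv
  exact hX.le _ inferInstance ((hc.isPGroup hv1' hk).to_le (Subgroup.centralizer_le (by simpa using hv)))

/-- Elements of odd order inverted by the involutions outside the largest normal `2`-subgroup. -/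
theorem IsO2.exists_inverted (hc : CIT G) {s₀ : G} (hs₀ : s₀ ∉ X) (hsq : s₀ * s₀ ∈ X) :
    ∃ s y : G, orderOf s = 2 ∧ s₀⁻¹ * s ∈ X ∧ s ∉ X ∧ (orderOf y).Prime ∧ Odd (orderOf y) ∧
      s * y * s⁻¹ = y⁻¹ := by
  haveI : Fact (Nat.Prime 2) := ⟨Nat.prime_two⟩
  haveI := hX.normal
  set π := QuotientGroup.mk' X with hπ
  set a : G ⧸ X := π s₀ with ha_def
  have ha : orderOf a = 2 := order_two_of_sq (by
    rw [ha_def, ← map_mul]; exact (QuotientGroup.eq_one_iff _).2 hsq)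
    fun e => hs₀ ((QuotientGroup.eq_one_iff _).1 e)
  obtain ⟨g, hg⟩ : ∃ g : G ⧸ X, ¬ IsPGroup 2
      ↥(Subgroup.zpowers a ⊔ (Subgroup.zpowers a).map (MulAut.conj g).toMonoidHom) := by
    by_contra hcon
    push Not at hcon
    obtain ⟨N, hN, hNp, haN⟩ := BaerSuzuki.baerSuzuki (Subgroup.zpowers a)
      (IsPGroup.of_card (n := 1) (by rw [Nat.card_zpowers, ha, pow_one])) hcon
    refine hs₀ (hX.le (N.comap π) (hN.comap π) (hNp.comap_of_ker_isPGroup π ?_)
      (Subgroup.mem_comap.2 (haN (Subgroup.mem_zpowers a))))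
    rw [hπ, QuotientGroup.ker_mk']; exact hX.isPGroup
  set b : G ⧸ X := g * a * g⁻¹ with hb_def
  have hb : orderOf b = 2 := (order_conj g a).trans ha
  have hle : Subgroup.zpowers a ⊔ (Subgroup.zpowers a).map (MulAut.conj g).toMonoidHom ≤
      Subgroup.closure ({a, b} : Set (G ⧸ X)) := by
    refine sup_le (Subgroup.zpowers_le.2 (Subgroup.subset_closure (by simp))) ?_
    rw [MonoidHom.map_zpowers]
    exact Subgroup.zpowers_le.2 (Subgroup.subset_closure (by simp [hb_def]))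
  obtain ⟨r, hr, hr2, hrd⟩ : ∃ r, r.Prime ∧ r ≠ 2 ∧ r ∣ orderOf (a * b) := by
    by_contra hcon
    push Not at hcon
    refine hg ?_
    rintro ⟨x, hx⟩
    have hk : orderOf (a * b) = 2 ^ (orderOf (a * b)).primeFactorsList.length :=
      Nat.eq_prime_pow_of_unique_prime_dvd (orderOf_pos _).ne' fun {d} hd hdd => by
        by_contra hne
        exact hcon d hd hne hdd
    obtain ⟨i, e | e⟩ := mem_closure_pair ha hb (hle hx)
    · refine ⟨(orderOf (a * b)).primeFactorsList.length, Subtype.ext ?_⟩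
      push_cast
      rw [e, ← zpow_natCast, ← zpow_mul, mul_comm, zpow_mul, zpow_natCast, ← hk, pow_orderOf_eq_one,
        one_zpow]
    · refine ⟨1, Subtype.ext ?_⟩
      push_cast
      rw [pow_two, e, inverted_mul_invol ha (conj_mul ha hb) i]
  haveI := Fact.mk hr
  obtain ⟨m, hm⟩ := hrd
  set c : G ⧸ X := (a * b) ^ m with hc_def
  have hm0 : m ≠ 0 := by rintro rfl; rw [mul_zero] at hm; exact (orderOf_pos (a * b)).ne' hm
  have hco : orderOf c = r := by
    rw [hc_def, orderOf_pow' _ hm0, hm, Nat.gcd_eq_right (dvd_mul_left m r),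
      Nat.mul_div_cancel _ (Nat.pos_of_ne_zero hm0)]
  have hac : a * c * a⁻¹ = c⁻¹ := Invol.conj_pow (conj_mul ha hb) m
  obtain ⟨y₀, hy₀⟩ := QuotientGroup.mk_surjective c
  obtain ⟨n, hn⟩ := IsPGroup.iff_card.1 hX.isPGroup
  set y := y₀ ^ 2 ^ n with hy_def
  have hyr : y ^ r = 1 := by
    have hmem : y₀ ^ r ∈ X := (QuotientGroup.eq_one_iff _).1 (by
      rw [QuotientGroup.mk_pow, hy₀, ← hco, pow_orderOf_eq_one])
    rw [hy_def, ← pow_mul, mul_comm, pow_mul, ← hn]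
    exact congrArg Subtype.val (pow_card_eq_one' (x := (⟨_, hmem⟩ : X)))
  have hrodd : Odd r := hr.odd_of_ne_two hr2
  have hyimg : π y = c ^ 2 ^ n := by rw [hy_def, map_pow, ← hy₀]; rfl
  have hy1 : y ≠ 1 := fun e => by
    rw [e, map_one] at hyimg
    have h1 : c = 1 := orderOf_eq_one_iff.1 (Nat.eq_one_of_dvd_coprimes
      ((coprime_two_of_odd hrodd n)) (hco ▸ dvd_rfl) (orderOf_dvd_of_pow_eq_one hyimg.symm))
    rw [h1, orderOf_one] at hco
    exact hr.ne_one hco.symm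
  have hyo : orderOf y = r := orderOf_eq_prime hyr hy1
  have hfix : ∀ x ∈ X, y * x = x * y → x = 1 := fun x hx e => by
    by_contra hne
    obtain ⟨k, hk⟩ := order_two_pow hX.isPGroup hx
    exact hy1 (hc.odd_comm hne hk (hyo ▸ hrodd) e)
  set y' := (s₀ * y * s₀⁻¹)⁻¹ with hy'_def
  have hd : y' * y⁻¹ ∈ X := by
    refine (QuotientGroup.eq_one_iff _).1 (?_ : π (y' * y⁻¹) = 1)
    rw [map_mul, hy'_def, map_inv, map_mul, map_mul, map_inv, map_inv, hyimg, ← ha_def,
      Invol.conj_pow hac, inv_inv, mul_inv_cancel]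
  let f : X → X := fun x => ⟨(x : G) * (y * (x : G)⁻¹ * y⁻¹),
    mul_mem x.2 (hX.normal.conj_mem _ (inv_mem x.2) y)⟩
  have hinj : Function.Injective f := fun x x' e => by
    have e' : (x : G) * (y * (x : G)⁻¹ * y⁻¹) = x' * (y * (x' : G)⁻¹ * y⁻¹) := congrArg Subtype.val e
    refine Subtype.ext (inv_mul_eq_one.1 (hfix _ (mul_mem (inv_mem x'.2) x.2) ?_)).symm
    calc y * ((x' : G)⁻¹ * x) = (x' : G)⁻¹ * ((x' : G) * (y * (x' : G)⁻¹ * y⁻¹)) * y * x := by group
      _ = (x' : G)⁻¹ * x * y := by rw [← e']; group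
  obtain ⟨x, hx⟩ := (Finite.injective_iff_surjective.1 hinj) ⟨_, hd⟩
  have hx' : (x : G) * y * (x : G)⁻¹ = y' := by
    have e : (x : G) * (y * (x : G)⁻¹ * y⁻¹) = y' * y⁻¹ := congrArg Subtype.val hx
    calc (x : G) * y * (x : G)⁻¹ = (x : G) * (y * (x : G)⁻¹ * y⁻¹) * y := by group
      _ = y' := by rw [e]; group
  set s := (x : G)⁻¹ * s₀ with hs_def
  have hsy : s * y * s⁻¹ = y⁻¹ := by
    calc s * y * s⁻¹ = (x : G)⁻¹ * (s₀ * y * s₀⁻¹) * x := by rw [hs_def]; group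
      _ = (x : G)⁻¹ * y'⁻¹ * x := by rw [hy'_def, inv_inv]
      _ = y⁻¹ := by rw [← hx']; group
  have hsX : s ∉ X := fun e => hs₀ (by
    have := mul_mem x.2 e
    rwa [hs_def, mul_inv_cancel_left] at this)
  have himg : π s = a := by
    rw [hs_def, map_mul, map_inv, (QuotientGroup.eq_one_iff _).2 x.2 |> (fun e : π (x : G) = 1 => e),
      inv_one, one_mul]
  refine ⟨s, y, order_two_of_sq ?_ (fun e => hsX (e ▸ X.one_mem)), ?_, hsX, hyo ▸ hr, hyo ▸ hrodd, hsy⟩
  · refine hfix _ ((QuotientGroup.eq_one_iff _).1 (by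
      show π (s * s) = 1
      rw [map_mul, himg, mul_self ha])) ?_
    have h1 : s * y⁻¹ * s⁻¹ = y := by
      have := congrArg (·⁻¹) hsy
      simpa [mul_assoc] using this
    calc y * (s * s) = s * y⁻¹ * s⁻¹ * (s * s) := by rw [h1]
      _ = s * (y⁻¹ * s) := by group
      _ = s * (s * y * s⁻¹ * s) := by rw [hsy]
      _ = s * s * y := by group
  · refine (QuotientGroup.eq_one_iff _).1 (?_ : π (s₀⁻¹ * s) = 1)
    rw [map_mul, map_inv, himg, ← ha_def, inv_mul_cancel]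

/-- The quotient again has `2`-groups as centralisers of involutions. -/
theorem IsO2.quotient_cit [X.Normal] (hc : CIT G) : CIT (G ⧸ X) := by
  haveI : Fact (Nat.Prime 2) := ⟨Nat.prime_two⟩
  intro a ha
  obtain ⟨t, ht⟩ := QuotientGroup.mk_surjective a
  obtain ⟨n, hn⟩ := IsPGroup.iff_card.1 hX.isPGroup
  have htX : t ∉ X := fun e => ne_one ha (ht ▸ (QuotientGroup.eq_one_iff t).2 e)
  have htsq : t * t ∈ X := (QuotientGroup.eq_one_iff _).1 (by
    rw [QuotientGroup.mk_mul, ht, mul_self ha])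
  rintro ⟨c, hc'⟩
  refine ⟨_, Subtype.ext (orderOf_dvd_iff_pow_eq_one.mp (dvd_of_eq
    (Nat.eq_prime_pow_of_unique_prime_dvd (p := 2) (orderOf_pos c).ne' fun {d} hd hdd => ?_)))⟩
  by_contra hne
  haveI := Fact.mk hd
  obtain ⟨⟨w, hwc⟩, hw⟩ := exists_prime_orderOf_dvd_card' (G := Subgroup.zpowers c) d
    (by rwa [Nat.card_zpowers])
  rw [Subgroup.orderOf_mk] at hw
  have hwa : w ∈ Ct a := Subgroup.zpowers_le.2 hc' hwc
  have hdodd : Odd d := hd.odd_of_ne_two hne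
  obtain ⟨y₀, hy₀⟩ := QuotientGroup.mk_surjective w
  set y := y₀ ^ 2 ^ n with hy_def
  have hyd : y ^ d = 1 := by
    have hmem : y₀ ^ d ∈ X := (QuotientGroup.eq_one_iff _).1 (by
      rw [QuotientGroup.mk_pow, hy₀, ← hw, pow_orderOf_eq_one])
    rw [hy_def, ← pow_mul, mul_comm, pow_mul, ← hn]
    exact congrArg Subtype.val (pow_card_eq_one' (x := (⟨_, hmem⟩ : X)))
  have hyodd : Odd (orderOf y) := hdodd.of_dvd_nat (orderOf_dvd_of_pow_eq_one hyd)
  have hyimg : (y : G ⧸ X) = w ^ 2 ^ n := by rw [hy_def, QuotientGroup.mk_pow, hy₀]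
  have hy1 : y ≠ 1 := fun e => by
    rw [e, QuotientGroup.mk_one] at hyimg
    have h1 : w = 1 := orderOf_eq_one_iff.1 (Nat.eq_one_of_dvd_coprimes
      ((coprime_two_of_odd hdodd n)) (hw ▸ dvd_rfl) (orderOf_dvd_of_pow_eq_one hyimg.symm))
    rw [h1, orderOf_one] at hw
    exact hd.ne_one hw.symm
  have hcomm : Commute (y : G ⧸ X) (t : G ⧸ X) := by
    rw [hyimg, ht]
    exact (show Commute w a from mem_Ct.1 hwa).pow_left _
  obtain ⟨r, hr, hrc⟩ := CN.exists_lift_commute (N := X) (x := y) (y := t)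
    (by rw [Subgroup.normalizer_eq_top]; exact Subgroup.mem_top _) (fun r hr hyr => by
      by_contra hne'
      obtain ⟨k, hk⟩ := order_two_pow hX.isPGroup hr
      exact hy1 (hc.odd_comm hne' hk hyodd hyr.eq)) (CN.commute_mod_iff.1 hcomm)
  have hrt : r⁻¹ * t ∉ X := fun e => htX (by
    have := mul_mem hr e
    rwa [mul_inv_cancel_left] at this)
  have hp : IsPGroup 2 (Subgroup.zpowers t ⊔ X : Subgroup G) := by
    refine IsPGroup.to_sup_of_normal_right ?_ hX.isPGroup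
    obtain ⟨k, hk⟩ := order_two_pow hX.isPGroup htsq
    refine fun x => ?_
    obtain ⟨i, hi⟩ := Subgroup.mem_zpowers_iff.1 x.2
    refine ⟨k + 1, Subtype.ext ?_⟩
    push_cast
    rw [← hi, ← zpow_natCast, ← zpow_mul, mul_comm, zpow_mul, zpow_natCast, pow_succ', pow_mul, pow_two,
      ← hk, pow_orderOf_eq_one, one_zpow]
  obtain ⟨k, hk⟩ := order_two_pow hp (mul_mem (Subgroup.mem_sup_right (inv_mem hr))
    (Subgroup.mem_sup_left (Subgroup.mem_zpowers t)))
  exact hy1 (hc.odd_comm (fun e => hrt (by rw [e]; exact X.one_mem)) hk hyodd hrc.eq)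

theorem IsO2.quotient_o2 [X.Normal] : ∀ N : Subgroup (G ⧸ X), N.Normal → IsPGroup 2 N → N = ⊥ := by
  intro N hN hp
  haveI := hN
  have hle := hX.le (N.comap (QuotientGroup.mk' X)) (hN.comap _)
    (hp.comap_of_ker_isPGroup _ (by rw [QuotientGroup.ker_mk']; exact hX.isPGroup))
  refine (Subgroup.eq_bot_iff_forall _).2 fun a ha => ?_
  obtain ⟨t, rfl⟩ := QuotientGroup.mk_surjective a
  exact (QuotientGroup.eq_one_iff t).2 (hle ha)

theorem IsO2.quotient_cn [X.Normal] (hCN : Cfsg.IsCNGroup G) : Cfsg.IsCNGroup (G ⧸ X) := by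
  haveI : Fact (Nat.Prime 2) := ⟨Nat.prime_two⟩
  by_cases h : X = ⊥
  · exact CN.cn_of_mulEquiv ((QuotientGroup.quotientMulEquivOfEq h).trans QuotientGroup.quotientBot) hCN
  · exact CN.quotient_cn_gen hCN hX.isPGroup h

end Cfsg.Agent.CNSimple
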