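import Cfsg.Agent.Lib.CNSimple.TI
import Cfsg.Agent.Lib.CNSimple.Defs
import Cfsg.Agent.Lib.CN.General
import Cfsg.Agent.Lib.LocalEven.Basic

/-!
# CN groups of even order: the centraliser of a central involution

Either all centralisers of involutions are `2`-groups, or the centraliser of a central involution
is a good subgroup.
-/

set_option autoImplicit false
set_option linter.style.haveILetI false
set_option linter.unusedSectionVars false

open scoped Pointwise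

namespace Cfsg.Agent.CNSimple

open Cfsg.Agent.Invol

universe u

variable {G : Type u} [Group G] [Finite G]

theorem exists_pow_invol {x : G} (hx : x ≠ 1) {k : ℕ} (hk : orderOf x = 2 ^ k) :
    ∃ j : ℕ, orderOf (x ^ j) = 2 := by
  rcases Nat.eq_zero_or_pos k with rfl | hkpos
  · exact absurd (orderOf_eq_one_iff.1 (by rw [hk, pow_zero])) hx
  refine ⟨2 ^ (k - 1), ?_⟩
  rw [orderOf_pow' _ (by positivity), hk,
    Nat.gcd_eq_right (pow_dvd_pow 2 (Nat.sub_le k 1)), Nat.pow_div (Nat.sub_le k 1) two_pos,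
    show k - (k - 1) = 1 by omega, pow_one]

theorem order_two_pow {x : G} {P : Subgroup G} (hP : IsPGroup 2 P) (hx : x ∈ P) :
    ∃ k, orderOf x = 2 ^ k := by
  haveI : Fact (Nat.Prime 2) := ⟨Nat.prime_two⟩
  obtain ⟨k, hk⟩ := IsPGroup.iff_orderOf.1 hP ⟨x, hx⟩
  exact ⟨k, by rwa [Subgroup.orderOf_mk] at hk⟩

theorem eq_one_of_odd {x : G} {P : Subgroup G} (hP : IsPGroup 2 P) (hx : x ∈ P)
    (ho : Odd (orderOf x)) : x = 1 := by
  obtain ⟨k, hk⟩ := order_two_pow hP hx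
  rcases Nat.eq_zero_or_pos k with rfl | hkpos
  · exact orderOf_eq_one_iff.1 (by rw [hk, pow_zero])
  · rw [hk] at ho
    exact absurd ho (Nat.not_odd_iff_even.2 (Nat.even_pow.2 ⟨even_two, by omega⟩))

theorem coprime_two_of_odd {n : ℕ} (hn : Odd n) (k : ℕ) : Nat.Coprime n (2 ^ k) :=
  (Nat.coprime_two_right.2 hn).pow_right k

theorem CIT.isPGroup (hc : CIT G) {x : G} (hx : x ≠ 1) {k : ℕ} (hk : orderOf x = 2 ^ k) :
    IsPGroup 2 (Ct x) := by
  obtain ⟨j, hj⟩ := exists_pow_invol hx hk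
  refine (hc _ hj).to_le fun g hg => ?_
  exact mem_Ct.2 ((show Commute g x from mem_Ct.1 hg).pow_right j).eq

/-- An element of odd order commuting with a non-trivial `2`-element is trivial. -/
theorem CIT.odd_comm (hc : CIT G) {x y : G} (hx : x ≠ 1) {k : ℕ} (hk : orderOf x = 2 ^ k)
    (hy : Odd (orderOf y)) (hxy : y * x = x * y) : y = 1 :=
  eq_one_of_odd (hc.isPGroup hx hk) (mem_Ct.2 hxy) hy

theorem CIT.subgroup (hc : CIT G) (H : Subgroup G) : CIT H := by
  intro t ht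
  have h := hc t (by rwa [Subgroup.orderOf_coe])
  refine (h.comap_of_injective H.subtype H.subtype_injective).to_le fun a ha => ?_
  exact mem_Ct.2 (congrArg Subtype.val (mem_Ct.1 ha))

/-- An involution in the centre of a Sylow `2`-subgroup. -/
theorem exists_central_invol (hev : 2 ∣ Nat.card G) (S : Sylow 2 G) :
    ∃ z ∈ (S : Subgroup G), orderOf z = 2 ∧ (S : Subgroup G) ≤ Ct z := by
  haveI : Fact (Nat.Prime 2) := ⟨Nat.prime_two⟩
  obtain ⟨⟨w, hwS, hwc⟩, hw1⟩ := Subgroup.ne_bot_iff_exists_ne_one.1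
    (CN.exists_center_inf S.isPGroup' (S.ne_bot_of_dvd_card hev))
  obtain ⟨k, hk⟩ := order_two_pow S.isPGroup' hwS
  obtain ⟨j, hj⟩ := exists_pow_invol (fun e => hw1 (Subtype.ext e)) hk
  exact ⟨w ^ j, pow_mem hwS j, hj, fun a ha =>
    mem_Ct.2 ((show Commute a w from hwc a ha).pow_right j).eq⟩

section CN

variable (hCN : Cfsg.IsCNGroup G)
include hCN

/-- The centraliser of a central involution is good unless it is a `2`-group. -/
theorem good_Ct (S : Sylow 2 G) {z : G} (hz : orderOf z = 2) (hzS : z ∈ (S : Subgroup G))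
    (hSz : (S : Subgroup G) ≤ Ct z) (hnp : ¬ IsPGroup 2 (Ct z)) : CN.Good (Ct z) := by
  haveI : Fact (Nat.Prime 2) := ⟨Nat.prime_two⟩
  have hnil : Group.IsNilpotent (Ct z) := hCN z (ne_one hz)
  have hcop : ∀ {r : ℕ} {y : G}, r.Prime → r ≠ 2 → (∃ j, orderOf y = r ^ j) →
      (orderOf y).Coprime (orderOf z) := fun hr hne ⟨j, hj⟩ => by
    rw [hj, hz]; exact ((Nat.coprime_primes hr Nat.prime_two).2 hne).pow_left j
  have hHall : ∀ {t : ℕ} [Fact t.Prime] (T : Sylow t G), t ≠ 2 → ∀ y ∈ T, y ≠ 1 → y ∈ Ct z →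
      (T : Subgroup G) ≤ Ct z := by
    intro t _ T htp y hyT hy1 hyK s hs
    refine mem_Ct.2 (CN.commute_sylow hCN T hyT hy1 ?_ (mem_Ct.1 hyK) hs).symm.eq
    rw [hz]
    exact (Nat.coprime_primes Nat.prime_two Fact.out).2 (Ne.symm htp)
  -- centralisers of elements of odd prime power order
  have hodd : ∀ {r : ℕ} {x : G}, r.Prime → r ≠ 2 → x ∈ Ct z → x ≠ 1 → (∃ j, orderOf x = r ^ j) →
      Ct x ≤ Ct z := by
    intro r x hr hne hx hx1 hxo y hy
    refine CN.mem_of_primePow (Ct z) y fun s w hs hwy hwo => ?_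
    have hwx : w ∈ Ct x := Subgroup.zpowers_le.2 hy hwy
    by_cases hs2 : s = 2
    · subst hs2
      refine hSz (CN.mem_sylow_of_mem (hCN x hx1) S (fun a ha => ?_) hwx hwo)
      obtain ⟨m, hm⟩ := order_two_pow S.isPGroup' ha
      refine mem_Ct.2 (CN.commute_of_coprime hnil hx (hSz ha) ?_).symm.eq
      obtain ⟨j, hj⟩ := hxo
      rw [hj, hm]
      exact ((Nat.coprime_primes hr Nat.prime_two).2 hne).pow j m
    · exact mem_Ct.2 (CN.commute_of_coprime (hCN x hx1) hwx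
        (mem_Ct.2 (mem_Ct.1 hx).symm) (hcop hs hs2 hwo)).eq
  obtain ⟨a₀, r₀, ha₀, ha₀1, hr₀, hr₀2, ha₀o⟩ : ∃ (a : G) (r : ℕ), a ∈ Ct z ∧ a ≠ 1 ∧ r.Prime ∧
      r ≠ 2 ∧ ∃ j, orderOf a = r ^ j := by
    by_contra hcon
    apply hnp
    rintro ⟨c, hc⟩
    refine ⟨_, Subtype.ext (orderOf_dvd_iff_pow_eq_one.mp (dvd_of_eq
      (Nat.eq_prime_pow_of_unique_prime_dvd (p := 2) (orderOf_pos c).ne' fun {d} hd hdd => ?_)))⟩
    by_contra hne
    haveI := Fact.mk hd
    obtain ⟨w, hw⟩ := exists_prime_orderOf_dvd_card' (G := Subgroup.zpowers c) d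
      (by rwa [Nat.card_zpowers])
    refine hcon ⟨w, d, Subgroup.zpowers_le.mpr hc w.2, fun e => ?_, hd, hne, 1,
      by rw [pow_one, Subgroup.orderOf_coe]; exact hw⟩
    rw [OneMemClass.coe_eq_one] at e
    rw [e, orderOf_one] at hw
    exact hd.ne_one hw.symm
  refine ⟨hnil, fun e => ne_one hz (Subgroup.mem_bot.1 (e ▸ self_mem_Ct z)), ?_, ?_⟩
  · intro t ht hd _
    by_cases htp : t = 2
    · subst htp; exact ⟨S, hSz⟩
    obtain ⟨y, hy⟩ := exists_prime_orderOf_dvd_card' (G := Ct z) t hd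
    obtain ⟨T, hT⟩ := (IsPGroup.of_card (n := 1) (by
      rw [Nat.card_zpowers, Subgroup.orderOf_coe, hy, pow_one]) :
        IsPGroup t (Subgroup.zpowers (y : G))).exists_le_sylow
    refine ⟨T, hHall T htp y (hT (Subgroup.mem_zpowers _)) (fun e => ?_) y.2⟩
    rw [OneMemClass.coe_eq_one] at e
    rw [e, orderOf_one] at hy
    exact ht.ne_one hy.symm
  · intro k hk hk1
    obtain ⟨r, x, hr, hx1, hxk, hxo⟩ := CN.exists_prime_part hk1
    have hxK : x ∈ Ct z := Subgroup.zpowers_le.2 hk hxk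
    intro y hy
    have hyx : y ∈ Ct x := by
      obtain ⟨n, rfl⟩ := Subgroup.mem_zpowers_iff.1 hxk
      exact mem_Ct.2 ((show Commute y k from mem_Ct.1 hy).zpow_right n).eq
    by_cases hr2 : r = 2
    swap
    · exact hodd hr hr2 hxK hx1 hxo hyx
    subst hr2
    have hzx : z ∈ Ct x := mem_Ct.2 (mem_Ct.1 hxK).symm
    refine CN.mem_of_primePow (Ct z) y fun s w hs hwy hwo => ?_
    have hwx : w ∈ Ct x := Subgroup.zpowers_le.2 hyx hwy
    by_cases hs2 : s = 2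
    swap
    · exact mem_Ct.2 (CN.commute_of_coprime (hCN x hx1) hwx hzx (hcop hs hs2 hwo)).eq
    subst hs2
    have hax : a₀ ∈ Ct x := by
      obtain ⟨j, hj⟩ := hxo
      obtain ⟨i, hi⟩ := ha₀o
      exact mem_Ct.2 (CN.commute_of_coprime hnil ha₀ hxK
        (by rw [hi, hj]; exact ((Nat.coprime_primes hr₀ Nat.prime_two).2 hr₀2).pow i j)).eq
    refine hodd hr₀ hr₀2 ha₀ ha₀1 ha₀o (mem_Ct.2 (CN.commute_of_coprime (hCN x hx1) hwx hax ?_).eq)
    obtain ⟨j, hj⟩ := hwo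
    obtain ⟨i, hi⟩ := ha₀o
    rw [hi, hj]
    exact ((Nat.coprime_primes Nat.prime_two hr₀).2 (Ne.symm hr₀2)).pow j i

/-- Either a good subgroup of even order exists, or all centralisers of involutions are `2`-groups. -/
theorem good_or_cit (hev : 2 ∣ Nat.card G) :
    (∃ K : Subgroup G, CN.Good K ∧ 2 ∣ Nat.card K) ∨ CIT G := by
  haveI : Fact (Nat.Prime 2) := ⟨Nat.prime_two⟩
  by_cases hex : ∃ (S : Sylow 2 G) (z : G), orderOf z = 2 ∧ z ∈ (S : Subgroup G) ∧
      (S : Subgroup G) ≤ Ct z ∧ ¬ IsPGroup 2 (Ct z)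
  · obtain ⟨S, z, hz, hzS, hSz, hnp⟩ := hex
    exact Or.inl ⟨_, good_Ct hCN S hz hzS hSz hnp,
      (S.dvd_card_of_dvd_card hev).trans (Subgroup.card_dvd_of_le hSz)⟩
  right
  push Not at hex
  intro t ht
  have hnil : Group.IsNilpotent (Ct t) := hCN t (ne_one ht)
  obtain ⟨P⟩ : Nonempty (Sylow 2 (Ct t)) := inferInstance
  obtain ⟨S, hS⟩ := (P.isPGroup'.map (Ct t).subtype).exists_le_sylow
  obtain ⟨z, hzS, hz, hSz⟩ := exists_central_invol hev S
  have htS : t ∈ (S : Subgroup G) := hS ⟨⟨t, self_mem_Ct t⟩, (by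
    haveI : Group.IsNilpotent (Ct t) := hnil
    haveI : (P : Subgroup (Ct t)).Normal := inferInstance
    haveI := Sylow.unique_of_normal P ‹_›
    obtain ⟨Q, hQ⟩ := (IsPGroup.of_card (n := 1) (by
      rw [Nat.card_zpowers, Subgroup.orderOf_mk, ht, pow_one]) :
        IsPGroup 2 (Subgroup.zpowers (⟨t, self_mem_Ct t⟩ : Ct t))).exists_le_sylow
    rw [Subsingleton.elim Q P] at hQ
    exact hQ (Subgroup.mem_zpowers _)), rfl⟩
  have hzt : z ∈ Ct t := mem_Ct.2 (mem_Ct.1 (hSz htS)).symm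
  rintro ⟨c, hc⟩
  have hp := hex S z hz hzS hSz
  refine ⟨_, Subtype.ext (orderOf_dvd_iff_pow_eq_one.mp (dvd_of_eq
    (Nat.eq_prime_pow_of_unique_prime_dvd (p := 2) (orderOf_pos c).ne' fun {d} hd hdd => ?_)))⟩
  by_contra hne
  haveI := Fact.mk hd
  obtain ⟨⟨w, hwc⟩, hw⟩ := exists_prime_orderOf_dvd_card' (G := Subgroup.zpowers c) d
    (by rwa [Nat.card_zpowers])
  rw [Subgroup.orderOf_mk] at hw
  have hwt : w ∈ Ct t := Subgroup.zpowers_le.2 hc hwc
  have hwodd : Odd (orderOf w) := by rw [hw]; exact hd.odd_of_ne_two hne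
  refine hd.ne_one (hw.symm.trans (orderOf_eq_one_iff.2 (eq_one_of_odd hp (mem_Ct.2 ?_) hwodd)))
  exact (CN.commute_of_coprime hnil hwt hzt (by rw [hw, hz]; exact (Nat.coprime_primes hd Nat.prime_two).2 hne)).eq

end CN

/-- A TI Sylow `2`-subgroup is good when centralisers of involutions are `2`-groups. -/
theorem good_of_ti (hc : CIT G) (hev : 2 ∣ Nat.card G) (S : Sylow 2 G)
    (hTI : ∀ g : G, ∀ x ∈ (S : Subgroup G), x ≠ 1 → g * x * g⁻¹ ∈ (S : Subgroup G) →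
      g ∈ Subgroup.normalizer ((S : Subgroup G) : Set G)) :
    CN.Good (S : Subgroup G) := by
  haveI : Fact (Nat.Prime 2) := ⟨Nat.prime_two⟩
  refine ⟨S.isPGroup'.isNilpotent, S.ne_bot_of_dvd_card hev, fun t ht hd => ?_, fun k hk hk1 => ?_⟩
  · intro _
    obtain ⟨n, hn⟩ := IsPGroup.iff_card.1 S.isPGroup'
    have : t = 2 := (Nat.prime_dvd_prime_iff_eq ht Nat.prime_two).1 (ht.dvd_of_dvd_pow (hn ▸ hd))
    subst this
    exact ⟨S, le_rfl⟩
  obtain ⟨n, hn⟩ := order_two_pow S.isPGroup' hk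
  obtain ⟨S', hS'⟩ := (hc.isPGroup hk1 hn).exists_le_sylow
  obtain ⟨g, rfl⟩ := MulAction.exists_smul_eq G S S'
  have hk' : g⁻¹ * k * g ∈ (S : Subgroup G) := by
    have := hS' (self_mem_Ct k)
    rw [Sylow.coe_subgroup_smul, Subgroup.mem_pointwise_smul_iff_inv_smul_mem,
      ← map_inv, MulAut.smul_def, MulAut.conj_apply, inv_inv] at this
    exact this
  have hg := hTI g⁻¹ k hk hk1 (by rwa [inv_inv])
  rwa [Sylow.smul_eq_iff_mem_normalizer.2 (inv_mem_iff.1 hg)] at hS'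

end Cfsg.Agent.CNSimple
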