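import Cfsg.Agent.Lib.CNSimple.Frame

/-!
# A Sylow subgroup generated by two modules: the modules have order at most sixteen
-/

set_option autoImplicit false
set_option linter.style.haveILetI false
set_option linter.unusedSectionVars false

namespace Cfsg.Agent.CNSimple

open Cfsg.Agent.Invol

universe u

variable {G : Type u} [Group G] [Finite G]

namespace VW

variable {T V W : Subgroup G} {q : ℕ} (p : VW T V W q)
include p

theorem symm : VW T W V q :=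
  ⟨p.card_T, p.card_W, p.card_V, p.elem_W, p.elem_V, p.W_le, p.V_le, by rw [sup_comm]; exact p.sup_eq,
    by rw [inf_comm]; exact p.inf_eq, by rw [inf_comm]; exact p.card_inf,
    fun t ht ht2 => (p.invol t ht ht2).symm, p.cent_W, p.cent_V⟩

theorem exists_not_mem_inf (hq : 2 ≤ q) : ∃ v ∈ V, v ∉ W := by
  by_contra hcon
  push Not at hcon
  have h := Subgroup.card_le_of_le (show V ≤ V ⊓ W from le_inf le_rfl hcon)
  rw [p.card_V, p.card_inf] at h
  nlinarith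

/-- An elementary subgroup lies in one of the two modules. -/
theorem elem_le {A : Subgroup G} (hA : Elem A) (hAT : A ≤ T) : A ≤ V ∨ A ≤ W := by
  by_contra hcon
  push Not at hcon
  obtain ⟨a, ha, haV⟩ := SetLike.not_le_iff_exists.1 hcon.1
  obtain ⟨b, hb, hbW⟩ := SetLike.not_le_iff_exists.1 hcon.2
  have haW := (p.invol a (hAT ha) (hA.1 a ha)).resolve_left haV
  have hbV := (p.invol b (hAT hb) (hA.1 b hb)).resolve_right hbW
  rcases p.invol (a * b) (hAT (A.mul_mem ha hb)) (hA.1 _ (A.mul_mem ha hb)) with h | h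
  · exact haV ((Subgroup.mul_mem_cancel_right V hbV).1 h)
  · exact hbW ((Subgroup.mul_mem_cancel_left W haW).1 h)

theorem elem_eq {A : Subgroup G} (hA : Elem A) (hAT : A ≤ T) (hcard : Nat.card A = q * q) :
    A = V ∨ A = W :=
  (p.elem_le hA hAT).imp (fun h => Subgroup.eq_of_le_of_card_ge h (by rw [hcard, p.card_V]))
    (fun h => Subgroup.eq_of_le_of_card_ge h (by rw [hcard, p.card_W]))

theorem normalizes : T ≤ Subgroup.normalizer (V : Set G) → T ≤ Subgroup.normalizer (W : Set G) →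
    (∀ v ∈ V, ∀ s ∈ T, v * s * v⁻¹ * s⁻¹ ∈ V ⊓ W) ∧ (∀ s ∈ T, s * s ∈ V) ∧
      (∀ s ∈ T, ∀ t ∈ T, s * t * s⁻¹ * t⁻¹ ∈ V) := by
  intro hV hW
  have hdec : ∀ s ∈ T, ∃ a ∈ V, ∃ b ∈ W, a * b = s := by
    intro s hs
    rw [← p.sup_eq, ← SetLike.mem_coe,
      Subgroup.coe_mul_of_right_le_normalizer_left _ _ (p.W_le.trans hV)] at hs
    exact hs
  have hcentral : ∀ z ∈ V ⊓ W, ∀ s ∈ T, z * s = s * z := fun z hz s hs => (p.inf_eq ▸ hz : z ∈ omegaZ T).2.2 s hs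
  have key : ∀ v ∈ V, ∀ s ∈ T, v * s * v⁻¹ * s⁻¹ ∈ V ⊓ W := by
    intro v hv s hs
    obtain ⟨a, ha, b, hb, rfl⟩ := hdec s hs
    have h1 : v * b * v⁻¹ * b⁻¹ ∈ V ⊓ W :=
      ⟨by rw [mul_assoc (v * b), mul_assoc v b]
          refine V.mul_mem hv ?_
          rw [← mul_assoc]
          exact (Subgroup.mem_normalizer_iff.1 (hV (p.W_le hb)) v⁻¹).1 (V.inv_mem hv),
        W.mul_mem ((Subgroup.mem_normalizer_iff.1 (hW (p.V_le hv)) b).1 hb) (W.inv_mem hb)⟩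
    have e : v * (a * b) * v⁻¹ * (a * b)⁻¹ = a * (v * b * v⁻¹ * b⁻¹) * a⁻¹ := by
      rw [show v * (a * b) = a * (v * b) by rw [← mul_assoc, p.elem_V.2 v hv a ha, mul_assoc]]
      group
    rw [e, ← hcentral _ h1 a (p.V_le ha), mul_inv_cancel_right]
    exact h1
  refine ⟨key, fun s hs => ?_, fun s hs t ht => ?_⟩
  · obtain ⟨a, ha, b, hb, rfl⟩ := hdec s hs
    rw [show a * b * (a * b) = a * (b * a * b⁻¹) * (b * b) by group, p.elem_W.1 b hb, mul_one]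
    exact V.mul_mem ha ((Subgroup.mem_normalizer_iff.1 (hV (p.W_le hb)) a).1 ha)
  · obtain ⟨a, ha, b, hb, rfl⟩ := hdec s hs
    obtain ⟨c, hc, d, hd, rfl⟩ := hdec t ht
    have hn : ∀ {x y : G}, x ∈ V → y ∈ T → y * x * y⁻¹ ∈ V := fun hx hy =>
      (Subgroup.mem_normalizer_iff.1 (hV hy) _).1 hx
    have hbd : b * d * b⁻¹ * d⁻¹ = 1 := by rw [p.elem_W.2 b hb d hd]; group
    have e : a * b * (c * d) * (a * b)⁻¹ * (c * d)⁻¹ =
        a * (b * c * b⁻¹) * ((b * d * b⁻¹) * a⁻¹ * (b * d * b⁻¹)⁻¹) * (b * d * b⁻¹ * d⁻¹) * c⁻¹ := by group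
    rw [e, hbd, mul_one]
    exact V.mul_mem (V.mul_mem (V.mul_mem ha (hn hc (p.W_le hb)))
      (hn (V.inv_mem ha) (T.mul_mem (T.mul_mem (p.W_le hb) (p.W_le hd)) (T.inv_mem (p.W_le hb)))))
      (V.inv_mem hc)

end VW

/-- Two natural locals with the same Sylow subgroup have modules of order at most sixteen. -/
theorem q_le_four [IsSimpleGroup G] (hc : CIT G) (ih : IHyp G) {T V W : Subgroup G} {q : ℕ}
    (p : VW T V W q) (nV : Natural (Subgroup.normalizer (V : Set G)) T V q)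
    (nW : Natural (Subgroup.normalizer (W : Set G)) T W q)
    (eV : V = omegaZ V) (eW : W = omegaZ W)
    (hLV : Nat.card (Subgroup.normalizer (V : Set G)) < Nat.card G)
    (hLW : Nat.card (Subgroup.normalizer (W : Set G)) < Nat.card G)
    (hN : Subgroup.normalizer (T : Set G) ⊓ Subgroup.normalizer (V : Set G) ≤
      Subgroup.normalizer (W : Set G)) : q ≤ 4 := by
  classical
  by_contra hq
  have h4 : 4 ≤ q := by omega
  set N₀ := Subgroup.normalizer (T : Set G) ⊓ Subgroup.normalizer (V : Set G) with hN₀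
  set Z := omegaZ T with hZdef
  have hTV : T ≤ Subgroup.normalizer (V : Set G) := nV.loc.T_le
  have hTW : T ≤ Subgroup.normalizer (W : Set G) := nW.loc.T_le
  have hTN₀ : T ≤ N₀ := le_inf Subgroup.le_normalizer hTV
  obtain ⟨hkey, hsqV, hcomV⟩ := p.normalizes hTV hTW
  obtain ⟨-, hsqW, hcomW⟩ := p.symm.normalizes hTW hTV
  obtain ⟨v, w, hv, hw, hvT, hvv, hwv3, hwv, hdecV, hfus, hab⟩ :=
    nV.frame hc ih hLV eV h4 hsqV hcomV
  obtain ⟨v', -, hv', -, hv'T, hv'v, -, -, hdecW, -, -⟩ := nW.frame hc ih hLW eW h4 hsqW hcomW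
  have hZV : Z ≤ V := by rw [hZdef, ← p.inf_eq]; exact inf_le_left
  have hZW : Z ≤ W := by rw [hZdef, ← p.inf_eq]; exact inf_le_right
  have hzc : ∀ z ∈ Z, ∀ t ∈ T, z * t = t * z := fun z hz t ht => hz.2.2 t ht
  have hZ2 : ∀ z ∈ Z, z * z = 1 := fun z hz => hz.2.1
  have hN₀Z : N₀ ≤ Subgroup.normalizer (Z : Set G) := inf_le_left.trans (normalizer_le_omegaZ T)
  have hact : ∀ g ∈ N₀, ∀ z ∈ Z, g * z * g⁻¹ ∈ Z := fun g hg z hz =>
    (Subgroup.mem_normalizer_iff.1 (hN₀Z hg) z).1 hz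
  have hact' : ∀ g ∈ N₀, ∀ z ∈ Z, g⁻¹ * z * g ∈ Z := fun g hg z hz => by
    have := hact _ (N₀.inv_mem hg) z hz
    rwa [inv_inv] at this
  have htriv : ∀ t ∈ T, ∀ z ∈ Z, t * z * t⁻¹ = z := fun t ht z hz => by
    rw [← hzc z hz t ht, mul_inv_cancel_right]
  -- the group acts commutatively on `Z`
  have hcom : ∀ g ∈ N₀, ∀ k ∈ N₀, ∀ z ∈ Z, g * (k * z * k⁻¹) * g⁻¹ = k * (g * z * g⁻¹) * k⁻¹ := by
    intro g hg k hk z hz
    have h1 := hab g hg.2 hg.1 k hk.2 hk.1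
    calc g * (k * z * k⁻¹) * g⁻¹
        = (g * k * g⁻¹ * k⁻¹) * (k * (g * z * g⁻¹) * k⁻¹) * (g * k * g⁻¹ * k⁻¹)⁻¹ := by group
      _ = _ := htriv _ h1 _ (hact k hk _ (hact g hg z hz))
  have htrans : ∀ a ∈ Z, a ≠ 1 → ∀ b ∈ Z, b ≠ 1 → ∃ g ∈ N₀, g * a * g⁻¹ = b := by
    intro a ha ha1 b hb hb1
    have hzT : zT T V = Z := nV.zT_eq hc
    obtain ⟨g, hg, e⟩ := nV.trans a (eV ▸ hZV ha) ha1 b (eV ▸ hZV hb) hb1
    exact ⟨g, ⟨nV.Z_meet hc hg (hzT.symm ▸ ha) ha1 (by rw [hzT, e]; exact hb), hg⟩, e⟩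
  have hstab : ∀ g ∈ N₀, ∀ z ∈ Z, z ≠ 1 → g * z * g⁻¹ = z → g ∈ T := by
    intro g hg z hz hz1 e
    have := nV.loc.Ct_eq_T hc (eV ▸ hZV hz) hz1 fun t ht => mem_Ct.2 (hzc z hz t ht).symm
    exact this ▸ ⟨hg.2, mem_Ct.2 (mul_inv_eq_iff_eq_mul.1 e)⟩
  -- the two twisted copies of `Z`
  have hphi : ∀ {A : Subgroup G} {x : G}, x ∈ Subgroup.normalizer (A : Set G) → Z ≤ A → ∀ z ∈ Z,
      x * z * x⁻¹ ∈ A := fun hx hA z hz => (Subgroup.mem_normalizer_iff.1 hx z).1 (hA hz)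
  have htwist : ∀ {A : Subgroup G} {x : G}, Elem A → Z ≤ A → A ≤ T → x ∈ Subgroup.normalizer (A : Set G) →
      x * x ∈ A → (∀ a ∈ A, ∀ s ∈ T, s * a * s⁻¹ * a⁻¹ ∈ Z) →
      (∀ g ∈ Subgroup.normalizer (A : Set G), g ∈ Subgroup.normalizer (T : Set G) → ∃ d t : G, g = d * t ∧
        d ∈ Subgroup.normalizer (A : Set G) ∧ d ∈ Subgroup.normalizer (T : Set G) ∧ t ∈ T ∧
        x * d * x⁻¹ * d ∈ A) →
      ∀ g ∈ Subgroup.normalizer (A : Set G), g ∈ Subgroup.normalizer (T : Set G) → ∀ y ∈ Z,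
        ∃ c ∈ Z, g * (x * y * x⁻¹) * g⁻¹ = c * (x * (g⁻¹ * y * g) * x⁻¹) := by
    intro A x hel hA hAT hx hxx hcz hdec g hg hgT y hy
    obtain ⟨d, t, rfl, hd, hdT, ht, hxd⟩ := hdec g hg hgT
    set a := x * y * x⁻¹ with ha
    have haA : a ∈ A := hphi hx hA y hy
    refine ⟨d * (t * a * t⁻¹ * a⁻¹) * d⁻¹, ?_, ?_⟩
    · exact (Subgroup.mem_normalizer_iff.1 (normalizer_le_omegaZ T hdT) _).1 (hcz a haA t ht)
    have e1 : (d * t)⁻¹ * y * (d * t) = d⁻¹ * y * d := by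
      have hyd : d⁻¹ * y * d ∈ Z := by
        have := (Subgroup.mem_normalizer_iff.1 (inv_mem (normalizer_le_omegaZ T hdT)) y).1 hy
        rwa [inv_inv] at this
      calc (d * t)⁻¹ * y * (d * t) = t⁻¹ * (d⁻¹ * y * d) * t⁻¹⁻¹ := by group
        _ = d⁻¹ * y * d := htriv _ (T.inv_mem ht) _ hyd
    rw [e1]
    set m := x * d * x⁻¹ * d with hm
    set s := x * x with hs
    have hfix : ∀ r ∈ A, ∀ r' ∈ A, r * r' * r⁻¹ = r' := fun r hr r' hr' => by
      rw [hel.2 r hr r' hr', mul_inv_cancel_right]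
    have hyd : d⁻¹ * y * d ∈ A := by
      have := (Subgroup.mem_normalizer_iff.1 (inv_mem hd) y).1 (hA hy)
      rwa [inv_inv] at this
    have e2 : d * a * d⁻¹ = x * (d⁻¹ * y * d) * x⁻¹ := by
      have h1 : x⁻¹ * d * x = s⁻¹ * (m * d⁻¹) * s := by rw [hm, hs]; group
      calc d * a * d⁻¹ = x * ((x⁻¹ * d * x) * y * (x⁻¹ * d * x)⁻¹) * x⁻¹ := by rw [ha]; group
        _ = x * (s⁻¹ * (m * (d⁻¹ * (s * y * s⁻¹) * d) * m⁻¹) * s⁻¹⁻¹) * x⁻¹ := by rw [h1]; group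
        _ = x * (d⁻¹ * y * d) * x⁻¹ := by
            rw [hfix s hxx y (hA hy), hfix m hxd _ hyd, hfix _ (A.inv_mem hxx) _ hyd]
    calc d * t * a * (d * t)⁻¹ = d * (t * a * t⁻¹ * a⁻¹) * d⁻¹ * (d * a * d⁻¹) := by group
      _ = _ := by rw [e2]
  have hczV : ∀ a ∈ V, ∀ s ∈ T, s * a * s⁻¹ * a⁻¹ ∈ Z := fun a ha s hs => by
    have h := (V ⊓ W).inv_mem (hkey a ha s hs)
    rw [p.inf_eq] at h
    simpa [mul_assoc] using h
  have hczW : ∀ a ∈ W, ∀ s ∈ T, s * a * s⁻¹ * a⁻¹ ∈ Z := fun a ha s hs => by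
    obtain ⟨hk, -, -⟩ := p.symm.normalizes hTW hTV
    have h := (W ⊓ V).inv_mem (hk a ha s hs)
    rw [inf_comm, p.inf_eq] at h
    simpa [mul_assoc] using h
  -- the commutator pairing
  let σ : G → G → G := fun s x => v * x * v⁻¹ * s * (v * x * v⁻¹)⁻¹ * s⁻¹
  have σ_mem : ∀ s ∈ T, ∀ x ∈ Z, σ s x ∈ Z := fun s hs x hx =>
    by rw [hZdef, ← p.inf_eq]; exact hkey _ (hphi hv hZV x hx) s hs
  have σ_mul : ∀ s ∈ T, ∀ t ∈ T, ∀ x ∈ Z, σ (s * t) x = σ s x * σ t x := by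
    intro s hs t ht x hx
    calc σ (s * t) x = σ s x * (s * σ t x * s⁻¹) := by simp only [σ]; group
      _ = σ s x * σ t x := by rw [htriv s hs _ (σ_mem t ht x hx)]
  have σ_add : ∀ s ∈ T, ∀ x ∈ Z, ∀ y ∈ Z, σ s (x * y) = σ s x * σ s y := by
    intro s hs x hx y hy
    have hxV : v * x * v⁻¹ ∈ V := hphi hv hZV x hx
    calc σ s (x * y) = v * x * v⁻¹ * σ s y * (v * x * v⁻¹)⁻¹ * σ s x := by simp only [σ]; group
      _ = σ s x * σ s y := by
          rw [htriv _ (p.V_le hxV) _ (σ_mem s hs y hy)]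
          exact (omegaZ_elem T).2 _ (σ_mem s hs y hy) _ (σ_mem s hs x hx)
  have σ_V : ∀ s ∈ V, ∀ x ∈ Z, σ s x = 1 := fun s hs x hx => by
    simp only [σ]
    rw [p.elem_V.2 _ (hphi hv hZV x hx) s hs]
    group
  -- `σ` commutes with conjugation
  have σ_conj : ∀ g ∈ N₀, ∀ s ∈ T, ∀ y ∈ Z, σ (g * s * g⁻¹) (g⁻¹ * y * g) = g * σ s y * g⁻¹ := by
    intro g hg s hs y hy
    obtain ⟨c, hc', e⟩ := htwist p.elem_V hZV p.V_le hv hvv hczV
      (fun g hg hgT => by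
        obtain ⟨d, t, h1, h2, h3, h4, h5⟩ := hdecV g hg hgT
        exact ⟨d, t, h1, h2, h3, h4, h5⟩) g hg.2 hg.1 y hy
    have hgs : g * s * g⁻¹ ∈ T := (Subgroup.mem_normalizer_iff.1 hg.1 s).1 hs
    have hb : v * (g⁻¹ * y * g) * v⁻¹ ∈ V := hphi hv hZV _ (hact' g hg y hy)
    symm
    calc g * σ s y * g⁻¹
        = (g * (v * y * v⁻¹) * g⁻¹) * (g * s * g⁻¹) * (g * (v * y * v⁻¹) * g⁻¹)⁻¹ * (g * s * g⁻¹)⁻¹ := by
          simp only [σ]; group
      _ = c * (v * (g⁻¹ * y * g) * v⁻¹ * (g * s * g⁻¹) * (v * (g⁻¹ * y * g) * v⁻¹)⁻¹ * c⁻¹) *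
            (g * s * g⁻¹)⁻¹ := by rw [e]; group
      _ = c * (v * (g⁻¹ * y * g) * v⁻¹ * (g * s * g⁻¹) * (v * (g⁻¹ * y * g) * v⁻¹)⁻¹) * c⁻¹ *
            (g * s * g⁻¹)⁻¹ := by group
      _ = σ (g * s * g⁻¹) (g⁻¹ * y * g) := by
          rw [hzc c hc' _ (T.mul_mem (T.mul_mem (p.V_le hb) hgs) (T.inv_mem (p.V_le hb))),
            mul_inv_cancel_right]
  -- the distinguished element of `T` induces the identity
  have σ_w : ∀ x ∈ Z, σ w x = x := by
    intro x hx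
    set y := w * v with hy
    have hfixV : ∀ r ∈ V, ∀ a ∈ V, r * a * r⁻¹ = a := fun r hr a ha => by
      rw [p.elem_V.2 r hr a ha, mul_inv_cancel_right]
    set a₁ := v * x * v⁻¹ with ha₁
    have ha₁V : a₁ ∈ V := hphi hv hZV x hx
    have hxV : x ∈ V := hZV hx
    have hwN : w ∈ Subgroup.normalizer (V : Set G) := hTV hw
    have hyN : y ∈ Subgroup.normalizer (V : Set G) := mul_mem hwN hv
    set A := x * (y * x * y⁻¹) * (y * y * x * (y * y)⁻¹) with hA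
    have hm1 : y * x * y⁻¹ ∈ V := (Subgroup.mem_normalizer_iff.1 hyN x).1 hxV
    have hm2 : y * y * x * (y * y)⁻¹ ∈ V := (Subgroup.mem_normalizer_iff.1 (mul_mem hyN hyN) x).1 hxV
    have hAV : A ∈ V := V.mul_mem (V.mul_mem hxV hm1) hm2
    have h3 : y * (y * y * x * (y * y)⁻¹) * y⁻¹ = x := by
      rw [show y * (y * y * x * (y * y)⁻¹) * y⁻¹ = y ^ 3 * x * (y ^ 3)⁻¹ by rw [pow_three]; group]
      exact hfixV _ hwv3 x hxV
    have hyA : y * A * y⁻¹ = A := by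
      calc y * A * y⁻¹ = (y * x * y⁻¹) * (y * y * x * (y * y)⁻¹) * (y * (y * y * x * (y * y)⁻¹) * y⁻¹) := by
            rw [hA]; group
        _ = (y * x * y⁻¹) * (y * y * x * (y * y)⁻¹) * x := by rw [h3]
        _ = A := by rw [p.elem_V.2 _ (V.mul_mem hm1 hm2) x hxV, ← mul_assoc]
    have hA1 : A = 1 := by
      by_contra hne
      obtain ⟨k, hk⟩ := order_two_pow (p.elem_V.isPGroup) hAV
      obtain ⟨i, hi⟩ := order_two_pow (hc.isPGroup hne hk) (mem_Ct.2 (mul_inv_eq_iff_eq_mul.1 hyA))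
      haveI : ((V.subgroupOf (Subgroup.normalizer (V : Set G)))).Normal := Subgroup.normal_in_normalizer
      set yb := QuotientGroup.mk' (V.subgroupOf (Subgroup.normalizer (V : Set G))) ⟨y, hyN⟩ with hyb
      have h1 : orderOf yb ∣ 2 ^ i := by
        rw [← hi, ← Subgroup.orderOf_mk y hyN]; exact orderOf_map_dvd _ _
      have h2 : orderOf yb ∣ 3 := orderOf_dvd_of_pow_eq_one (by
        rw [hyb, ← map_pow]
        exact (QuotientGroup.eq_one_iff _).2 (Subgroup.mem_subgroupOf.2 hwv3))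
      have h3 : yb = 1 := orderOf_eq_one_iff.1 (Nat.eq_one_of_dvd_coprimes
        (Nat.Coprime.pow_right i (by norm_num : Nat.Coprime 3 2)) h2 h1)
      exact hwv (Subgroup.mem_subgroupOf.1 ((QuotientGroup.eq_one_iff _).1 h3))
    have e1 : y * x * y⁻¹ = w * a₁ * w⁻¹ := by rw [hy, ha₁]; group
    have e2 : y * y * x * (y * y)⁻¹ = a₁ := by
      calc y * y * x * (y * y)⁻¹ = y⁻¹ * (y * (y * y * x * (y * y)⁻¹) * y⁻¹) * y := by group
        _ = v⁻¹ * (w⁻¹ * x * w⁻¹⁻¹) * v := by rw [h3, hy]; group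
        _ = v⁻¹ * x * v := by rw [htriv _ (T.inv_mem hw) x hx]
        _ = v⁻¹ * ((v * v) * x * (v * v)⁻¹) * v := by rw [hfixV _ hvv x hxV]
        _ = a₁ := by rw [ha₁]; group
    rw [hA, e1, e2] at hA1
    have hwa : w * a₁ * w⁻¹ = x * a₁ := by
      have h1 : w * a₁ * w⁻¹ * a₁ = x⁻¹ := eq_inv_of_mul_eq_one_right (by rwa [mul_assoc] at hA1)
      rw [inv_eq_of_mul_eq_one_right (hZ2 x hx)] at h1
      calc w * a₁ * w⁻¹ = w * a₁ * w⁻¹ * a₁ * a₁⁻¹ := by group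
        _ = x * a₁ := by rw [h1, inv_eq_of_mul_eq_one_right (p.elem_V.1 a₁ ha₁V)]
    show a₁ * w * a₁⁻¹ * w⁻¹ = x
    calc a₁ * w * a₁⁻¹ * w⁻¹ = a₁ * (w * a₁ * w⁻¹)⁻¹ := by group
      _ = x := by
          rw [hwa, mul_inv_rev, mul_inv_cancel_left, inv_eq_of_mul_eq_one_right (hZ2 x hx)]
  -- elements outside `V` induce squares
  have σ_sq : ∀ s ∈ T, s ∉ V → ∃ g ∈ N₀, ∀ x ∈ Z, σ s x = g * (g * x * g⁻¹) * g⁻¹ := by
    intro s hs hsV
    obtain ⟨g, hg, hgT, hgs⟩ := hfus s hs hsV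
    refine ⟨g, ⟨hgT, hg⟩, fun x hx => ?_⟩
    have hgw : g * w * g⁻¹ ∈ T := (Subgroup.mem_normalizer_iff.1 hgT w).1 hw
    have e : σ s x = σ (g * w * g⁻¹) x := by
      have e' : g * w * g⁻¹ = g * w * g⁻¹ * s⁻¹ * s := by group
      rw [e', σ_mul _ (p.V_le hgs) s hs x hx, σ_V _ hgs x hx, one_mul]
    rw [e]
    have := σ_conj g ⟨hgT, hg⟩ w hw (g * x * g⁻¹) (hact g ⟨hgT, hg⟩ x hx)
    rw [σ_w _ (hact g ⟨hgT, hg⟩ x hx), show g⁻¹ * (g * x * g⁻¹) * g = x by group] at this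
    exact this
  -- a point of `Z` as origin
  obtain ⟨⟨e, he⟩, he1'⟩ := Subgroup.ne_bot_iff_exists_ne_one.1
    (show Z ≠ ⊥ from omegaZ_ne_bot nV.loc.T_pGroup fun e => nV.loc.X_ne (le_bot_iff.1 (e ▸ nV.loc.X_le)))
  have he1 : e ≠ 1 := fun h => he1' (Subtype.ext h)
  -- the second pairing
  let τ : G → G := fun x => σ (v' * x * v'⁻¹) e
  have hv'Z : v' * e * v'⁻¹ ∉ V := by
    intro h
    have h1 : v' * e * v'⁻¹ ∈ Z := by
      rw [hZdef, ← p.inf_eq]; exact ⟨h, hphi hv' hZW e he⟩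
    exact hv'T (nW.Z_meet hc hv' ((nW.zT_eq hc).symm ▸ he) he1 (by rw [nW.zT_eq hc]; exact h1))
  obtain ⟨k, hk, hτ⟩ := σ_sq _ (p.W_le (hphi hv' hZW e he)) hv'Z
  set c := k * (k * e * k⁻¹) * k⁻¹ with hc_def
  have τ_add : ∀ x ∈ Z, ∀ y ∈ Z, τ (x * y) = τ x * τ y := by
    intro x hx y hy
    show σ (v' * (x * y) * v'⁻¹) e = _
    rw [show v' * (x * y) * v'⁻¹ = v' * x * v'⁻¹ * (v' * y * v'⁻¹) by group]
    exact σ_mul _ (p.W_le (hphi hv' hZW x hx)) _ (p.W_le (hphi hv' hZW y hy)) e he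
  have τ_conj : ∀ g ∈ N₀, τ (g⁻¹ * e * g) = g * (g * c * g⁻¹) * g⁻¹ := by
    intro g hg
    have hgW : g ∈ Subgroup.normalizer (W : Set G) := hN hg
    obtain ⟨d, hd, ed⟩ := htwist p.elem_W hZW p.W_le hv' hv'v hczW
      (fun g hg hgT => by
        obtain ⟨d, t, h1, h2, h3, h4, h5⟩ := hdecW g hg hgT
        exact ⟨d, t, h1, h2, h3, h4, h5⟩) g hgW hg.1 e he
    have hsT : v' * e * v'⁻¹ ∈ T := p.W_le (hphi hv' hZW e he)
    have hT' : v' * (g⁻¹ * e * g) * v'⁻¹ ∈ T := p.W_le (hphi hv' hZW _ (hact' g hg e he))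
    calc τ (g⁻¹ * e * g)
        = σ (d * (v' * (g⁻¹ * e * g) * v'⁻¹)) e := by
          rw [σ_mul d (p.V_le (hZV hd)) _ hT' e he, σ_V d (hZV hd) e he, one_mul]
      _ = σ (g * (v' * e * v'⁻¹) * g⁻¹) (g⁻¹ * (g * e * g⁻¹) * g) := by
          rw [← ed, show g⁻¹ * (g * e * g⁻¹) * g = e by group]
      _ = g * σ (v' * e * v'⁻¹) (g * e * g⁻¹) * g⁻¹ := σ_conj g hg _ hsT _ (hact g hg e he)
      _ = g * (g * c * g⁻¹) * g⁻¹ := by
          rw [hτ _ (hact g hg e he), hc_def, hcom k hk g hg e he,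
            hcom k hk g hg _ (hact k hk e he)]
  -- the action on `Z`
  obtain ⟨a, ha⟩ : ∃ a : G → G → G, a = fun g x => g * x * g⁻¹ := ⟨_, rfl⟩
  have a_def : ∀ g x, a g x = g * x * g⁻¹ := fun g x => by rw [ha]
  have a_mul : ∀ g k x, a g (a k x) = a (g * k) x := fun g k x => by simp only [a_def]; group
  have a_hom : ∀ g x y, a g (x * y) = a g x * a g y := fun g x y => by simp only [a_def]; group
  have a_can : ∀ g x, a g (a g⁻¹ x) = x := fun g x => by simp only [a_def]; group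
  have a_can' : ∀ g x, a g⁻¹ (a g x) = x := fun g x => by simp only [a_def]; group
  have a_mem : ∀ g ∈ N₀, ∀ x ∈ Z, a g x ∈ Z := fun g hg x hx => by rw [a_def]; exact hact g hg x hx
  have a_com : ∀ g ∈ N₀, ∀ k' ∈ N₀, ∀ x ∈ Z, a g (a k' x) = a k' (a g x) := fun g hg k' hk' x hx => by
    simp only [a_def]; exact hcom g hg k' hk' x hx
  have a_inj : ∀ g x y, a g x = a g y → x = y := fun g x y h => by
    rw [← a_can' g x, h, a_can' g y]
  have a_one : ∀ g, a g 1 = 1 := fun g => by simp only [a_def]; group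
  have hccomm : ∀ x ∈ Z, ∀ y ∈ Z, x * y = y * x := (omegaZ_elem T).2
  have τ_act : ∀ g ∈ N₀, τ (a g⁻¹ e) = a g (a g c) := fun g hg => by
    simp only [a_def]
    rw [inv_inv]
    exact τ_conj g hg
  have hc_eq : c = a k (a k e) := by simp only [a_def]; exact hc_def
  have hcZ : c ∈ Z := by rw [hc_eq]; exact a_mem k hk _ (a_mem k hk e he)
  have hc1 : c ≠ 1 := fun h => he1 (a_inj k e 1 (a_inj k _ _ (by rw [← hc_eq, h, a_one, a_one])))
  -- every non-trivial point is a square image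
  have τ_mem : ∀ x ∈ Z, τ x ∈ Z := fun x hx => σ_mem _ (p.W_le (hphi hv' hZW x hx)) e he
  have τ_ne : ∀ x ∈ Z, x ≠ 1 → τ x ≠ 1 := by
    intro x hx hx1
    obtain ⟨g, hg, hge⟩ := htrans x hx hx1 e he he1
    have hge' : a g x = e := by rw [a_def]; exact hge
    rw [show x = a g⁻¹ e by rw [← hge', a_can'], τ_act g hg]
    exact fun h => hc1 (a_inj g c 1 (a_inj g _ _ (by rw [h, a_one, a_one])))
  let τZ : Z → Z := fun x => ⟨τ x, τ_mem x x.2⟩
  have τ_inj : Function.Injective τZ := by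
    intro x y hxy
    have hxy' : τ x = τ y := congrArg Subtype.val hxy
    by_contra hne
    refine τ_ne _ (Z.mul_mem x.2 y.2) (fun h => hne (Subtype.ext ?_)) ?_
    · rw [eq_inv_of_mul_eq_one_left h, inv_eq_of_mul_eq_one_right (hZ2 _ y.2)]
    · rw [τ_add _ x.2 _ y.2, hxy']
      exact hZ2 _ (τ_mem _ y.2)
  have hsq : ∀ x ∈ Z, x ≠ 1 → ∃ g ∈ N₀, a g (a g e) = x := by
    intro x hx hx1
    obtain ⟨⟨y, hy⟩, hy'⟩ := Finite.injective_iff_surjective.1 τ_inj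
      ⟨a k (a k x), a_mem k hk _ (a_mem k hk x hx)⟩
    have hy'' : τ y = a k (a k x) := congrArg Subtype.val hy'
    have hy1 : y ≠ 1 := by
      rintro rfl
      have h1 : τ 1 = 1 := by
        show σ (v' * 1 * v'⁻¹) e = 1
        rw [mul_one, mul_inv_cancel]
        exact σ_V 1 V.one_mem e he
      exact hx1 (a_inj k x 1 (a_inj k _ _ (by rw [← hy'', h1, a_one, a_one])))
    obtain ⟨g, hg, hge⟩ := htrans y hy hy1 e he he1
    have hge' : a g y = e := by rw [a_def]; exact hge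
    rw [show y = a g⁻¹ e by rw [← hge', a_can'], τ_act g hg, hc_eq] at hy''
    refine ⟨g, hg, a_inj k _ _ (a_inj k _ _ ?_)⟩
    rw [← hy'', a_com k hk g hg _ (a_mem g hg e he), a_com k hk g hg e he,
      a_com k hk g hg _ (a_mem g hg _ (a_mem k hk e he)), a_com k hk g hg _ (a_mem k hk e he)]
  -- the quadratic equation
  have hquad : ∀ x ∈ Z, x ≠ 1 → x ≠ e → ∃ g ∈ N₀, a g e = x ∧ a g x = x * e := by
    intro x hx hx1 hxe
    obtain ⟨g, hg, hgx⟩ := hsq x hx hx1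
    have hgi := N₀.inv_mem hg
    refine ⟨g * g, N₀.mul_mem hg hg, by rw [← a_mul]; exact hgx, ?_⟩
    have hx0 : a g⁻¹ e ∈ Z := a_mem _ hgi e he
    have hne : e * a g⁻¹ e ≠ 1 := fun h => hxe (by
      have h1 : a g⁻¹ e = e := by
        rw [← inv_eq_of_mul_eq_one_right h, inv_eq_of_mul_eq_one_right (hZ2 e he)]
      have h2 : a g e = e := by rw [← h1, a_can, h1]
      rw [← hgx, h2, h2])
    obtain ⟨h, hh, hhe⟩ := htrans _ (Z.mul_mem he hx0) hne e he he1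
    have hhi := N₀.inv_mem hh
    have h1 : a h⁻¹ e = e * a g⁻¹ e := by
      have hhe' : a h (e * a g⁻¹ e) = e := by rw [a_def h]; exact hhe
      conv_lhs => rw [← hhe']
      rw [a_can']
    have hgc : ∀ m ∈ N₀, a m (a m c) = a k (a k (a m (a m e))) := by
      intro m hm
      rw [hc_eq, a_com m hm k hk _ (a_mem k hk e he), a_com m hm k hk e he,
        a_com m hm k hk _ (a_mem k hk _ (a_mem m hm e he)), a_com m hm k hk _ (a_mem m hm e he)]
    have h2 : a h (a h e) = e * a g (a g e) := by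
      refine a_inj k _ _ (a_inj k _ _ ?_)
      rw [a_hom, a_hom, ← hgc h hh, ← hgc g hg, ← hc_eq, ← τ_act h hh, h1, τ_add e he _ hx0, τ_act g hg]
      congr 1
      have h0 := τ_act 1 N₀.one_mem
      simpa [a_def] using h0
    have h3 : a h⁻¹ (a h⁻¹ e) = e * a g⁻¹ (a g⁻¹ e) := by
      conv_lhs => rw [h1, a_hom, a_com _ hhi _ hgi e he, h1, a_hom]
      rw [mul_assoc, ← mul_assoc (a g⁻¹ e) (a g⁻¹ e), hZ2 _ hx0, one_mul]
    have h4 : e = a g (a g e) * a g⁻¹ (a g⁻¹ e) := by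
      have hA : a h (a h (a h⁻¹ (a h⁻¹ e))) = e := by rw [a_can, a_can]
      rw [h3, a_hom, a_hom, a_com h hh _ hgi _ hx0, a_com h hh _ hgi e he,
        a_com h hh _ hgi _ (a_mem _ hgi _ (a_mem h hh e he)), a_com h hh _ hgi _ (a_mem h hh e he),
        h2, a_hom, a_hom, a_can', a_can'] at hA
      have hgg : a g (a g e) ∈ Z := a_mem _ hg _ (a_mem _ hg e he)
      have hgg' : a g⁻¹ (a g⁻¹ e) ∈ Z := a_mem _ hgi _ hx0
      calc e = e * a g (a g e) * (a g⁻¹ (a g⁻¹ e) * e) := hA.symm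
        _ = (a g (a g e) * a g⁻¹ (a g⁻¹ e)) * (e * e) := by
            rw [hccomm e he _ hgg]
            simp only [mul_assoc]
            rw [← mul_assoc e (a g⁻¹ (a g⁻¹ e)) e, hccomm e he _ hgg', mul_assoc]
        _ = _ := by rw [hZ2 e he, mul_one]
    have h5 := congrArg (fun y => a g (a g y)) h4
    rw [a_hom, a_hom, a_can, a_can, hgx] at h5
    rw [← a_mul]
    calc a g (a g x) = a g (a g x) * e * e := by rw [mul_assoc, hZ2 e he, mul_one]
      _ = x * e := by rw [← h5]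
  -- at most two roots
  have htwo : ∀ x ∈ Z, x ≠ 1 → x ≠ e → ∀ x' ∈ Z, x' ≠ 1 → x' ≠ e → x' = x ∨ x' = x * e := by
    intro x hx hx1 hxe x' hx' hx1' hxe'
    by_cases hxx : x' = x
    · exact Or.inl hxx
    right
    obtain ⟨g, hg, hge, hgx⟩ := hquad x hx hx1 hxe
    obtain ⟨g', hg', hge', hgx'⟩ := hquad x' hx' hx1' hxe'
    have hd1 : x * x' ≠ 1 := fun h => hxx (by
      rw [← inv_eq_of_mul_eq_one_right h, inv_eq_of_mul_eq_one_right (hZ2 x hx)])
    obtain ⟨m, hm, hme⟩ := htrans e he he1 _ (Z.mul_mem hx hx') hd1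
    have hme' : a m e = x * x' := by rw [a_def]; exact hme
    have hD : a m (x * x') = x * x' := by
      have e1 : a m x = a g x * a g x' := by
        rw [← hge, a_com m hm g hg e he, hme', hge, a_hom]
      have e2 : a m x' = a g' x * a g' x' := by
        rw [← hge', a_com m hm g' hg' e he, hme', hge', a_hom]
      have e3 : a g' x = a g x' := by rw [← hge, ← hge', a_com g hg g' hg' e he]
      have hgg : a g x' ∈ Z := a_mem g hg x' hx'
      rw [a_hom, e1, e2, e3, hgx, hgx']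
      calc x * e * a g x' * (a g x' * (x' * e))
          = x * (e * (a g x' * a g x') * (x' * e)) := by simp only [mul_assoc]
        _ = x * x' := by
            rw [hZ2 _ hgg, mul_one, hccomm x' hx' e he, ← mul_assoc e e, hZ2 e he, one_mul]
    have hmT := hstab m hm _ (Z.mul_mem hx hx') hd1 (by rw [← a_def]; exact hD)
    rw [a_def, htriv m hmT e he] at hme'
    rw [hme', ← mul_assoc, hZ2 x hx, one_mul]
  have hcard : Nat.card Z = q := by rw [hZdef, ← p.inf_eq, p.card_inf]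
  obtain ⟨x₀, hx₀, hx₀1, hx₀e⟩ : ∃ x ∈ Z, x ≠ 1 ∧ x ≠ e := by
    by_contra hcon
    push Not at hcon
    have hsub : (Z : Set G) ⊆ {1, e} := fun x hx => by
      by_cases h : x = 1
      · exact Or.inl h
      · exact Or.inr (hcon x hx h)
    have := (Set.ncard_le_ncard hsub).trans (Set.ncard_insert_le _ _)
    rw [Set.ncard_singleton, ← Nat.card_coe_set_eq] at this
    change Nat.card Z ≤ 2 at this
    omega
  have hsub : (Z : Set G) ⊆ {1, e, x₀, x₀ * e} := fun x hx => by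
    by_cases h : x = 1
    · exact Or.inl h
    by_cases h' : x = e
    · exact Or.inr (Or.inl h')
    rcases htwo x₀ hx₀ hx₀1 hx₀e x hx h h' with e' | e'
    · exact Or.inr (Or.inr (Or.inl e'))
    · exact Or.inr (Or.inr (Or.inr e'))
  have hle : ({1, e, x₀, x₀ * e} : Set G).ncard ≤ 4 := by
    refine (Set.ncard_insert_le _ _).trans (Nat.succ_le_succ ?_)
    refine (Set.ncard_insert_le _ _).trans (Nat.succ_le_succ ?_)
    refine (Set.ncard_insert_le _ _).trans ?_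
    rw [Set.ncard_singleton]
  have := (Set.ncard_le_ncard hsub).trans hle
  rw [← Nat.card_coe_set_eq] at this
  change Nat.card Z ≤ 4 at this
  omega

end Cfsg.Agent.CNSimple
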