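import Cfsg.Agent.Lib.CNSimple.CNStructure
import Cfsg.Agent.Lib.AutPSL.Centralizer
import Cfsg.Agent.Lib.AutPSL.Classes
import Cfsg.Agent.Lib.AutPSL.Main
import Mathlib.FieldTheory.Galois.Basic
import Mathlib.FieldTheory.Finite.GaloisField

/-!
# Groups containing `PSL(2, q)`, `q` odd, or `PSL(3, 4)` as a normal subgroup with trivial centraliser
in which centralisers of involutions are `2`-groups
-/

set_option autoImplicit false
set_option linter.style.haveILetI false
set_option linter.unusedSectionVars false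

namespace Cfsg.Agent.CNSimple

open Cfsg.Agent.Invol Cfsg.Agent.AutPSL
open scoped Matrix

universe u v

/-- The ring automorphisms of a field of prime or prime square order. -/
theorem aut_field {F : Type v} [Field F] [Fintype F] {p : ℕ} (hp : p.Prime) [CharP F p] :
    (Fintype.card F = p → ∀ σ : F ≃+* F, σ = 1) ∧
      (Fintype.card F = p ^ 2 → ∀ σ τ : F ≃+* F, σ ≠ 1 → τ ≠ 1 → σ = τ ∧ σ * τ = 1) := by
  classical
  haveI := Fact.mk hp
  letI : Algebra (ZMod p) F := ZMod.algebra F p
  let e : (F ≃+* F) ≃ (F ≃ₐ[ZMod p] F) :=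
    { toFun := fun σ => AlgEquiv.ofRingEquiv (f := σ) fun a =>
        congrFun (congrArg DFunLike.coe
          (RingHom.ext_zmod ((σ : F →+* F).comp (algebraMap (ZMod p) F)) (algebraMap (ZMod p) F))) a
      invFun := fun σ => σ.toRingEquiv
      left_inv := fun σ => RingEquiv.ext fun x => rfl
      right_inv := fun σ => AlgEquiv.ext fun x => rfl }
  have hcard : ∀ k, Fintype.card F = p ^ k → Nat.card (F ≃+* F) = k := fun k hk => by
    rw [Nat.card_congr e, IsGalois.card_aut_eq_finrank]
    have := Module.card_eq_pow_finrank (K := ZMod p) (V := F)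
    rw [ZMod.card, hk] at this
    exact (Nat.pow_right_injective hp.two_le this).symm
  refine ⟨fun h σ => ?_, fun h σ τ hσ hτ => ?_⟩
  · obtain ⟨h1, -⟩ := Nat.card_eq_one_iff_unique.1 (hcard 1 (by rwa [pow_one]))
    exact Subsingleton.elim _ _
  · obtain ⟨ρ, hρ, huniq⟩ := (Nat.card_eq_two_iff' (1 : F ≃+* F)).1 (hcard 2 h)
    have hστ : σ = τ := (huniq σ hσ).trans (huniq τ hτ).symm
    subst hστ
    refine ⟨rfl, ?_⟩
    by_contra hne
    exact hσ (mul_left_cancel ((huniq _ hne).trans (huniq σ hσ).symm |>.trans (mul_one σ).symm))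

variable {G : Type u} [Group G] [Finite G]

section Map

variable {M : Subgroup G} [M.Normal] {P : Type v} [Group P] (e : M ≃* P)

/-- Conjugation transported to a copy of the normal subgroup. -/
def autMap : G →* MulAut P where
  toFun x := e.symm.trans ((MulAut.conjNormal x).trans e)
  map_one' := MulEquiv.ext fun u => by simp
  map_mul' x y := MulEquiv.ext fun u => by simp

theorem autMap_symm (u : P) : autMap e ((e.symm u : M) : G) = MulAut.conj u := by
  refine MulEquiv.ext fun w => ?_
  show e (MulAut.conjNormal ((e.symm u : M) : G) (e.symm w)) = u * w * u⁻¹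
  have h : MulAut.conjNormal ((e.symm u : M) : G) (e.symm w) = e.symm u * e.symm w * (e.symm u)⁻¹ :=
    Subtype.ext (MulAut.conjNormal_apply _ _)
  rw [h, map_mul, map_mul, map_inv, e.apply_symm_apply, e.apply_symm_apply]

theorem commute_of_fix {y : G} {w : P} (h : autMap e y w = w) :
    y * ((e.symm w : M) : G) = ((e.symm w : M) : G) * y := by
  have h' : MulAut.conjNormal y (e.symm w) = e.symm w := e.injective (h.trans (e.apply_symm_apply w).symm)
  exact mul_inv_eq_iff_eq_mul.1 ((MulAut.conjNormal_apply y _).symm.trans (congrArg Subtype.val h'))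

variable (hc : Subgroup.centralizer (M : Set G) = ⊥)
include hc

theorem autMap_injective : Function.Injective (autMap e) := by
  rw [injective_iff_map_eq_one]
  intro x hx
  have : x ∈ Subgroup.centralizer (M : Set G) := by
    intro m hm
    have h := commute_of_fix e (w := e ⟨m, hm⟩) (y := x) (by rw [hx]; rfl)
    rw [e.symm_apply_apply] at h
    exact h.symm
  rwa [hc, Subgroup.mem_bot] at this

theorem mem_of_conj {x : G} {u : P} (h : autMap e x = MulAut.conj u) : x ∈ M := by
  rw [← autMap_symm e] at h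
  rw [autMap_injective e hc h]
  exact (e.symm u).2

/-- An outer element inducing an automorphism of order two cannot fix an element of odd order. -/
theorem false_of_two (hcit : CIT G) {y : G} (hy : autMap e y * autMap e y = 1) (hy1 : autMap e y ≠ 1)
    {w : P} (hw : autMap e y w = w) (hwo : Odd (orderOf w)) (hw1 : w ≠ 1) : False := by
  have hy2 : orderOf y = 2 := order_two_of_sq (autMap_injective e hc (by rw [map_mul, hy, map_one]))
    fun h => hy1 (by rw [h, map_one])
  refine hw1 (e.symm.injective (Subtype.ext ?_))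
  rw [map_one]
  refine eq_one_of_odd (hcit y hy2) (mem_Ct.2 (commute_of_fix e hw).symm) ?_
  rwa [Subgroup.orderOf_coe, MulEquiv.orderOf_eq]

/-- An outer element inducing an automorphism of order three cannot fix an involution. -/
theorem false_of_three (hcit : CIT G) {y : G} (hy : autMap e y ^ 3 = 1) (hy1 : autMap e y ≠ 1)
    {w : P} (hw : autMap e y w = w) (hw2 : w * w = 1) (hw1 : w ≠ 1) : False := by
  have hy3 : y ^ 3 = 1 := autMap_injective e hc (by rw [map_pow, hy, map_one])
  have hwo : orderOf ((e.symm w : M) : G) = 2 := by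
    rw [Subgroup.orderOf_coe, MulEquiv.orderOf_eq]
    exact order_two_of_sq hw2 hw1
  refine hy1 ?_
  rw [eq_one_of_odd (hcit _ hwo) (mem_Ct.2 (commute_of_fix e hw))
    ((Nat.odd_iff.2 rfl : Odd 3).of_dvd_nat (orderOf_dvd_of_pow_eq_one hy3)), map_one]

end Map

section Linear

variable {M : Subgroup G} [M.Normal] {F : Type v} [Field F] {n : ℕ}
  (e : M ≃* Matrix.ProjectiveSpecialLinearGroup (Fin n) F)

local notation "GLn" => GL (Fin n) F

theorem semi_scalar_left (hn : 2 ≤ n) (c : Fˣ) (g : GLn) (σ : F ≃+* F) :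
    (semi (Matrix.GeneralLinearGroup.scalar (Fin n) c * g) σ : MulAut _) = semi g σ :=
  (semi_eq_semi hn).2 ⟨rfl, c, rfl⟩

/-- Elements of the coset of `x` induce every matrix with an equivalent determinant. -/
theorem exists_adjust (hn : 2 ≤ n) {x : G} {g g₀ : GLn} {σ : F ≃+* F}
    {γ : MulAut (Matrix.ProjectiveSpecialLinearGroup (Fin n) F)} (hx : autMap e x = semi g σ * γ) (a : Fˣ)
    (ha : Matrix.GeneralLinearGroup.det g₀ = a ^ n * Matrix.GeneralLinearGroup.det g) :
    ∃ m ∈ M, autMap e (m * x) = semi g₀ σ * γ := by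
  set h : GLn := g₀ * (Matrix.GeneralLinearGroup.scalar (Fin n) a * g)⁻¹ with hh
  have hd : Matrix.GeneralLinearGroup.det h = 1 := by
    rw [hh, map_mul, map_inv, map_mul, det_scalar, ha, mul_inv_cancel]
  let s : Matrix.SpecialLinearGroup (Fin n) F := ⟨(h : Matrix (Fin n) (Fin n) F),
    congrArg (fun u : Fˣ => (u : F)) hd⟩
  refine ⟨_, (e.symm (QuotientGroup.mk s)).2, ?_⟩
  have hs : Matrix.SpecialLinearGroup.toGL s = h := Units.ext rfl
  rw [map_mul, autMap_symm, hx, inner_eq_semi, hs, ← mul_assoc, semi_mul', mapGL_one, one_mul]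
  congr 1
  conv_rhs => rw [show g₀ = h * (Matrix.GeneralLinearGroup.scalar (Fin n) a * g) by
    rw [hh, inv_mul_cancel_right]]
  have key : ∀ g' : GLn, (semi (h * g') (1 * σ) : MulAut (Matrix.ProjectiveSpecialLinearGroup (Fin n) F)) =
      semi h 1 * semi g' σ := fun g' => by rw [semi_mul', mapGL_one]
  rw [← one_mul σ, key, key, semi_scalar_left hn]

theorem semi_fix {g : GLn} {σ : F ≃+* F} {s : Matrix.SpecialLinearGroup (Fin n) F}
    (hmap : (s : Matrix (Fin n) (Fin n) F).map σ = s)
    (h : (g : Matrix (Fin n) (Fin n) F) * (s : Matrix (Fin n) (Fin n) F) =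
      (s : Matrix (Fin n) (Fin n) F) * (g : Matrix (Fin n) (Fin n) F)) :
    semi g σ (QuotientGroup.mk s : Matrix.ProjectiveSpecialLinearGroup (Fin n) F) = QuotientGroup.mk s := by
  rw [semi_mk]
  refine congrArg _ (Subtype.ext ?_)
  rw [slSemi_coe, hmap, h, mul_assoc, ← Units.val_mul, mul_inv_cancel, Units.val_one, mul_one]

variable (hc : Subgroup.centralizer (M : Set G) = ⊥)
include hc

theorem mem_of_semi (hn : 2 ≤ n) {x : G} {g : GLn} (hx : autMap e x = semi g 1) (a : Fˣ)
    (ha : a ^ n * Matrix.GeneralLinearGroup.det g = 1) : x ∈ M := by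
  obtain ⟨m, hm, h⟩ := exists_adjust e hn (γ := 1) (by rw [hx, mul_one]) (g₀ := (1 : GLn)) a
    (by rw [map_one, ha])
  rw [semi_one, one_mul, ← map_one (autMap e)] at h
  rw [eq_inv_of_mul_eq_one_right (autMap_injective e hc h)]
  exact inv_mem hm

end Linear

section Two

variable {M : Subgroup G} [M.Normal] {F : Type v} [Field F] [Fintype F]
  (e : M ≃* Matrix.ProjectiveSpecialLinearGroup (Fin 2) F)
  (hc : Subgroup.centralizer (M : Set G) = ⊥) (hcit : CIT G)

/-- The matrix of square a scalar commuting with a given one. -/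
theorem exists_traceless {t : Matrix.SpecialLinearGroup (Fin 2) F} {d : F}
    (hd : d = 4 - ((t : Matrix (Fin 2) (Fin 2) F) 0 0 + (t : Matrix (Fin 2) (Fin 2) F) 1 1) ^ 2)
    (hd0 : d ≠ 0) :
    ∃ g₀ : GL (Fin 2) F, (Matrix.GeneralLinearGroup.det g₀ : F) = d ∧
      g₀ * g₀ = Matrix.GeneralLinearGroup.scalar (Fin 2) (-Units.mk0 d hd0) ∧
      (g₀ : Matrix (Fin 2) (Fin 2) F) * (t : Matrix (Fin 2) (Fin 2) F) =
        (t : Matrix (Fin 2) (Fin 2) F) * (g₀ : Matrix (Fin 2) (Fin 2) F) := by
  set A : Matrix (Fin 2) (Fin 2) F := (t : Matrix (Fin 2) (Fin 2) F) with hA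
  have hdet : A 0 0 * A 1 1 - A 0 1 * A 1 0 = 1 := by rw [← Matrix.det_fin_two]; exact t.2
  set B : Matrix (Fin 2) (Fin 2) F := !![A 0 0 - A 1 1, 2 * A 0 1; 2 * A 1 0, A 1 1 - A 0 0] with hB
  have hBd : B.det = d := by
    rw [hB, Matrix.det_fin_two_of, hd]
    linear_combination 4 * hdet
  refine ⟨Matrix.GeneralLinearGroup.mkOfDetNeZero B (by rwa [hBd]), hBd, Units.ext ?_, ?_⟩
  · show B * B = Matrix.scalar (Fin 2) (-d : F)
    ext i j
    fin_cases i <;> fin_cases j <;> simp [hB, hd, Matrix.mul_apply, Fin.sum_univ_two] <;>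
      first | linear_combination 4 * hdet | linear_combination -4 * hdet | ring
  · show B * A = A * B
    ext i j
    fin_cases i <;> fin_cases j <;> simp [hB, Matrix.mul_apply, Fin.sum_univ_two] <;> ring

include e hc hcit

/-- Diagonal automorphisms are inner. -/
theorem mem_of_semi_two (hodd : Odd (Fintype.card F)) (h5 : 5 ≤ Fintype.card F)
    (hk : (∃ k : ℕ, Fintype.card F = 2 ^ k + 1 ∨ Fintype.card F + 1 = 2 ^ k))
    {x : G} {g : GL (Fin 2) F} (hx : autMap e x = semi g 1) : x ∈ M := by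
  classical
  by_cases hsq : IsSquare (Matrix.GeneralLinearGroup.det g : F)
  · obtain ⟨a, ha⟩ := hsq
    have ha0 : a ≠ 0 := by rintro rfl; rw [mul_zero] at ha; exact (Units.ne_zero _) ha
    exact mem_of_semi e hc le_rfl hx (Units.mk0 a ha0)⁻¹ (Units.ext (by
      push_cast; rw [ha, Units.val_mk0]; field_simp))
  exfalso
  have h2 : ringChar F ≠ 2 := fun h => by
    have := FiniteField.even_card_of_char_two h
    obtain ⟨k, hk⟩ := hodd
    omega
  set q := Fintype.card F with hq
  obtain ⟨k, hk⟩ := hk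
  have hk2 : 2 ≤ k := by
    by_contra hlt
    interval_cases k <;> norm_num at hk <;> omega
  obtain ⟨j, rfl⟩ : ∃ j, k = j + 2 := ⟨k - 2, by omega⟩
  have e4 : 2 ^ (j + 2) = 4 * 2 ^ j := by ring
  -- a non-square `d` equal to `4 - tr ^ 2` for an element `t` of odd prime order
  obtain ⟨t, r, hr, hrodd, hto, hd⟩ : ∃ (t : Matrix.SpecialLinearGroup (Fin 2) F) (r : ℕ), r.Prime ∧
      Odd r ∧ orderOf t = r ∧
      ¬ IsSquare (4 - ((t : Matrix (Fin 2) (Fin 2) F) 0 0 + (t : Matrix (Fin 2) (Fin 2) F) 1 1) ^ 2) := by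
    rcases hk with hk | hk
    · have hneg : IsSquare (-1 : F) := FiniteField.isSquare_neg_one_iff.2 (by omega)
      set m := 2 ^ (j + 1) + 1 with hm
      obtain ⟨r, hr, hrm⟩ := Nat.exists_prime_and_dvd (show m ≠ 1 by
        have := Nat.two_pow_pos (j + 1); omega)
      have hmodd : Odd m := ⟨2 ^ j, by rw [hm, pow_succ]; ring⟩
      have hrodd : Odd r := hmodd.of_dvd_nat hrm
      haveI := Fact.mk hr
      have hq1 : q + 1 = 2 * m := by rw [hk, hm]; ring
      have hrq : r ∣ q + 1 := hq1 ▸ hrm.mul_left 2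
      have hr2 : r ≠ 2 := fun h => by subst h; exact absurd hrodd (by decide)
      have hrq1 : ¬ r ∣ q - 1 := fun h => hr2 ((Nat.prime_dvd_prime_iff_eq hr Nat.prime_two).1 (by
        have := Nat.dvd_sub hrq h
        rwa [show q + 1 - (q - 1) = 2 by omega] at this))
      obtain ⟨t, ht⟩ := exists_prime_orderOf_dvd_card' (G := Matrix.SpecialLinearGroup (Fin 2) F) r (by
        rw [TwoByTwo.card_sl_two, Nat.card_eq_fintype_card, ← hq]
        have : q ^ 2 - 1 = (q + 1) * (q - 1) := by
          have := Nat.sq_sub_sq q 1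
          simpa using this
        rw [this]
        first
          | exact Dvd.dvd.mul_right (hrq.mul_right _) _
          | exact Dvd.dvd.mul_left (hrq.mul_right _) _)
      refine ⟨t, r, hr, hrodd, ht, fun hs => ?_⟩
      set A : Matrix (Fin 2) (Fin 2) F := (t : Matrix (Fin 2) (Fin 2) F) with hA
      have hdet : A 0 0 * A 1 1 - A 0 1 * A 1 0 = 1 := by rw [← Matrix.det_fin_two]; exact t.2
      obtain ⟨w, hw⟩ : IsSquare ((A 0 0 + A 1 1) ^ 2 - 4) := by
        have := hneg.mul hs
        rwa [show (-1 : F) * (4 - (A 0 0 + A 1 1) ^ 2) = (A 0 0 + A 1 1) ^ 2 - 4 by ring] at this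
      have h2' : (2 : F) ≠ 0 := Ring.two_ne_zero h2
      obtain ⟨lam, hlam⟩ : ∃ l : F, l * l - (A 0 0 + A 1 1) * l + 1 = 0 :=
        ⟨(A 0 0 + A 1 1 + w) / 2, by field_simp; linear_combination -hw⟩
      obtain ⟨v, hv0, hv⟩ := Matrix.exists_mulVec_eq_zero_iff.2 (show (A - Matrix.scalar (Fin 2) lam).det = 0 by
        rw [Matrix.det_fin_two]
        simp
        linear_combination hdet + hlam)
      have hv' : A *ᵥ v = lam • v := by
        rw [Matrix.sub_mulVec, sub_eq_zero] at hv
        rw [hv]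
        ext i
        simp [Matrix.scalar_apply, Matrix.mulVec_diagonal]
      have hpow : ∀ i : ℕ, (A ^ i) *ᵥ v = lam ^ i • v := fun i => by
        induction i with
        | zero => simp
        | succ i ih => rw [pow_succ, ← Matrix.mulVec_mulVec, hv', Matrix.mulVec_smul, ih, smul_smul, pow_succ']
      have hlr : lam ^ r = 1 := by
        have h := hpow r
        rw [hA, ← Matrix.SpecialLinearGroup.coe_pow, ← ht, pow_orderOf_eq_one,
          Matrix.SpecialLinearGroup.coe_one, Matrix.one_mulVec, ht] at h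
        obtain ⟨i, hi⟩ := Function.ne_iff.1 hv0
        have h' := congrFun h i
        simp only [Pi.smul_apply, smul_eq_mul] at h'
        exact (mul_eq_right₀ hi).1 h'.symm
      have hl0 : lam ≠ 0 := fun h => by rw [h, zero_pow hr.ne_zero] at hlr; exact zero_ne_one hlr
      have hl1 : lam = 1 := orderOf_eq_one_iff.1 (Nat.eq_one_of_dvd_coprimes
        (hr.coprime_iff_not_dvd.2 hrq1) (orderOf_dvd_of_pow_eq_one hlr)
        (orderOf_dvd_of_pow_eq_one (FiniteField.pow_card_sub_one_eq_one lam hl0)))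
      -- the trace is two, so `t` is unipotent
      have htr : A 0 0 + A 1 1 = 2 := by rw [hl1] at hlam; linear_combination -hlam
      have hN : (A - 1) * (A - 1) = 0 := by
        ext i j
        fin_cases i <;> fin_cases j <;> simp [Matrix.mul_apply, Fin.sum_univ_two]
        · linear_combination (A 0 0) * htr - hdet
        · linear_combination (A 0 1) * htr
        · linear_combination (A 1 0) * htr
        · linear_combination (A 1 1) * htr - hdet
      have hAr : A ^ r = 1 + (r : F) • (A - 1) := by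
        generalize r = i
        induction i with
        | zero => simp
        | succ i ih =>
          have hA1 : A = 1 + (A - 1) := (add_sub_cancel _ _).symm
          calc A ^ (i + 1) = (1 + (i : F) • (A - 1)) * (1 + (A - 1)) := by rw [pow_succ, ih, ← hA1]
            _ = 1 + ((i : F) + 1) • (A - 1) := by
              rw [add_mul, mul_add, mul_add, one_mul, one_mul, mul_one, smul_mul_assoc, hN, smul_zero,
                add_zero, add_smul, one_smul]
              abel
            _ = _ := by rw [Nat.cast_succ]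
      have hAr1 : A ^ r = 1 := by
        rw [hA, ← Matrix.SpecialLinearGroup.coe_pow, ← ht, pow_orderOf_eq_one,
          Matrix.SpecialLinearGroup.coe_one]
      rw [hAr1, eq_comm, add_eq_left, smul_eq_zero] at hAr
      rcases hAr with h0 | h0
      · obtain ⟨p, hp⟩ := CharP.exists F
        haveI := hp
        obtain ⟨i, hpp, hi⟩ := FiniteField.card F p
        have hpr : p ∣ r := (CharP.cast_eq_zero_iff F p r).1 h0
        have hpr' : p = r := (Nat.prime_dvd_prime_iff_eq hpp hr).1 hpr
        have hrq' : r ∣ q := by rw [hq, hi, hpr']; exact dvd_pow_self r i.ne_zero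
        exact hr.one_lt.ne' (Nat.eq_one_of_dvd_coprimes (Nat.coprime_self_add_right.2
          (Nat.coprime_one_right q)) hrq' hrq)
      · have : t = 1 := Subtype.ext (sub_eq_zero.1 h0)
        rw [this, orderOf_one] at ht
        exact hr.ne_one ht.symm
    · have hneg : ¬ IsSquare (-1 : F) := fun h => (FiniteField.isSquare_neg_one_iff.1 h) (by omega)
      set m := 2 * 2 ^ j - 1 with hm
      have := Nat.two_pow_pos j
      obtain ⟨r, hr, hrm⟩ := Nat.exists_prime_and_dvd (show m ≠ 1 by omega)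
      have hrodd : Odd r := (show Odd m from ⟨2 ^ j - 1, by omega⟩).of_dvd_nat hrm
      haveI := Fact.mk hr
      have hrq : r ∣ q - 1 := (hrm.mul_left 2).trans (dvd_of_eq (by omega))
      obtain ⟨a, ha⟩ := exists_prime_orderOf_dvd_card' (G := Fˣ) r (by
        rwa [Nat.card_units, Nat.card_eq_fintype_card, ← hq])
      let D : Fˣ →* Matrix.SpecialLinearGroup (Fin 2) F :=
        { toFun := fun a => ⟨!![(a : F), 0; 0, ((a⁻¹ : Fˣ) : F)], by simp [Matrix.det_fin_two_of]⟩
          map_one' := Subtype.ext (by ext i j; fin_cases i <;> fin_cases j <;> simp)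
          map_mul' := fun a b => Subtype.ext (by
            show !![((a * b : Fˣ) : F), 0; 0, (((a * b)⁻¹ : Fˣ) : F)] =
              !![(a : F), 0; 0, ((a⁻¹ : Fˣ) : F)] * !![(b : F), 0; 0, ((b⁻¹ : Fˣ) : F)]
            ext i j
            fin_cases i <;> fin_cases j <;> simp [Matrix.mul_apply, Fin.sum_univ_two, mul_comm]) }
      have hD0 : ∀ a : Fˣ, (D a : Matrix (Fin 2) (Fin 2) F) = !![(a : F), 0; 0, ((a⁻¹ : Fˣ) : F)] := fun _ => rfl
      have hD : Function.Injective D := fun a b h => Units.ext (by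
        have := congrArg (fun s : Matrix.SpecialLinearGroup (Fin 2) F =>
          (s : Matrix (Fin 2) (Fin 2) F) 0 0) h
        simpa [hD0] using this)
      refine ⟨D a, r, hr, hrodd, by rw [orderOf_injective D hD, ha], fun hs => hneg ?_⟩
      obtain ⟨w, hw⟩ := hs
      have hw' : 4 - ((a : F) + ((a⁻¹ : Fˣ) : F)) ^ 2 = w * w := by
        simpa [hD0] using hw
      have hne : (a : F) - ((a⁻¹ : Fˣ) : F) ≠ 0 := fun h => by
        have haa : a * a = 1 := by
          conv_lhs => rw [show a * a = a * (a⁻¹)⁻¹ by rw [inv_inv]]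
          rw [mul_inv_eq_one]
          exact Units.ext (sub_eq_zero.1 h)
        have h2 := orderOf_dvd_of_pow_eq_one (show a ^ 2 = 1 by rw [pow_two, haa])
        rw [ha] at h2
        exact absurd ((Nat.prime_dvd_prime_iff_eq hr Nat.prime_two).1 h2 ▸ hrodd) (by decide)
      refine ⟨w / ((a : F) - ((a⁻¹ : Fˣ) : F)), ?_⟩
      rw [div_mul_div_comm, eq_div_iff (mul_ne_zero hne hne), ← hw']
      linear_combination 4 * (a.mul_inv : (a : F) * ((a⁻¹ : Fˣ) : F) = 1)
  have hd0 : (4 - ((t : Matrix (Fin 2) (Fin 2) F) 0 0 + (t : Matrix (Fin 2) (Fin 2) F) 1 1) ^ 2) ≠ 0 :=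
    fun h => hd (h ▸ IsSquare.zero)
  obtain ⟨g₀, hg₀, hg₀sq, hg₀t⟩ := exists_traceless rfl hd0
  have hprod : IsSquare ((Matrix.GeneralLinearGroup.det g₀ : F) / (Matrix.GeneralLinearGroup.det g : F)) := by
    rw [← quadraticChar_one_iff_isSquare (div_ne_zero (Units.ne_zero _) (Units.ne_zero _)), div_eq_mul_inv,
      map_mul, quadraticChar_neg_one_iff_not_isSquare.2 (by rwa [hg₀]),
      quadraticChar_neg_one_iff_not_isSquare.2 (fun h => hsq (isSquare_inv.1 h))]
    norm_num
  obtain ⟨a, ha⟩ := hprod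
  have ha0 : a ≠ 0 := fun h => by
    rw [h, mul_zero] at ha
    exact div_ne_zero (Units.ne_zero _) (Units.ne_zero _) ha
  obtain ⟨m, -, hm⟩ := exists_adjust e le_rfl (γ := 1) (by rw [hx, mul_one]) (g₀ := g₀) (Units.mk0 a ha0)
    (Units.ext (by
      push_cast
      rw [pow_two, Units.val_mk0, ← ha, div_mul_cancel₀ _ (Units.ne_zero _)]))
  rw [mul_one] at hm
  haveI : Fact r.Prime := ⟨hr⟩
  have hw1 : (QuotientGroup.mk t : Matrix.ProjectiveSpecialLinearGroup (Fin 2) F) ≠ 1 := fun h => by
    obtain ⟨c, hc2, hc'⟩ := exists_smul_of_mk_eq (s := (1 : Matrix.SpecialLinearGroup (Fin 2) F)) h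
    have h2 : t ^ 2 = 1 := Subtype.ext (by
      rw [Matrix.SpecialLinearGroup.coe_pow, hc', smul_pow, hc2, one_smul,
        Matrix.SpecialLinearGroup.coe_one, one_pow])
    have := orderOf_dvd_of_pow_eq_one h2
    rw [hto] at this
    exact absurd ((Nat.prime_dvd_prime_iff_eq hr Nat.prime_two).1 this ▸ hrodd) (by decide)
  refine false_of_two e hc hcit (y := m * x) ?_ ?_ (w := (QuotientGroup.mk t)) ?_ ?_ hw1
  · rw [hm, semi_mul', mapGL_one, one_mul, hg₀sq, semi_eq_one_iff le_rfl]
    exact ⟨rfl, _, rfl⟩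
  · rw [hm, Ne, semi_eq_one_iff le_rfl]
    rintro ⟨-, c, hc'⟩
    refine hd ⟨(c : F), ?_⟩
    rw [← hg₀, hc', det_scalar]
    push_cast; ring
  · rw [hm]; exact semi_fix (Matrix.ext fun i j => rfl) hg₀t
  · exact hrodd.of_dvd_nat (hto ▸ orderOf_map_dvd (QuotientGroup.mk' _) t)


/-- A group with a normal `PSL(2, q)` of trivial centraliser and `2`-groups as centralisers of
involutions is `PSL(2, q)`, unless `q = 9` and the index is two. -/
theorem top_or_nine (hodd : Odd (Fintype.card F)) (h5 : 5 ≤ Fintype.card F)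
    (hq : Fintype.card F = 9 ∨ ((Fintype.card F).Prime ∧
      ∃ k : ℕ, Fintype.card F = 2 ^ k + 1 ∨ Fintype.card F + 1 = 2 ^ k)) :
    M = ⊤ ∨ (Fintype.card F = 9 ∧ M.index = 2) := by
  classical
  have hk : ∃ k : ℕ, Fintype.card F = 2 ^ k + 1 ∨ Fintype.card F + 1 = 2 ^ k := by
    rcases hq with h | ⟨-, h⟩
    · exact ⟨3, Or.inl (by rw [h]; norm_num)⟩
    · exact h
  have hsemi : ∀ x, ∃ g σ, autMap e x = semi g σ := fun x => by
    obtain ⟨g, σ, h | ⟨h3, -⟩⟩ := aut_eq le_rfl (autMap e x)
    · exact ⟨g, σ, h⟩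
    · omega
  have hσ : ∀ {x : G} {g σ}, autMap e x = semi g σ → x ∉ M → σ ≠ 1 := fun h hx h1 =>
    hx (mem_of_semi_two e hc hcit hodd h5 hk (h1 ▸ h))
  obtain ⟨p, hp⟩ := CharP.exists F
  obtain ⟨i, hpp, hi⟩ := FiniteField.card F p
  rcases hq with h9 | ⟨hprime, -⟩
  · refine or_iff_not_imp_left.2 fun hne => ⟨h9, ?_⟩
    obtain ⟨a, ha⟩ : ∃ a, a ∉ M := by
      by_contra h
      push Not at h
      exact hne ((Subgroup.eq_top_iff' M).2 h)
    have hp3 : p = 3 := (Nat.prime_dvd_prime_iff_eq hpp Nat.prime_three).1 (hpp.dvd_of_dvd_pow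
      (show p ∣ 3 ^ 2 by rw [show (3 : ℕ) ^ 2 = 9 by norm_num, ← h9, hi]; exact dvd_pow_self p i.ne_zero))
    subst hp3
    refine Subgroup.index_eq_two_iff.2 ⟨a, fun b => ?_⟩
    by_cases hb : b ∈ M
    · exact Or.inr ⟨hb, fun h => ha ((M.mul_mem_cancel_left hb).1 h)⟩
    · refine Or.inl ⟨?_, hb⟩
      obtain ⟨g, σ, hg⟩ := hsemi b
      obtain ⟨g', σ', hg'⟩ := hsemi a
      obtain ⟨-, hστ⟩ := (aut_field Nat.prime_three).2 (by rw [h9]; norm_num) σ σ' (hσ hg hb) (hσ hg' ha)
      refine mem_of_semi_two e hc hcit hodd h5 hk (g := g * mapGL σ g') ?_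
      rw [map_mul, hg, hg', semi_mul', hστ]
  · left
    have hcardp : Fintype.card F = p := by
      rw [hi] at hprime ⊢
      rw [hprime.eq_one_of_pow, pow_one]
    refine (Subgroup.eq_top_iff' M).2 fun x => ?_
    obtain ⟨g, σ, hg⟩ := hsemi x
    by_contra hx
    exact hσ hg hx ((aut_field hpp).1 hcardp σ)

end Two

section Three

variable {M : Subgroup G} [M.Normal] {F : Type v} [Field F] [Fintype F]
  (e : M ≃* Matrix.ProjectiveSpecialLinearGroup (Fin 3) F)
  (hc : Subgroup.centralizer (M : Set G) = ⊥) (hcit : CIT G)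

local notation "SL3" => Matrix.SpecialLinearGroup (Fin 3) F
local notation "PSL3" => Matrix.ProjectiveSpecialLinearGroup (Fin 3) F

theorem mk_ne_one_of_entry {s : SL3} {i j : Fin 3} (hij : i ≠ j)
    (h : (s : Matrix (Fin 3) (Fin 3) F) i j ≠ 0) : (QuotientGroup.mk s : PSL3) ≠ 1 := fun h1 => by
  obtain ⟨c, -, hc'⟩ := exists_smul_of_mk_eq (s := (1 : SL3)) h1
  exact h (by rw [hc']; simp [hij])

include e hc hcit

/-- A group with a normal `PSL(3, 4)` of trivial centraliser and `2`-groups as centralisers of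
involutions is `PSL(3, 4)`. -/
theorem top_of_three (hF : Fintype.card F = 4) : M = ⊤ := by
  classical
  obtain ⟨p, hp⟩ := CharP.exists F
  obtain ⟨i, hpp, hi⟩ := FiniteField.card F p
  have hp2 : p = 2 := (Nat.prime_dvd_prime_iff_eq hpp Nat.prime_two).1 (hpp.dvd_of_dvd_pow
    (show p ∣ 2 ^ 2 by rw [show (2 : ℕ) ^ 2 = 4 by norm_num, ← hF, hi]; exact dvd_pow_self p i.ne_zero))
  subst hp2
  have two : (2 : F) = 0 := by exact_mod_cast CharP.cast_eq_zero F 2
  have hcube : ∀ a : Fˣ, a ^ 3 = 1 := fun a => by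
    have := pow_card_eq_one (x := a)
    rwa [Fintype.card_units, hF] at this
  have hω : ∀ d : Fˣ, d ≠ 1 → (d : F) ^ 2 + d + 1 = 0 := fun d hd => by
    have h1 : ((d : F) - 1) * ((d : F) ^ 2 + d + 1) = 0 := by
      have : (d : F) ^ 3 = 1 := by simpa using congrArg (fun u : Fˣ => (u : F)) (hcube d)
      linear_combination this
    exact (mul_eq_zero.1 h1).resolve_left fun h => hd (Units.ext (sub_eq_zero.1 h))
  set fr : F ≃+* F := frobeniusEquiv F 2 with hfr
  have hfr' : ∀ a : F, fr a = a ^ 2 := fun a => frobeniusEquiv_def F 2 a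
  have hfr1 : fr ≠ 1 := fun h => by
    have hle : (Finset.univ : Finset F) ⊆ {0, 1} := fun a _ => by
      have ha : a ^ 2 = a := by rw [← hfr', h]; rfl
      rcases mul_eq_zero.1 (show a * (a - 1) = 0 by linear_combination ha) with h0 | h0
      · simp [h0]
      · simp [sub_eq_zero.1 h0]
    have := (Finset.card_le_card hle).trans Finset.card_le_two
    rw [Finset.card_univ, hF] at this
    omega
  have hσ : ∀ σ : F ≃+* F, σ ≠ 1 → σ = fr ∧ σ * σ = 1 := fun σ h => by
    have h2 := (aut_field Nat.prime_two).2 (by rw [hF]; norm_num)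
    exact ⟨(h2 σ fr h hfr1).1, (h2 σ σ h h).2⟩
  have hne : ∀ {m x : G}, m ∈ M → x ∉ M → autMap e (m * x) ≠ 1 := fun hm hx h =>
    hx ((M.mul_mem_cancel_left hm).1 (autMap_injective e hc (h.trans (map_one _).symm) ▸ one_mem M))
  -- the permutation matrix of a three cycle
  let π : SL3 := ⟨!![0, 1, 0; 0, 0, 1; 1, 0, 0], by rw [Matrix.det_fin_three]; simp⟩
  have hπ3 : π ^ 3 = 1 := Subtype.ext (by
    rw [Matrix.SpecialLinearGroup.coe_pow, Matrix.SpecialLinearGroup.coe_one]
    show (!![0, 1, 0; 0, 0, 1; 1, 0, 0] : Matrix (Fin 3) (Fin 3) F) ^ 3 = 1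
    ext a b
    fin_cases a <;> fin_cases b <;> simp [pow_succ, Matrix.mul_apply, Fin.sum_univ_three])
  have hπT : invT (QuotientGroup.mk π : PSL3) = QuotientGroup.mk π := by
    rw [invT_mk]
    refine congrArg _ (Subtype.ext ?_)
    rw [slInvT_coe, show π⁻¹ = π * π from inv_eq_of_mul_eq_one_right (by rw [← hπ3, pow_succ', pow_two])]
    show ((!![0, 1, 0; 0, 0, 1; 1, 0, 0] : Matrix (Fin 3) (Fin 3) F) * !![0, 1, 0; 0, 0, 1; 1, 0, 0])ᵀ =
      !![0, 1, 0; 0, 0, 1; 1, 0, 0]
    ext a b
    fin_cases a <;> fin_cases b <;> simp [Matrix.mul_apply, Fin.sum_univ_three]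
  have hπ1 : (QuotientGroup.mk π : PSL3) ≠ 1 := mk_ne_one_of_entry (i := 0) (j := 1) (by decide) (by simp [π])
  have hπo : Odd (orderOf (QuotientGroup.mk π : PSL3)) := (Nat.odd_iff.2 rfl : Odd 3).of_dvd_nat
    ((orderOf_map_dvd (QuotientGroup.mk' _) π).trans (orderOf_dvd_of_pow_eq_one hπ3))
  -- diagonal automorphisms
  have inner : ∀ {x : G} {g : GL (Fin 3) F}, autMap e x = semi g 1 → x ∈ M := by
    intro x g hx
    by_cases hd : Matrix.GeneralLinearGroup.det g = 1
    · exact mem_of_semi e hc (by norm_num) hx 1 (by rw [hd, one_pow, mul_one])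
    by_contra hxM
    set d := Matrix.GeneralLinearGroup.det g
    set g₀ := diagGL (n := 3) ![d, 1, 1] with hg₀
    obtain ⟨m, hm, hmx⟩ := exists_adjust e (by norm_num) (γ := 1) (by rw [hx, mul_one]) (g₀ := g₀) 1 (by
      rw [hg₀, det_diagGL, one_pow, one_mul, Fin.prod_univ_three]; simp [d])
    rw [mul_one] at hmx
    have h3 : g₀ * g₀ * g₀ = 1 := Units.ext (by
      rw [Units.val_mul, Units.val_mul, hg₀, diagGL_coe, Matrix.diagonal_mul_diagonal,
        Matrix.diagonal_mul_diagonal, Units.val_one, ← Matrix.diagonal_one]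
      congr 1
      funext a
      have : (d : F) ^ 3 = 1 := by simpa using congrArg (fun u : Fˣ => (u : F)) (hcube d)
      fin_cases a <;> simp
      linear_combination this)
    let τ : SL3 := ⟨!![1, 0, 0; 0, 1, 1; 0, 0, 1], by rw [Matrix.det_fin_three]; simp⟩
    refine false_of_three e hc hcit (y := m * x) ?_ (hne hm hxM) (w := QuotientGroup.mk τ) ?_ ?_
      (mk_ne_one_of_entry (i := 1) (j := 2) (by decide) (by simp [τ]))
    · rw [pow_succ, pow_two, hmx, semi_mul', mapGL_one, one_mul, semi_mul', mapGL_one, one_mul, h3, semi_one]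
    · rw [hmx]
      refine semi_fix (Matrix.ext fun a b => rfl) ?_
      ext a b
      fin_cases a <;> fin_cases b <;> simp [hg₀, diagGL_coe, τ, Matrix.mul_apply, Fin.sum_univ_three]
    · rw [← QuotientGroup.mk_mul, show τ * τ = 1 from Subtype.ext (by
        show (!![1, 0, 0; 0, 1, 1; 0, 0, 1] : Matrix (Fin 3) (Fin 3) F) * !![1, 0, 0; 0, 1, 1; 0, 0, 1] = 1
        ext a b
        fin_cases a <;> fin_cases b <;> simp [Matrix.mul_apply, Fin.sum_univ_three]
        all_goals linear_combination two)]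
      rfl
  refine (Subgroup.eq_top_iff' M).2 fun x => ?_
  by_contra hx
  obtain ⟨g, σ, hg | ⟨-, hg⟩⟩ := aut_eq (n := 3) (by norm_num) (autMap e x)
  · -- field automorphisms
    by_cases h1 : σ = 1
    · exact hx (inner (h1 ▸ hg))
    obtain ⟨hσf, hσ2⟩ := hσ σ h1
    set d := Matrix.GeneralLinearGroup.det g
    set g₀ := diagGL (n := 3) ![d, 1, 1] with hg₀
    obtain ⟨m, hm, hmx⟩ := exists_adjust e (by norm_num) (γ := 1) (by rw [hg, mul_one]) (g₀ := g₀) 1 (by
      rw [hg₀, det_diagGL, one_pow, one_mul, Fin.prod_univ_three]; simp [d])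
    rw [mul_one] at hmx
    have h2 : g₀ * mapGL σ g₀ = 1 := Units.ext (by
      rw [Units.val_mul, mapGL_coe, hg₀, diagGL_coe, Matrix.diagonal_map (map_zero σ),
        Matrix.diagonal_mul_diagonal, Units.val_one, ← Matrix.diagonal_one]
      congr 1
      funext a
      have : (d : F) ^ 3 = 1 := by simpa using congrArg (fun u : Fˣ => (u : F)) (hcube d)
      fin_cases a <;> simp [hσf, hfr']
      linear_combination this)
    let ρ : SL3 := ⟨!![1, 0, 0; 0, 0, 1; 0, 1, 1], by
      rw [Matrix.det_fin_three]; simp; linear_combination (-1 : F) * two⟩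
    have hρ3 : ρ ^ 3 = 1 := Subtype.ext (by
      rw [Matrix.SpecialLinearGroup.coe_pow, Matrix.SpecialLinearGroup.coe_one]
      show (!![1, 0, 0; 0, 0, 1; 0, 1, 1] : Matrix (Fin 3) (Fin 3) F) ^ 3 = 1
      ext a b
      fin_cases a <;> fin_cases b <;> simp [pow_succ, Matrix.mul_apply, Fin.sum_univ_three]
      all_goals linear_combination two)
    refine false_of_two e hc hcit (y := m * x) ?_ (hne hm hx) (w := QuotientGroup.mk ρ) ?_ ?_
      (mk_ne_one_of_entry (i := 1) (j := 2) (by decide) (by simp [ρ]))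
    · rw [hmx, semi_mul', h2, hσ2, semi_one]
    · rw [hmx]
      refine semi_fix ?_ ?_
      · ext a b
        fin_cases a <;> fin_cases b <;> simp [ρ]
      · ext a b
        fin_cases a <;> fin_cases b <;> simp [hg₀, diagGL_coe, ρ, Matrix.mul_apply, Fin.sum_univ_three]
    · exact (Nat.odd_iff.2 rfl : Odd 3).of_dvd_nat
        ((orderOf_map_dvd (QuotientGroup.mk' _) ρ).trans (orderOf_dvd_of_pow_eq_one hρ3))
  · -- graph and graph-field automorphisms
    rw [invT_mul_semi] at hg
    generalize starGL g = h at hg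
    clear g
    set d := Matrix.GeneralLinearGroup.det h with hd
    obtain ⟨g₀, hdet, hsq, hcomm⟩ : ∃ g₀ : GL (Fin 3) F, Matrix.GeneralLinearGroup.det g₀ = d ∧
        g₀ * mapGL σ (starGL g₀) = 1 ∧ (g₀ : Matrix (Fin 3) (Fin 3) F) * π = π * (g₀ : Matrix (Fin 3) (Fin 3) F) := by
      by_cases h1 : σ = 1
      · subst h1
        by_cases hd1 : d = 1
        · refine ⟨1, by rw [map_one, hd1], ?_, by simp⟩
          rw [one_mul, mapGL_one]; exact Units.ext (by simp [starGL_coe])
        · set C : Matrix (Fin 3) (Fin 3) F :=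
            !![(d : F), d + 1, d + 1; d + 1, d, d + 1; d + 1, d + 1, d] with hC
          have hCd : C.det = d := by
            rw [hC, Matrix.det_fin_three]; simp
            linear_combination ((d : F) + 1) * two
          refine ⟨Matrix.GeneralLinearGroup.mkOfDetNeZero C (by rw [hCd]; exact d.ne_zero),
            Units.ext hCd, ?_, ?_⟩
          · rw [mapGL_one]
            refine (mul_eq_one_iff_eq_inv).2 (Units.ext ?_)
            rw [starGL_inv_coe]
            exact Matrix.ext fun a b => by fin_cases a <;> fin_cases b <;> rfl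
          · show C * _ = _ * C
            ext a b
            fin_cases a <;> fin_cases b <;> simp [hC, π, Matrix.mul_apply, Fin.sum_univ_three] <;> ring
      · obtain ⟨hσf, hσ2⟩ := hσ σ h1
        have hxx : autMap e (x * x) = semi (h * mapGL σ (starGL h)) 1 := by
          rw [map_mul, hg, ← pow_two, semi_mul_invT_sq, hσ2]
        obtain ⟨u, hu⟩ : ∃ u, autMap e (x * x) = MulAut.conj u := ⟨e ⟨_, inner hxx⟩, by
          rw [← autMap_symm e, e.symm_apply_apply]⟩
        obtain ⟨s, rfl⟩ := QuotientGroup.mk_surjective u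
        rw [hxx, inner_eq_semi, semi_eq_semi (by norm_num)] at hu
        obtain ⟨-, c, hcs⟩ := hu
        have hdd := congrArg Matrix.GeneralLinearGroup.det hcs
        have hdc : Matrix.GeneralLinearGroup.det (starGL h) = d⁻¹ := by
          rw [hd, ← map_inv]; exact Units.ext (Matrix.det_transpose _)
        rw [map_mul, map_mul, det_scalar, hcube, one_mul] at hdd
        have hval := congrArg (fun z : Fˣ => (z : F)) hdd
        have e1 : ((Matrix.GeneralLinearGroup.det (mapGL σ (starGL h)) : Fˣ) : F) =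
            σ ((d⁻¹ : Fˣ) : F) := by
          rw [← hdc]; exact (RingHom.map_det σ.toRingHom _).symm
        have e2 : ((Matrix.GeneralLinearGroup.det (Matrix.SpecialLinearGroup.toGL s) : Fˣ) : F) = 1 := s.2
        simp only [Units.val_mul] at hval
        rw [e1, e2, ← hd, hσf, hfr'] at hval
        have hd1 : d = 1 := Units.ext (by
          have hinv : (d : F) * ((d⁻¹ : Fˣ) : F) = 1 := d.mul_inv
          rw [Units.val_one]
          linear_combination (-(d : F)) * hval + (1 + (d : F) * ((d⁻¹ : Fˣ) : F)) * hinv)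
        exact ⟨1, by rw [map_one, hd1], by rw [one_mul]; exact Units.ext (by simp [mapGL_coe, starGL_coe]), by simp⟩
    obtain ⟨m, hm, hmx⟩ := exists_adjust e (by norm_num) (γ := invT) hg (g₀ := g₀) 1 (by
      rw [hdet, one_pow, one_mul])
    refine false_of_two e hc hcit (y := m * x) ?_ (hne hm hx) (w := QuotientGroup.mk π) ?_ hπo hπ1
    · rw [hmx, ← pow_two, semi_mul_invT_sq, hsq, show σ * σ = 1 from (by
        by_cases h1 : σ = 1
        · rw [h1, one_mul]
        · exact (hσ σ h1).2), semi_one]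
    · rw [hmx, MulAut.mul_apply, hπT]
      refine semi_fix ?_ hcomm
      ext a b
      fin_cases a <;> fin_cases b <;> simp [π]

end Three

end Cfsg.Agent.CNSimple
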