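import Cfsg.Agent.Lib.CNSimple.Offender
import Cfsg.Agent.Lib.SelfThree.FPF

/-!
# Quotients of locals by their largest normal `2`-subgroup; properties of natural locals
-/

set_option autoImplicit false
set_option linter.style.haveILetI false
set_option linter.unusedSectionVars false

namespace Cfsg.Agent.CNSimple

open Cfsg.Agent.Invol

universe u

variable {G : Type u} [Group G] [Finite G]

/-- An involution outside the largest normal `2`-subgroup inverts an element of odd prime order. -/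
theorem IsO2.exists_inverted_invol {X : Subgroup G} (hX : IsO2 X) {s : G} (hs : orderOf s = 2)
    (hsX : s ∉ X) : ∃ y : G, (orderOf y).Prime ∧ Odd (orderOf y) ∧ s * y * s⁻¹ = y⁻¹ := by
  haveI : Fact (Nat.Prime 2) := ⟨Nat.prime_two⟩
  obtain ⟨g, hg⟩ : ∃ g : G, ¬ IsPGroup 2
      ↥(Subgroup.zpowers s ⊔ (Subgroup.zpowers s).map (MulAut.conj g).toMonoidHom) := by
    by_contra hcon
    push Not at hcon
    obtain ⟨N, hN, hNp, hsN⟩ := BaerSuzuki.baerSuzuki (Subgroup.zpowers s)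
      (IsPGroup.of_card (n := 1) (by rw [Nat.card_zpowers, hs, pow_one])) hcon
    exact hsX (hX.le N hN hNp (hsN (Subgroup.mem_zpowers s)))
  set b : G := g * s * g⁻¹ with hb_def
  have hb : orderOf b = 2 := (order_conj g s).trans hs
  have hle : Subgroup.zpowers s ⊔ (Subgroup.zpowers s).map (MulAut.conj g).toMonoidHom ≤
      Subgroup.closure ({s, b} : Set G) := by
    refine sup_le (Subgroup.zpowers_le.2 (Subgroup.subset_closure (by simp))) ?_
    rw [MonoidHom.map_zpowers]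
    exact Subgroup.zpowers_le.2 (Subgroup.subset_closure (by simp [hb_def]))
  obtain ⟨r, hr, hr2, hrd⟩ : ∃ r, r.Prime ∧ r ≠ 2 ∧ r ∣ orderOf (s * b) := by
    by_contra hcon
    push Not at hcon
    refine hg ?_
    rintro ⟨x, hx⟩
    have hk : orderOf (s * b) = 2 ^ (orderOf (s * b)).primeFactorsList.length :=
      Nat.eq_prime_pow_of_unique_prime_dvd (orderOf_pos _).ne' fun {d} hd hdd => by
        by_contra hne
        exact hcon d hd hne hdd
    obtain ⟨i, e | e⟩ := mem_closure_pair hs hb (hle hx)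
    · refine ⟨(orderOf (s * b)).primeFactorsList.length, Subtype.ext ?_⟩
      push_cast
      rw [e, ← zpow_natCast, ← zpow_mul, mul_comm, zpow_mul, zpow_natCast, ← hk, pow_orderOf_eq_one,
        one_zpow]
    · refine ⟨1, Subtype.ext ?_⟩
      push_cast
      rw [pow_two, e, inverted_mul_invol hs (conj_mul hs hb) i]
  obtain ⟨m, hm⟩ := hrd
  have hm0 : m ≠ 0 := by rintro rfl; rw [mul_zero] at hm; exact (orderOf_pos (s * b)).ne' hm
  have hco : orderOf ((s * b) ^ m) = r := by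
    rw [orderOf_pow' _ hm0, hm, Nat.gcd_eq_right (dvd_mul_left m r),
      Nat.mul_div_cancel _ (Nat.pos_of_ne_zero hm0)]
  exact ⟨(s * b) ^ m, hco ▸ hr, hco ▸ hr.odd_of_ne_two hr2, Invol.conj_pow (conj_mul hs hb) m⟩

namespace Loc

variable {L T X : Subgroup G} (h : Loc L T X)
include h

theorem sqrt_invol (hc : CIT G) {D : Subgroup G} (hD : IsPGroup 2 D)
    (hDn : L ≤ Subgroup.normalizer (D : Set G)) {s : G} (hs : orderOf s = 2) (hsL : s ∈ L) (hsX : s ∉ X) :
    Nat.card (D ⊓ Ct s : Subgroup G) * Nat.card (D ⊓ Ct s : Subgroup G) ≤ Nat.card D := by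
  obtain ⟨y, hyp, hyo, hsy⟩ := h.isO2.exists_inverted_invol (s := (⟨s, hsL⟩ : L))
    (by rwa [Subgroup.orderOf_mk]) (fun e => hsX e)
  refine sqrt_bound hc hD hs (y := (y : G)) (by rwa [Subgroup.orderOf_coe])
    (fun e => hyp.ne_one (by rw [← Subgroup.orderOf_coe y, e, orderOf_one])) (congrArg Subtype.val hsy) (hDn y.2)

/-- The quotient has no configuration of degree four. -/
theorem quot_cases (hc : CIT G) (ih : IHyp G) (hL : Nat.card L < Nat.card G) [hn : (X.subgroupOf L).Normal] :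
    (∀ s t : L ⧸ X.subgroupOf L, orderOf s = 2 → orderOf t = 2 → s * t = t * s → s = t) ∨
      (IsSimpleGroup (L ⧸ X.subgroupOf L) ∧ ∃ K : Subgroup (L ⧸ X.subgroupOf L), TIHyp K) := by
  classical
  set V := omegaZ X with hVdef
  set π := QuotientGroup.mk' (X.subgroupOf L) with hπ
  have hπ1 : ∀ g : L, π g = 1 ↔ (g : G) ∈ X := fun g =>
    (QuotientGroup.eq_one_iff g).trans Subgroup.mem_subgroupOf
  let act : L →* MulAut V := (Subgroup.normalizerMonoidHom V).comp (Subgroup.inclusion h.V_norm)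
  let φ : L ⧸ X.subgroupOf L →* MulAut V := QuotientGroup.lift _ act fun g hg => by
    refine MulEquiv.ext fun v => Subtype.ext ?_
    show (g : G) * v * (g : G)⁻¹ = v
    rw [← omegaZ_central v.2 (Subgroup.mem_subgroupOf.1 hg), mul_inv_cancel_right]
  have hφ : ∀ (g : L) (v : V), ((φ (π g) v : V) : G) = g * v * (g : G)⁻¹ := fun g v => rfl
  have hcQ : CIT (L ⧸ X.subgroupOf L) := h.isO2.quotient_cit (hc.subgroup L)
  have hQL : Nat.card (L ⧸ X.subgroupOf L) ≤ Nat.card L :=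
    Nat.card_le_card_of_surjective π (QuotientGroup.mk'_surjective _)
  rcases o2_trivial hcQ h.isO2.quotient_o2 (fun M hM hnc => ih M (lt_of_le_of_lt
      ((Subgroup.card_le_card_group M).trans hQL) hL) (hcQ.subgroup M) hM hnc) with
    hone | hcfg | hti
  · exact Or.inl hone
  swap
  · exact Or.inr hti
  exfalso
  letI : CommGroup V := { (inferInstance : Group V) with
    mul_comm := fun a b => Subtype.ext ((omegaZ_elem X).2 a a.2 b b.2) }
  haveI : Nontrivial V := (Subgroup.nontrivial_iff_ne_bot V).2 h.V_ne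
  refine SFourCfg.module_false (fun a => Subtype.ext ((omegaZ_elem X).1 a a.2)) φ ?_ ?_ hcfg
  · intro c hco v e
    by_contra hv1
    obtain ⟨g, rfl⟩ := QuotientGroup.mk'_surjective _ c
    have e' : (g : G) * v * (g : G)⁻¹ = v := (hφ g v).symm.trans (congrArg Subtype.val e)
    obtain ⟨k, hk⟩ := order_two_pow h.V_pGroup v.2
    obtain ⟨i, hi⟩ := order_two_pow (hc.isPGroup (fun e1 => hv1 (Subtype.ext e1)) hk)
      (mem_Ct.2 (mul_inv_eq_iff_eq_mul.1 e'))
    have hd : orderOf (π g) ∣ 2 ^ i := by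
      rw [← hi, Subgroup.orderOf_coe]; exact orderOf_map_dvd π g
    rw [hco] at hd
    have := (Nat.prime_dvd_prime_iff_eq Nat.prime_three Nat.prime_two).1 (Nat.prime_three.dvd_of_dvd_pow hd)
    omega
  · intro c hco
    obtain ⟨g, rfl⟩ := QuotientGroup.mk'_surjective _ c
    have hgX : (g : G) ∉ X := fun e => ne_one hco ((hπ1 g).2 e)
    have hg2 : (g : G) * g ∈ X := (hπ1 (g * g)).1 (by rw [map_mul]; exact mul_self hco)
    have e : Nat.card {v : V // φ (π g) v = v} = Nat.card (V ⊓ Ct (g : G) : Subgroup G) :=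
      Nat.card_congr
        ⟨fun v => ⟨(v.1 : G), v.1.2, mem_Ct.2
          (mul_inv_eq_iff_eq_mul.1 ((hφ g v.1).symm.trans (congrArg Subtype.val v.2))).symm⟩,
        fun v => ⟨⟨v.1, v.2.1⟩, Subtype.ext ((hφ g _).trans (by
          show (g : G) * v.1 * (g : G)⁻¹ = v.1
          rw [← mem_Ct.1 v.2.2, mul_inv_cancel_right]))⟩, fun v => rfl, fun v => rfl⟩
    rw [e]
    exact h.sqrt hc g.2 hgX hg2

end Loc

/-- The fixed points of `T` on the module. -/
abbrev zT (T X : Subgroup G) : Subgroup G := omegaZ X ⊓ Subgroup.centralizer (T : Set G)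

namespace Natural

variable {L T X : Subgroup G} {q : ℕ} (n : Natural L T X q) (hc : CIT G)
include n hc

omit hc in
theorem V_le_T : omegaZ X ≤ T := n.loc.V_le.trans n.loc.X_le

omit hc in
theorem zT_le_T : zT T X ≤ T := inf_le_left.trans n.V_le_T

omit hc in
theorem exists_outside_Z : ∃ v ∈ omegaZ X, v ∉ zT T X := by
  by_contra hcon
  push Not at hcon
  have h1 := Subgroup.card_le_of_le (show omegaZ X ≤ zT T X from hcon)
  rw [n.card_V, n.card_Z] at h1
  have := n.two_le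
  nlinarith

omit hc in
theorem exists_Z : ∃ z ∈ zT T X, z ≠ 1 := by
  obtain ⟨⟨z, hz⟩, hz1⟩ := Subgroup.ne_bot_iff_exists_ne_one.1
    (fun e : zT T X = ⊥ => by
      have h1 := n.card_Z
      rw [show omegaZ X ⊓ Subgroup.centralizer (T : Set G) = ⊥ from e, Subgroup.card_bot] at h1
      have := n.two_le
      omega)
  exact ⟨z, hz, fun e => hz1 (Subtype.ext e)⟩

theorem zT_eq : zT T X = omegaZ T := by
  refine le_antisymm (fun z hz => ⟨n.zT_le_T hz, (omegaZ_elem X).1 z hz.1, fun a ha => (hz.2 a ha).symm⟩) ?_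
  intro z hz
  have hzX : z ∈ X := n.loc.cent hc (n.loc.T_le hz.1) fun v hv => hz.2.2 v (n.V_le_T hv)
  exact ⟨⟨hzX, hz.2.1, fun a ha => hz.2.2 a (n.loc.X_le ha)⟩, fun a ha => (hz.2.2 a ha).symm⟩

/-- Elements of `T` outside `X` fix only `zT` on the module. -/
theorem fix_eq {s : G} (hs : s ∈ T) (hsX : s ∉ X) : omegaZ X ⊓ Ct s = zT T X := by
  classical
  obtain ⟨k, hk⟩ := order_two_pow n.loc.T_pGroup hs
  have hex : ∃ j, s ^ 2 ^ j ∈ X := ⟨k, by rw [← hk, pow_orderOf_eq_one]; exact X.one_mem⟩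
  have h0 : 0 < Nat.find hex := by
    rcases Nat.eq_zero_or_pos (Nat.find hex) with h0 | h0
    · exact absurd (by simpa [h0] using Nat.find_spec hex) hsX
    · exact h0
  set s' := s ^ 2 ^ (Nat.find hex - 1) with hs'
  have hb := n.loc.sqrt hc (s₀ := s') (n.loc.T_le (pow_mem hs _)) (Nat.find_min hex (by omega)) (by
    rw [hs', ← pow_add, ← two_mul, ← pow_succ', show Nat.find hex - 1 + 1 = Nat.find hex by omega]
    exact Nat.find_spec hex)
  have hle : omegaZ X ⊓ Ct s ≤ omegaZ X ⊓ Ct s' := le_inf inf_le_left fun v hv =>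
    mem_Ct.2 ((show Commute v s from mem_Ct.1 hv.2).pow_right _).eq
  have hge : zT T X ≤ omegaZ X ⊓ Ct s := le_inf inf_le_left fun v hv => mem_Ct.2 (hv.2 s hs).symm
  refine (Subgroup.eq_of_le_of_card_ge hge ?_).symm
  refine (Subgroup.card_le_of_le hle).trans ?_
  rw [n.card_V] at hb
  rw [show Nat.card (zT T X) = q from n.card_Z]
  nlinarith

theorem mem_X_of_comm {s v : G} (hs : s ∈ T) (hv : v ∈ omegaZ X) (hvZ : v ∉ zT T X)
    (hsv : v * s = s * v) : s ∈ X := by
  by_contra hsX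
  exact hvZ ((n.fix_eq hc hs hsX).le ⟨hv, mem_Ct.2 hsv⟩)

/-- Conjugation moving a point of `zT` into `zT` normalises `T`. -/
theorem Z_meet {l v : G} (hl : l ∈ L) (hv : v ∈ zT T X) (hv1 : v ≠ 1) (hlv : l * v * l⁻¹ ∈ zT T X) :
    l ∈ Subgroup.normalizer (T : Set G) := by
  have h1 := n.loc.Ct_eq_T hc hv.1 hv1 fun t ht => mem_Ct.2 (hv.2 t ht)
  have h2 := n.loc.Ct_eq_T hc hlv.1 (fun e => hv1 (conj_eq_one_iff.1 e)) fun t ht => mem_Ct.2 (hlv.2 t ht)
  have key : ∀ t : G, t ∈ L ⊓ Ct v ↔ l * t * l⁻¹ ∈ L ⊓ Ct (l * v * l⁻¹) := by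
    intro t
    simp only [Subgroup.mem_inf, mem_Ct]
    refine and_congr ⟨fun ht => L.mul_mem (L.mul_mem hl ht) (L.inv_mem hl), fun ht => ?_⟩ ?_
    · have := L.mul_mem (L.mul_mem (L.inv_mem hl) ht) hl
      simpa [mul_assoc] using this
    · constructor
      · intro e
        calc l * t * l⁻¹ * (l * v * l⁻¹) = l * (t * v) * l⁻¹ := by group
          _ = l * v * l⁻¹ * (l * t * l⁻¹) := by rw [e]; group
      · intro e
        calc t * v = l⁻¹ * (l * t * l⁻¹ * (l * v * l⁻¹)) * l := by group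
          _ = v * t := by rw [e]; group
  refine Subgroup.mem_normalizer_iff.2 fun t => ?_
  rw [← h1, key t, h2, h1]

/-- Two different conjugates of `T` meet in `X`. -/
theorem inter_le {l t : G} (hl : l ∈ L) (hlT : l ∉ Subgroup.normalizer (T : Set G)) (ht : t ∈ T)
    (ht' : l⁻¹ * t * l ∈ T) : t ∈ X := by
  by_contra htX
  obtain ⟨z, hz, hz1⟩ := n.exists_Z
  refine hlT (n.Z_meet hc hl hz hz1 ((n.fix_eq hc ht htX).le ⟨n.loc.conj_V hl hz.1, mem_Ct.2 ?_⟩))
  have e := hz.2 _ ht'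
  calc l * z * l⁻¹ * t = l * (z * (l⁻¹ * t * l)) * l⁻¹ := by group
    _ = t * (l * z * l⁻¹) := by rw [← e]; group

theorem exists_moving : ∃ l ∈ L, l ∉ Subgroup.normalizer (T : Set G) := by
  obtain ⟨z, hz, hz1⟩ := n.exists_Z
  obtain ⟨v, hv, hvZ⟩ := n.exists_outside_Z
  have hv1 : v ≠ 1 := fun e => hvZ (e ▸ Subgroup.one_mem _)
  obtain ⟨l, hl, rfl⟩ := n.trans z hz.1 hz1 v hv hv1
  refine ⟨l, hl, fun hn => hvZ ⟨hv, fun t ht => ?_⟩⟩
  have e := hz.2 _ (by
    have := (Subgroup.mem_normalizer_iff.1 (inv_mem hn) t).1 ht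
    rwa [inv_inv] at this : l⁻¹ * t * l ∈ T)
  calc t * (l * z * l⁻¹) = l * (l⁻¹ * t * l * z) * l⁻¹ := by group
    _ = l * z * l⁻¹ * t := by rw [e]; group

/-- An element of order three not normalising `T`. -/
theorem exists_three : ∃ y ∈ L, orderOf y = 3 ∧ y ∉ Subgroup.normalizer (T : Set G) := by
  by_contra hcon
  push Not at hcon
  obtain ⟨y, hy, hy3⟩ := n.three
  obtain ⟨l, hl, hlT⟩ := n.exists_moving hc
  have hyT := hcon y hy hy3
  have hyT' : l⁻¹ * y * l ∈ Subgroup.normalizer (T : Set G) :=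
    hcon _ (L.mul_mem (L.mul_mem (L.inv_mem hl) hy) hl) (by
      rw [show l⁻¹ * y * l = l⁻¹ * y * l⁻¹⁻¹ by group, order_conj, hy3])
  have hodd : Odd (orderOf y) := by rw [hy3]; decide
  -- every element of `T` centralises `y` modulo `X`
  have hcomm : ∀ t ∈ T, y * t * y⁻¹ * t⁻¹ ∈ X := by
    intro t ht
    have hall : ∀ g : L, (g : G) * y * (g : G)⁻¹ ∈ Subgroup.normalizer (T : Set G) := fun g =>
      hcon _ (L.mul_mem (L.mul_mem g.2 hy) (L.inv_mem g.2)) (by rw [order_conj, hy3])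
    have h1 : y * t * y⁻¹ * t⁻¹ ∈ T := T.mul_mem ((Subgroup.mem_normalizer_iff.1 hyT t).1 ht) (T.inv_mem ht)
    refine n.inter_le hc hl hlT h1 ?_
    have e1 : l⁻¹ * (y * t * y⁻¹ * t⁻¹) * l =
        (l⁻¹ * y * l) * ((l⁻¹ * t * l) * (l⁻¹ * y⁻¹ * l) * (l⁻¹ * t * l)⁻¹) := by group
    have htL : t ∈ L := n.loc.T_le ht
    have hp : IsPGroup 2 (Subgroup.zpowers (l⁻¹ * (y * t * y⁻¹ * t⁻¹) * l) ⊔ T : Subgroup G) := by
      refine IsPGroup.to_sup_of_normal_right' ?_ n.loc.T_pGroup (Subgroup.zpowers_le.2 ?_)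
      · refine (n.loc.T_pGroup.map (MulAut.conj l⁻¹).toMonoidHom).to_le (Subgroup.zpowers_le.2 ⟨_, h1, ?_⟩)
        simp [MulAut.conj_apply]
      · rw [e1]
        refine mul_mem hyT' ?_
        have := hall ⟨l⁻¹ * t * l * l⁻¹, L.mul_mem (L.mul_mem (L.mul_mem (L.inv_mem hl) htL) hl) (L.inv_mem hl)⟩
        simp only [mul_inv_rev, inv_inv] at this
        have h3 := inv_mem this
        convert h3 using 1
        group
    have hl' : l⁻¹ * (y * t * y⁻¹ * t⁻¹) * l ∈ L :=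
      L.mul_mem (L.mul_mem (L.inv_mem hl) (n.loc.T_le h1)) hl
    rw [← n.loc.T_max _ (sup_le (Subgroup.zpowers_le.2 hl') n.loc.T_le) hp le_sup_right]
    exact Subgroup.mem_sup_left (Subgroup.mem_zpowers _)
  obtain ⟨s, hs, hsX⟩ : ∃ s ∈ T, s ∉ X := by
    by_contra hcon'
    push Not at hcon'
    have := n.relIndex
    rw [Subgroup.relIndex_eq_one.2 hcon'] at this
    have := n.two_le
    omega
  obtain ⟨k, hk⟩ := order_two_pow n.loc.X_pGroup (hcomm s hs)
  obtain ⟨r, hr, hrc⟩ := CN.exists_lift_commute (N := X) (x := y) (y := s) (n.loc.X_norm hy) (fun r hr hyr => by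
    by_contra hr1
    obtain ⟨i, hi⟩ := order_two_pow n.loc.X_pGroup hr
    have := hc.odd_comm hr1 hi hodd hyr.eq
    rw [this, orderOf_one] at hy3
    omega) (hcomm s hs)
  have hmem : r⁻¹ * s ∈ T := T.mul_mem (T.inv_mem (n.loc.X_le hr)) hs
  obtain ⟨i, hi⟩ := order_two_pow n.loc.T_pGroup hmem
  have hne : r⁻¹ * s ≠ 1 := fun e => hsX ((inv_mul_eq_one.1 e) ▸ hr)
  have := hc.odd_comm hne hi hodd hrc.eq
  rw [this, orderOf_one] at hy3
  omega

theorem fpf_three {D : Subgroup G} (hD : IsPGroup 2 D) {y : G} (hy : orderOf y = 3)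
    (hyD : y ∈ Subgroup.normalizer (D : Set G)) : SelfThree.Fpf y D := by
  refine ⟨by rw [← hy]; exact pow_orderOf_eq_one y, fun d hd => (Subgroup.mem_normalizer_iff.1 hyD d).1 hd,
    fun d hd hyd => ?_⟩
  by_contra hd1
  obtain ⟨i, hi⟩ := order_two_pow hD hd
  have := hc.odd_comm hd1 hi (by rw [hy]; decide) hyd.eq
  rw [this, orderOf_one] at hy
  omega

end Natural

end Cfsg.Agent.CNSimple
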