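import Cfsg.Agent.Lib.CNSimple.CNStructure
import Cfsg.Agent.Lib.CNSimple.CITOuter
import Cfsg.Agent.Lib.CNSimple.Quot
import Cfsg.Agent.Lib.CITStruct.Primes
import Cfsg.Agent.Lib.EPPO.Main
import Cfsg.Agent.Lib.Char.Burnside

/-!
# The structure of non-solvable CN groups: up to the largest normal `2`-subgroup
-/

set_option autoImplicit false
set_option linter.style.haveILetI false
set_option linter.unusedSectionVars false

namespace Cfsg.Agent.CNSimple

open Cfsg.Agent.Invol

universe u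

variable {G : Type u} [Group G] [Finite G]

theorem hSimple : CITStruct.HSimple.{u} := fun M _ _ hM hc hna => by
  haveI := hM
  exact cit_simple hna hc

/-- The quotient by a non-trivial largest normal `2`-subgroup has no configuration of degree four. -/
theorem IsO2.not_sfour (hc : CIT G) {X : Subgroup G} [X.Normal] (hX : IsO2 X) (hX1 : X ≠ ⊥)
    (h : SFourCfg (G ⧸ X)) : False := by
  classical
  haveI : Fact (Nat.Prime 2) := ⟨Nat.prime_two⟩
  obtain ⟨S⟩ : Nonempty (Sylow 2 G) := inferInstance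
  obtain ⟨X', hl, hle⟩ := Loc.exists_loc (L := ⊤) (T := (S : Subgroup G)) (R := X) S.isPGroup' le_top
    (fun P _ hP hSP => (S.is_maximal' hP hSP)) hX.isPGroup le_top hX1
    (fun g _ => by rw [Subgroup.normalizer_eq_top]; exact Subgroup.mem_top g)
  obtain rfl : X = X' := le_antisymm hle (hX.le X'
    (Subgroup.normalizer_eq_top_iff.1 (eq_top_iff.2 hl.X_norm)) hl.X_pGroup)
  set V := omegaZ X with hVdef
  have hVn : ∀ (g : G), g ∈ Subgroup.normalizer (V : Set G) := fun g => hl.V_norm (Subgroup.mem_top g)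
  let incl : G →* Subgroup.normalizer (V : Set G) := (MonoidHom.id G).codRestrict _ hVn
  let act : G →* MulAut V := (Subgroup.normalizerMonoidHom V).comp incl
  let φ : G ⧸ X →* MulAut V := QuotientGroup.lift _ act fun g hg => by
    refine MulEquiv.ext fun v => Subtype.ext ?_
    show g * v * g⁻¹ = v
    rw [← omegaZ_central v.2 hg, mul_inv_cancel_right]
  have hφ : ∀ (g : G) (v : V), ((φ (QuotientGroup.mk g) v : V) : G) = g * v * g⁻¹ := fun g v => rfl
  letI : CommGroup V := { (inferInstance : Group V) with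
    mul_comm := fun a b => Subtype.ext ((omegaZ_elem X).2 a a.2 b b.2) }
  haveI : Nontrivial V := (Subgroup.nontrivial_iff_ne_bot V).2 hl.V_ne
  refine SFourCfg.module_false (fun a => Subtype.ext ((omegaZ_elem X).1 a a.2)) φ ?_ ?_ h
  · intro c hco v e
    by_contra hv1
    obtain ⟨g, rfl⟩ := QuotientGroup.mk_surjective c
    have e' : g * v * g⁻¹ = v := (hφ g v).symm.trans (congrArg Subtype.val e)
    obtain ⟨k, hk⟩ := order_two_pow hl.V_pGroup v.2
    obtain ⟨i, hi⟩ := order_two_pow (hc.isPGroup (fun e1 => hv1 (Subtype.ext e1)) hk)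
      (mem_Ct.2 (mul_inv_eq_iff_eq_mul.1 e'))
    have hd : orderOf (g : G ⧸ X) ∣ 2 ^ i := by
      rw [← hi]; exact orderOf_map_dvd (QuotientGroup.mk' X) g
    rw [hco] at hd
    have := (Nat.prime_dvd_prime_iff_eq Nat.prime_three Nat.prime_two).1 (Nat.prime_three.dvd_of_dvd_pow hd)
    omega
  · intro c hco
    obtain ⟨g, rfl⟩ := QuotientGroup.mk_surjective c
    have hgX : g ∉ X := fun e => ne_one hco ((QuotientGroup.eq_one_iff g).2 e)
    have hg2 : g * g ∈ X := (QuotientGroup.eq_one_iff (g * g)).1 (by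
      rw [QuotientGroup.mk_mul]; exact mul_self hco)
    have e : Nat.card {v : V // φ (QuotientGroup.mk g) v = v} = Nat.card (V ⊓ Ct g : Subgroup G) :=
      Nat.card_congr
        ⟨fun v => ⟨(v.1 : G), v.1.2, mem_Ct.2
          (mul_inv_eq_iff_eq_mul.1 ((hφ g v.1).symm.trans (congrArg Subtype.val v.2))).symm⟩,
        fun v => ⟨⟨v.1, v.2.1⟩, Subtype.ext ((hφ g _).trans (by
          show g * v.1 * g⁻¹ = v.1
          rw [← mem_Ct.1 v.2.2, mul_inv_cancel_right]))⟩, fun v => rfl, fun v => rfl⟩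
    rw [e]
    exact hl.sqrt hc (Subgroup.mem_top g) hgX hg2

theorem five_le_of_psl {F : Type*} [Field F] [Fintype F] (hns : ¬ Group.IsSolvable (Matrix.ProjectiveSpecialLinearGroup (Fin 2) F)) :
    4 ≤ Fintype.card F := by
  by_contra hlt
  have hq := Fintype.one_lt_card (α := F)
  have h := EPPO.card_psl_two F
  refine hns (Char.isSolvable_of_card_pq 2 3 Nat.prime_two Nat.prime_three _ _ rfl ?_)
  rcases (show Fintype.card F = 2 ∨ Fintype.card F = 3 by omega) with e | e <;> rw [e] at h <;> norm_num at h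
  · exact ⟨1, 1, by omega⟩
  · exact ⟨2, 1, by omega⟩

/-- A group with the socle of an almost simple CIT group and trivial centraliser. -/
theorem socle_cases (hc : CIT G) {M : Subgroup G} [M.Normal] [IsSimpleGroup M]
    (hns : ¬ Group.IsSolvable M) (hC : Subgroup.centralizer (M : Set G) = ⊥)
    (h : (M = ⊤ ∧ IsTwoTI M) ∨ IsOddPSL M ∨ IsL34 M) :
    M = ⊤ ∨ (M.index = 2 ∧ ∃ (F : Type) (_ : Field F) (_ : Fintype F), Fintype.card F = 9 ∧
      Nonempty (M ≃* Matrix.ProjectiveSpecialLinearGroup (Fin 2) F)) := by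
  rcases h with ⟨h, -⟩ | ⟨F, i1, i2, hq, ⟨e⟩⟩ | ⟨F, i1, i2, hF, ⟨e⟩⟩
  · exact Or.inl h
  · have h4 := five_le_of_psl (F := F) fun hs => hns (by
      haveI := hs
      exact Group.isSolvable_of_surjective (f := e.symm.toMonoidHom) e.symm.surjective)
    have hodd : Odd (Fintype.card F) := by
      rcases hq with e9 | ⟨hp, -⟩
      · rw [e9]; exact ⟨4, rfl⟩
      · exact hp.odd_of_ne_two (by omega)
    have h5 : 5 ≤ Fintype.card F := by
      obtain ⟨k, hk⟩ := hodd
      omega
    rcases top_or_nine e hC hc hodd h5 hq with h | ⟨h9, h2⟩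
    · exact Or.inl h
    · exact Or.inr ⟨h2, F, i1, i2, h9, ⟨e⟩⟩
  · exact Or.inl (top_of_three e hC hc hF)

/-- A non-solvable CN group is simple, or has a subgroup `PSL(2, 9)` of index two, or has a non-trivial
largest normal `2`-subgroup with quotient `PSL(2, 2 ^ n)` or of Suzuki type. -/
theorem cn_structure (hCN : Cfsg.IsCNGroup G) (hns : ¬ Group.IsSolvable G) :
    (IsSimpleGroup G ∧ ¬ IsMulCommutative G) ∨
    (∃ (N : Subgroup G), N.Normal ∧ N.index = 2 ∧ ∃ (F : Type) (_ : Field F) (_ : Fintype F),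
        Fintype.card F = 9 ∧ Nonempty (N ≃* Matrix.ProjectiveSpecialLinearGroup (Fin 2) F)) ∨
    (∃ (X : Subgroup G) (_ : X.Normal), X ≠ ⊥ ∧ IsO2 X ∧ CIT G ∧
        ((∃ (F : Type) (_ : Field F) (_ : Fintype F), CharP F 2 ∧ 4 ≤ Fintype.card F ∧
            Nonempty (G ⧸ X ≃* Matrix.ProjectiveSpecialLinearGroup (Fin 2) F)) ∨ Cfsg.IsSuzuki (G ⧸ X))) := by
  have hnc : ¬ IsMulCommutative G := fun h => hns (Group.isSolvable_of_comm fun a b => h.is_comm.comm a b)
  rcases simple_or_cit hCN hns with hs | hc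
  · exact Or.inl ⟨hs, hnc⟩
  obtain ⟨M, hMn, hM, hC, hcases⟩ := CITStruct.cases hSimple hc hns
  haveI := hMn
  haveI := hM
  have hX : IsO2 (Cfsg.pCore 2 G) := isO2_pCore
  haveI := hX.normal
  have hcQ : CIT (G ⧸ Cfsg.pCore 2 G) := hX.quotient_cit hc
  have hnsQ : ¬ Group.IsSolvable (G ⧸ Cfsg.pCore 2 G) := fun h => by
    haveI : Fact (Nat.Prime 2) := ⟨Nat.prime_two⟩
    haveI : Group.IsNilpotent (Cfsg.pCore 2 G) := hX.isPGroup.isNilpotent
    exact hns ((Group.isSolvable_iff_subgroup_quotient (Cfsg.pCore 2 G)).2 ⟨inferInstance, h⟩)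
  have hMns : ¬ Group.IsSolvable M := fun h => by
    haveI := h
    have hab := IsSimpleGroup.comm_iff_isSolvable.2 h
    have hle : M ≤ Subgroup.centralizer (M : Set (G ⧸ Cfsg.pCore 2 G)) := fun a ha b hb =>
      congrArg Subtype.val (hab ⟨b, hb⟩ ⟨a, ha⟩)
    rw [hC, le_bot_iff] at hle
    exact (Subgroup.nontrivial_iff_ne_bot M).1 inferInstance hle
  by_cases hX1 : Cfsg.pCore 2 G = ⊥
  · let e : G ⧸ Cfsg.pCore 2 G ≃* G := (QuotientGroup.quotientMulEquivOfEq hX1).trans QuotientGroup.quotientBot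
    rcases socle_cases hcQ hMns hC hcases with hMtop | ⟨h2, F, i1, i2, h9, ⟨f⟩⟩
    · let e' : M ≃* G := ((MulEquiv.subgroupCongr hMtop).trans Subgroup.topEquiv).trans e
      haveI : Nontrivial G := e'.toEquiv.symm.nontrivial
      exact Or.inl ⟨IsSimpleGroup.isSimpleGroup_of_surjective e'.toMonoidHom e'.surjective, hnc⟩
    · refine Or.inr (Or.inl ⟨M.map e.toMonoidHom, hMn.map _ e.surjective, ?_, F, i1, i2, h9,
        ⟨(e.subgroupMap M).symm.trans f⟩⟩)
      rw [Subgroup.index_map_of_bijective e.bijective, h2]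
  refine Or.inr (Or.inr ⟨_, inferInstance, hX1, hX, hc, ?_⟩)
  have hna : ∃ a b : M, a * b ≠ b * a := by
    by_contra h
    push Not at h
    exact hMns (Group.isSolvable_of_comm h)
  rcases ihyp_all _ M rfl (hcQ.subgroup M) hM hna with ⟨K, hK⟩ | h4
  swap
  · exact (hX.not_sfour hc hX1 (h4.map M.subtype M.subtype_injective)).elim
  have hMtop := CITStruct.ti_top hcQ hK
  let e : M ≃* G ⧸ Cfsg.pCore 2 G := (MulEquiv.subgroupCongr hMtop).trans Subgroup.topEquiv
  haveI : Nontrivial (G ⧸ Cfsg.pCore 2 G) := M.subtype_injective.nontrivial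
  haveI : IsSimpleGroup (G ⧸ Cfsg.pCore 2 G) :=
    IsSimpleGroup.isSimpleGroup_of_surjective e.toMonoidHom e.surjective
  rcases (hK.map e).main with ⟨F, i1, i2, n, hn, ⟨f⟩⟩ | hsz
  swap
  · exact Or.inr hsz
  refine Or.inl ⟨F, i1, i2, ?_, five_le_of_psl fun hs => hnsQ (by
    haveI := hs
    exact Group.isSolvable_of_surjective (f := f.symm.toMonoidHom) f.symm.surjective), ⟨f⟩⟩
  obtain ⟨p, hp⟩ := CharP.exists F
  obtain ⟨i, hpp, hi⟩ := FiniteField.card F p
  have hp2 : p = 2 := (Nat.prime_dvd_prime_iff_eq hpp Nat.prime_two).1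
    (hpp.dvd_of_dvd_pow (show p ∣ 2 ^ n from hn ▸ hi ▸ dvd_pow_self p i.ne_zero))
  exact hp2 ▸ hp

end Cfsg.Agent.CNSimple
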