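import Cfsg.Agent.Lib.CNSimple.Final
import Cfsg.Agent.Lib.BrauerSuzuki.ZStar

/-!
# Non-solvable CN groups: simple, or all centralisers of involutions are `2`-groups
-/

set_option autoImplicit false
set_option linter.style.haveILetI false
set_option linter.unusedSectionVars false

namespace Cfsg.Agent.CNSimple

open Cfsg.Agent.Invol

universe u

variable {G : Type u} [Group G] [Finite G]

/-- A CN group in which commuting involutions coincide is solvable. -/
theorem solvable_of_unique (hCN : Cfsg.IsCNGroup G)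
    (hu : ∀ s t : G, orderOf s = 2 → orderOf t = 2 → s * t = t * s → s = t) : Group.IsSolvable G := by
  haveI : Fact (Nat.Prime 2) := ⟨Nat.prime_two⟩
  rcases Nat.even_or_odd (Nat.card G) with hev | hodd
  swap
  · exact OddChar.oddSolvable G hodd
  obtain ⟨z, hz⟩ := exists_prime_orderOf_dvd_card' (G := G) 2 hev.two_dvd
  have hiso : Cfsg.IsIsolated z := fun g hc => (hu z _ hz ((order_conj g z).trans hz) hc.eq).symm
  have hZ := BrauerSuzuki.zStar G z hz hiso
  set O := Cfsg.pPrimeCore 2 G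
  haveI : O.Normal := FittingCores.pPrimeCore_normal 2
  have hO : Odd (Nat.card O) := Nat.not_even_iff_odd.1 fun h => Nat.prime_two.coprime_iff_not_dvd.1
    (FittingCores.pPrimeCore_coprime (G := G) 2).symm h.two_dvd
  haveI : Group.IsSolvable O := OddChar.oddSolvable O hO
  haveI : Group.IsNilpotent (Ct z) := hCN z (ne_one hz)
  set f := (QuotientGroup.mk' O).comp (Ct z).subtype
  have hf : Function.Surjective f := by
    intro q
    obtain ⟨g, rfl⟩ := QuotientGroup.mk'_surjective O q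
    set x := g * z * g⁻¹ with hx_def
    have hxo : orderOf x = 2 := (order_conj g z).trans hz
    have hx : x * z ∈ O := by
      have := hZ g
      rwa [inv_self hz] at this
    obtain ⟨d, hd, e⟩ := conj_of_odd hxo hz (hO.of_dvd_nat (Subgroup.orderOf_dvd_natCard _ hx))
    obtain ⟨k, hk | hk⟩ := mem_closure_pair hxo hz hd
    · refine ⟨⟨d * g, mem_Ct.2 ?_⟩, ?_⟩
      · have e' : d * g * z * (d * g)⁻¹ = z := by
          calc d * g * z * (d * g)⁻¹ = d * x * d⁻¹ := by rw [hx_def]; group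
            _ = z := e
        exact mul_inv_eq_iff_eq_mul.1 e'
      · show ((d * g : G) : G ⧸ O) = (g : G ⧸ O)
        rw [QuotientGroup.mk_mul, (QuotientGroup.eq_one_iff d).2 (hk ▸ zpow_mem hx k), one_mul]
    · refine ⟨⟨d * x * g, mem_Ct.2 ?_⟩, ?_⟩
      · have e' : d * x * g * z * (d * x * g)⁻¹ = z := by
          calc d * x * g * z * (d * x * g)⁻¹ = d * x * (g * z * g⁻¹) * x⁻¹ * d⁻¹ := by group
            _ = d * x * d⁻¹ := by rw [← hx_def]; group
            _ = z := e
        exact mul_inv_eq_iff_eq_mul.1 e'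
      · show ((d * x * g : G) : G ⧸ O) = (g : G ⧸ O)
        have hdx : d * x ∈ O := by
          rw [hk, mul_assoc, mul_self hxo, mul_one]
          exact zpow_mem hx k
        rw [QuotientGroup.mk_mul, (QuotientGroup.eq_one_iff _).2 hdx, one_mul]
  haveI : Group.IsSolvable (G ⧸ O) := Group.isSolvable_of_surjective hf
  exact Group.isSolvable_of_ker_le_range O.subtype (QuotientGroup.mk' O) (by simp)

/-- Solvable normal subgroups of normal subgroups vanish if abelian normal subgroups do. -/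
theorem eq_bot_of_solvable (hab : ∀ A : Subgroup G, A.Normal → (∀ a ∈ A, ∀ b ∈ A, a * b = b * a) → A = ⊥)
    {M : Subgroup G} (hM : M.Normal) {U : Subgroup M} (hU : U.Normal) (hs : Group.IsSolvable U) :
    U = ⊥ := by
  by_contra hU1
  haveI : Nontrivial U := (Subgroup.nontrivial_iff_ne_bot U).2 hU1
  obtain ⟨p, hp, A, hAn, hA1, hAp⟩ := CoprimeCount.exists_normal_pgroup U hs
  haveI := Fact.mk hp
  set C₁ := (Cfsg.pCore p U).map U.subtype
  haveI : C₁.Normal := FittingCores.normal_map_of_characteristic hU (PBasic.pCore_characteristic p _)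
  have hC1 : Cfsg.pCore p M ≠ ⊥ := fun e => by
    have h1 : C₁ ≤ ⊥ := (PBasic.le_pCore inferInstance ((PBasic.pCore_isPGroup p _).map _)).trans e.le
    rw [le_bot_iff, Subgroup.map_eq_bot_iff_of_injective _ U.subtype_injective] at h1
    exact hA1 (le_bot_iff.1 ((PBasic.le_pCore hAn hAp).trans h1.le))
  set C := (Cfsg.pCore p M).map M.subtype with hC
  haveI : C.Normal := FittingCores.normal_map_of_characteristic hM (PBasic.pCore_characteristic p _)
  have hCp : IsPGroup p C := (PBasic.pCore_isPGroup p _).map _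
  haveI : Nontrivial C := (Subgroup.nontrivial_iff_ne_bot C).2 fun e =>
    hC1 ((Subgroup.map_eq_bot_iff_of_injective _ M.subtype_injective).1 e)
  haveI := hCp.center_nontrivial
  have hZ := hab ((Subgroup.center C).map C.subtype)
    (FittingCores.normal_map_of_characteristic inferInstance inferInstance) (by
      rintro _ ⟨a, ha, rfl⟩ _ ⟨b, -, rfl⟩
      exact congrArg C.subtype (Subgroup.mem_center_iff.1 ha b).symm)
  rw [Subgroup.map_eq_bot_iff_of_injective _ C.subtype_injective] at hZ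
  exact (Subgroup.nontrivial_iff_ne_bot _).1 inferInstance hZ

/-- A minimal normal subgroup is simple if abelian normal subgroups are trivial and centralisers are
nilpotent. -/
theorem simple_of_minimal (hCN : Cfsg.IsCNGroup G)
    (hab : ∀ A : Subgroup G, A.Normal → (∀ a ∈ A, ∀ b ∈ A, a * b = b * a) → A = ⊥)
    {M : Subgroup G} (hMn : M.Normal) (hM1 : M ≠ ⊥)
    (hmin : ∀ N : Subgroup G, N.Normal → N ≤ M → N = ⊥ ∨ N = M) :
    IsSimpleGroup M ∧ ¬ Group.IsSolvable M := by
  haveI := hMn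
  haveI : Nontrivial M := (Subgroup.nontrivial_iff_ne_bot M).2 hM1
  have hns : ¬ Group.IsSolvable M := fun hs => by
    haveI := hs
    exact top_ne_bot (eq_bot_of_solvable hab hMn (U := ⊤) inferInstance inferInstance)
  refine ⟨?_, hns⟩
  obtain ⟨U, hUn, hU1, -, hUmin⟩ := LEWielandt.exists_minimal_normal (N := (⊤ : Subgroup M))
    inferInstance top_ne_bot
  set U' := U.map M.subtype with hU'
  by_cases hnorm : ∀ g : G, U'.map (MulAut.conj g).toMonoidHom = U'
  · have hUn' : U'.Normal := ⟨fun x hx g => by rw [← hnorm g]; exact ⟨x, hx, rfl⟩⟩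
    rcases hmin U' hUn' (Subgroup.map_subtype_le U) with e | e
    · exact absurd ((Subgroup.map_eq_bot_iff_of_injective _ M.subtype_injective).1 e) hU1
    · have hUtop : U = ⊤ := Subgroup.map_injective M.subtype_injective
        (e.trans (by rw [← MonoidHom.range_eq_map, Subgroup.range_subtype]))
      exact ⟨fun W hW => hUtop ▸ hUmin W hW (hUtop ▸ le_top)⟩
  exfalso
  push Not at hnorm
  obtain ⟨g, hg⟩ := hnorm
  set e : MulAut M := MulAut.conjNormal g
  set W := U.map e.toMonoidHom with hW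
  have hWn : W.Normal := hUn.map e.toMonoidHom e.surjective
  have hWU : W ⊓ U = ⊥ := by
    rcases hUmin (W ⊓ U) (by haveI := hUn; haveI := hWn; infer_instance) inf_le_right with h | h
    · exact h
    exfalso
    apply hg
    have hle : U ≤ W := h ▸ inf_le_left
    have heq : U = W := Subgroup.eq_of_le_of_card_ge hle (Subgroup.card_map_of_injective e.injective).le
    conv_rhs => rw [hU', heq, hW]
    rw [hU', Subgroup.map_map, Subgroup.map_map]
    congr 1
  have hW1 : W ≠ ⊥ := fun h => hU1 ((Subgroup.map_eq_bot_iff_of_injective _ e.injective).1 h)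
  have hUev : Even (Nat.card U) := Nat.not_odd_iff_even.1 fun ho =>
    hU1 (eq_bot_of_solvable hab hMn hUn (OddChar.oddSolvable U ho))
  obtain ⟨w, hwU, hw⟩ := exists_invol hUev
  refine hW1 (eq_bot_of_solvable hab hMn hWn ?_)
  have hle : W.map M.subtype ≤ Ct (w : G) := by
    rintro _ ⟨a, ha, rfl⟩
    exact mem_Ct.2 (congrArg M.subtype
      (Subgroup.commute_of_normal_of_disjoint W U hWn hUn (disjoint_iff.2 hWU) a w ha hwU).eq)
  haveI := CN.nilpotent_of_le hle (hCN _ fun h => ne_one hw (Subtype.ext h))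
  exact Group.isSolvable_of_surjective (Subgroup.equivMapOfInjective W _ M.subtype_injective).symm.surjective
    (f := (Subgroup.equivMapOfInjective W _ M.subtype_injective).symm.toMonoidHom)

/-- The kernel of a simple group with a good subgroup of even order is a `2`-group. -/
theorem TIHyp.isPGroup [IsSimpleGroup G] {K : Subgroup G} (h : TIHyp K) : IsPGroup 2 K := by
  classical
  haveI := Fintype.ofFinite (G ⧸ h.N)
  obtain ⟨v, hv, hvN⟩ := h.exists_invol_not_mem
  set x₀ : G ⧸ h.N := ((1 : G) : G ⧸ h.N) with hx₀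
  set y₀ : G ⧸ h.N := v • x₀ with hy₀
  have hyx : y₀ ≠ x₀ := fun e => hvN (h.fix_base.1 e)
  have D : ZassKer.Ker x₀ y₀ K := ZassSuz.ker_of_reg h.zassenhaus hyx.symm
    (fun a ha => MulAction.mem_stabilizer_iff.2 (h.fix_base.2 (h.K_le_N ha)))
    (fun g hg a ha => h.conj_K (h.fix_base.1 hg) ha) fun p q hp hq => h.regular hp hq
  obtain ⟨p, f, hp, hf, hpf⟩ := (isPrimePow_nat_iff _).mp D.isPrimePow
  have hp2 : p = 2 := ((Nat.prime_dvd_prime_iff_eq Nat.prime_two hp).mp
    (Nat.prime_two.dvd_of_dvd_pow (hpf ▸ h.even))).symm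
  exact IsPGroup.of_card (n := f) (by rw [← hpf, hp2])

section Good

variable {K : Subgroup G} (h : TIHyp K)
include h

/-- A nontrivial normal subgroup is not contained in `K`. -/
theorem TIHyp.eq_bot_of_le {M : Subgroup G} (hM : M.Normal) (hle : M ≤ K) : M = ⊥ := by
  by_contra hM1
  obtain ⟨⟨x, hx⟩, hx1⟩ := Subgroup.ne_bot_iff_exists_ne_one.1 hM1
  exact h.ne_top ((Subgroup.eq_top_iff' _).2 fun g =>
    h.mem_N_of_meet (hle hx) (fun e => hx1 (Subtype.ext e)) (hle (hM.conj_mem x hx g)))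

theorem TIHyp.exists_conj_mem {t : G} (ht : orderOf t = 2) : ∃ g : G, g * t * g⁻¹ ∈ K := by
  obtain ⟨z, hzK, hz, -⟩ := h.exists_central
  obtain ⟨g, hg⟩ := isConj_iff.1 (h.isConj ht hz)
  exact ⟨g, hg ▸ hzK⟩

/-- In a non-solvable CN group with a good subgroup of even order abelian normal subgroups are trivial. -/
theorem TIHyp.abelian_normal (hCN : Cfsg.IsCNGroup G) (hns : ¬ Group.IsSolvable G)
    (A : Subgroup G) (hA : A.Normal) (hab : ∀ a ∈ A, ∀ b ∈ A, a * b = b * a) : A = ⊥ := by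
  haveI := hA
  by_contra hA1
  by_cases hmeet : ∃ a ∈ A, a ∈ K ∧ a ≠ 1
  · obtain ⟨a, haA, haK, ha1⟩ := hmeet
    exact hA1 (h.eq_bot_of_le hA fun b hb => h.good.cent a haK ha1 (mem_Ct.2 (hab b hb a haA)))
  push Not at hmeet
  haveI : Fact (Nat.Prime 2) := ⟨Nat.prime_two⟩
  have hAodd : Odd (Nat.card A) := Nat.not_even_iff_odd.1 fun he => by
    obtain ⟨⟨a, ha⟩, hao⟩ := exists_prime_orderOf_dvd_card' (G := A) 2 he.two_dvd
    rw [Subgroup.orderOf_mk] at hao
    obtain ⟨g, hg⟩ := h.exists_conj_mem hao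
    exact ne_one hao (conj_eq_one_iff.1 (hmeet _ (hA.conj_mem a ha g) hg))
  refine hns (solvable_of_unique hCN fun s t hs ht hst => ?_)
  have hfix : ∀ r : G, orderOf r = 2 → ∀ c ∈ A, c * r = r * c → c = 1 := fun r hr c hc e => by
    obtain ⟨g, hg⟩ := h.exists_conj_mem hr
    refine conj_eq_one_iff.1 (hmeet _ (hA.conj_mem c hc g) ?_)
    rw [← h.Ct_invol ((order_conj g r).trans hr) hg, mem_Ct]
    calc g * c * g⁻¹ * (g * r * g⁻¹) = g * (c * r) * g⁻¹ := by group
      _ = g * r * g⁻¹ * (g * c * g⁻¹) := by rw [e]; group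
  have hinv : ∀ r : G, orderOf r = 2 → ∀ c ∈ A, r * c * r⁻¹ = c⁻¹ := by
    intro r hr c hc
    let φ : A →* A := (MulAut.conjNormal (H := A) r).toMonoidHom
    have hφ : ∀ x : A, ((φ x : A) : G) = r * x * r⁻¹ := fun x => MulAut.conjNormal_apply r x
    have hfp : MonoidHom.FixedPointFree φ := fun x hx => Subtype.ext (hfix r hr x x.2
      (mul_inv_eq_iff_eq_mul.1 ((hφ x).symm.trans (congrArg Subtype.val hx))).symm)
    have hii : Function.Involutive φ := fun x => Subtype.ext (by
      rw [hφ, hφ, show r * (r * (x : G) * r⁻¹) * r⁻¹ = (r * r) * x * (r * r)⁻¹ by group, mul_self hr,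
        one_mul, inv_one, mul_one])
    exact (hφ ⟨c, hc⟩).symm.trans
      (congrArg Subtype.val (congrFun (hfp.coe_eq_inv_of_involutive hii) ⟨c, hc⟩))
  by_contra hne
  have hp : orderOf (s * t) = 2 := order_two_of_sq
    (by rw [show s * t * (s * t) = s * (t * s) * t by group, ← hst,
      show s * (s * t) * t = s * s * (t * t) by group, mul_self hs, mul_self ht, one_mul])
    fun e => hne ((mul_eq_one_iff_eq_inv.1 e).trans (inv_self ht))
  obtain ⟨⟨c, hc⟩, hc1⟩ := Subgroup.ne_bot_iff_exists_ne_one.1 hA1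
  refine hc1 (Subtype.ext (hfix _ hp c hc ?_))
  have e : s * t * c * (s * t)⁻¹ = c := by
    rw [show s * t * c * (s * t)⁻¹ = s * (t * c * t⁻¹) * s⁻¹ by group, hinv t ht c hc,
      hinv s hs _ (inv_mem hc), inv_inv]
  exact (mul_inv_eq_iff_eq_mul.1 e).symm

/-- A good subgroup of even order traces one in a simple normal subgroup of even order. -/
theorem TIHyp.subgroupOf {M : Subgroup G} (hM : M.Normal) (hev : 2 ∣ Nat.card M) [IsSimpleGroup M]
    (hns : ¬ Group.IsSolvable M) : TIHyp (K.subgroupOf M) := by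
  haveI := hM
  haveI : Fact (Nat.Prime 2) := ⟨Nat.prime_two⟩
  have hnil : Group.IsNilpotent (K.subgroupOf M) := by
    haveI := h.good.nil
    let f : K.subgroupOf M →* K := (M.subtype.comp (K.subgroupOf M).subtype).codRestrict K fun x => x.2
    refine Subgroup.isNilpotent_of_ker_le_center f ?_
    rw [(MonoidHom.ker_eq_bot_iff f).2 fun a b e => Subtype.ext (Subtype.ext (congrArg Subtype.val e :))]
    exact bot_le
  obtain ⟨⟨a, haM⟩, hao⟩ := exists_prime_orderOf_dvd_card' (G := M) 2 hev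
  rw [Subgroup.orderOf_mk] at hao
  obtain ⟨g, hg⟩ := h.exists_conj_mem hao
  set a' : M := ⟨g * a * g⁻¹, hM.conj_mem a haM g⟩ with ha'
  have ha'o : orderOf a' = 2 := by rw [ha', Subgroup.orderOf_mk, order_conj, hao]
  have ha'K : a' ∈ K.subgroupOf M := hg
  have hne : K.subgroupOf M ≠ ⊥ := fun e => ne_one ha'o (Subgroup.mem_bot.1 (e ▸ ha'K))
  refine ⟨⟨hnil, hne, fun t ht hd _ => ?_, fun k hk hk1 y hy => ?_⟩, ?_, fun e => ?_⟩
  · obtain ⟨⟨⟨x, hxM⟩, hxK⟩, hxo⟩ := exists_prime_orderOf_dvd_card' (G := K.subgroupOf M) t hd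
    rw [Subgroup.orderOf_mk, Subgroup.orderOf_mk] at hxo
    obtain ⟨T, hT⟩ := h.good.sylow t ht (hxo ▸ Subgroup.orderOf_dvd_natCard K hxK)
    obtain ⟨Q⟩ : Nonempty (Sylow t M) := inferInstance
    obtain ⟨S, hS⟩ := (Q.isPGroup'.map M.subtype).exists_le_sylow
    obtain ⟨c, rfl⟩ := MulAction.exists_smul_eq G T S
    set P₀ := (T : Subgroup G).subgroupOf M
    have hP₀ : IsPGroup t P₀ := T.isPGroup'.comap_of_injective M.subtype M.subtype_injective
    have hcard : Nat.card (Q : Subgroup M) ≤ Nat.card P₀ := by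
      refine Nat.card_le_card_of_injective (fun q => (⟨⟨c⁻¹ * ((q : M) : G) * c⁻¹⁻¹,
        hM.conj_mem _ (q : M).2 c⁻¹⟩, ?_⟩ : P₀)) fun q q' e => ?_
      · have hq := hS ⟨(q : M), q.2, rfl⟩
        rw [Sylow.coe_subgroup_smul, Subgroup.mem_pointwise_smul_iff_inv_smul_mem, ← map_inv,
          MulAut.smul_def, MulAut.conj_apply] at hq
        exact hq
      · have e' := congrArg (fun z : P₀ => ((z : M) : G)) e
        exact Subtype.ext (Subtype.ext (mul_left_cancel (mul_right_cancel (e' :))))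
    obtain ⟨R, hR⟩ := hP₀.exists_le_sylow
    refine ⟨R, ?_⟩
    have heq : P₀ = R := Subgroup.eq_of_le_of_card_ge hR (by
      rwa [Sylow.card_eq_multiplicity R, ← Sylow.card_eq_multiplicity Q])
    rw [← heq]
    exact Subgroup.comap_mono hT
  · exact h.good.cent (k : G) hk (fun e => hk1 (Subtype.ext e))
      (mem_Ct.2 (congrArg Subtype.val (Subgroup.mem_centralizer_singleton_iff.1 hy)))
  · rw [← ha'o]
    exact Subgroup.orderOf_dvd_natCard _ ha'K
  · haveI := Subgroup.normalizer_eq_top_iff.1 e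
    rcases Subgroup.Normal.eq_bot_or_eq_top (inferInstance : (K.subgroupOf M).Normal) with e' | e'
    · exact hne e'
    · haveI := hnil
      rw [e'] at hnil
      haveI := hnil
      exact hns (Group.isSolvable_of_surjective (f := (⊤ : Subgroup M).subtype) fun x => ⟨⟨x, trivial⟩, rfl⟩)

end Good

/-- A non-solvable CN group is simple or all its centralisers of involutions are `2`-groups. -/
theorem simple_or_cit (hCN : Cfsg.IsCNGroup G) (hns : ¬ Group.IsSolvable G) :
    IsSimpleGroup G ∨ CIT G := by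
  haveI : Fact (Nat.Prime 2) := ⟨Nat.prime_two⟩
  have hev : 2 ∣ Nat.card G := by_contra fun hodd =>
    hns (OddChar.oddSolvable G (Nat.odd_iff.2 (Nat.two_dvd_ne_zero.1 hodd)))
  rcases good_or_cit hCN hev with ⟨K, hK, hKev⟩ | hc
  swap
  · exact Or.inr hc
  have hN : Subgroup.normalizer (K : Set G) ≠ ⊤ := fun e => by
    haveI : K.Normal := Subgroup.normalizer_eq_top_iff.1 e
    haveI := hK.nil
    obtain ⟨T, hT⟩ := hK.sylow 2 Nat.prime_two hKev
    have hodd : Odd (Nat.card (G ⧸ K)) := Nat.not_even_iff_odd.1 fun h =>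
      T.not_dvd_index (h.two_dvd.trans ((Subgroup.index_eq_card K) ▸ Subgroup.index_dvd_of_le hT))
    haveI := OddChar.oddSolvable (G ⧸ K) hodd
    exact hns (Group.isSolvable_of_ker_le_range K.subtype (QuotientGroup.mk' K) (by simp))
  have h : TIHyp K := ⟨hK, hKev, hN⟩
  have hab := h.abelian_normal hCN hns
  by_cases htop : (⊤ : Subgroup G) = ⊥
  · haveI : Subsingleton G := ⟨fun a b =>
      (Subgroup.mem_bot.1 (htop ▸ Subgroup.mem_top a)).trans
        (Subgroup.mem_bot.1 (htop ▸ Subgroup.mem_top b)).symm⟩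
    exact (hns inferInstance).elim
  obtain ⟨M, hMn, hM1, -, hmin⟩ := LEWielandt.exists_minimal_normal (N := (⊤ : Subgroup G))
    inferInstance htop
  obtain ⟨hsimple, hMns⟩ := simple_of_minimal hCN hab hMn hM1 hmin
  haveI := hMn
  haveI := hsimple
  by_cases hMtop : M = ⊤
  · let e : M ≃* G := (MulEquiv.subgroupCongr hMtop).trans Subgroup.topEquiv
    haveI : Nontrivial G := M.subtype_injective.nontrivial
    exact Or.inl (IsSimpleGroup.isSimpleGroup_of_surjective e.toMonoidHom e.surjective)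
  refine Or.inr ?_
  have hMev : 2 ∣ Nat.card M := by_contra fun hodd =>
    hMns (OddChar.oddSolvable M (Nat.odd_iff.2 (Nat.two_dvd_ne_zero.1 hodd)))
  have h' := h.subgroupOf hMn hMev hMns
  have hK'2 := h'.isPGroup
  suffices hK2 : IsPGroup 2 K by
    intro t ht
    obtain ⟨g, hg⟩ := h.exists_conj_mem ht
    refine IsPGroup.to_le (hK2.map (MulAut.conj g⁻¹).toMonoidHom) fun c hc => ?_
    refine ⟨g * c * g⁻¹, ?_, by simp [mul_assoc]⟩
    have hc' : g * c * g⁻¹ ∈ Ct (g * t * g⁻¹) := mem_Ct.2 (by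
      calc g * c * g⁻¹ * (g * t * g⁻¹) = g * (c * t) * g⁻¹ := by group
        _ = g * t * g⁻¹ * (g * c * g⁻¹) := by rw [mem_Ct.1 hc]; group)
    rwa [h.Ct_invol ((order_conj g t).trans ht) hg] at hc'
  by_contra hnp
  obtain ⟨y, hyK, hy1, hyo⟩ := not_isPGroup_exists_odd hnp
  have hyM : y ∉ M := fun hy => hy1 (congrArg Subtype.val
    (eq_one_of_odd hK'2 (show (⟨y, hy⟩ : M) ∈ K.subgroupOf M from hyK)
      (by rwa [Subgroup.orderOf_mk])))
  have hcomm : ∀ c : M, c ∈ K.subgroupOf M → Commute (c : G) y := fun c hc => by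
    obtain ⟨i, hi⟩ := order_two_pow hK'2 hc
    refine CN.commute_of_coprime hK.nil hc hyK ?_
    rw [Subgroup.orderOf_coe, hi]
    exact ((coprime_two_of_odd hyo i)).symm
  obtain ⟨z, hzK, hz, -⟩ := h'.exists_central
  have heq : h'.N ≤ K.subgroupOf M := by
    intro x hx
    refine hK.cent y hyK hy1 (mem_Ct.2 ?_)
    set y' := (x : G) * y * (x : G)⁻¹ with hy'
    have hy'K : y' ∈ K := by
      refine hK.cent _ (h'.conj_K hx hzK) (fun e => ne_one hz ?_) (mem_Ct.2 ?_)
      · exact Subtype.ext (conj_eq_one_iff.1 (e : (x : G) * z * (x : G)⁻¹ = 1))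
      · show y' * ((x : G) * z * (x : G)⁻¹) = (x : G) * z * (x : G)⁻¹ * y'
        rw [hy']
        calc (x : G) * y * (x : G)⁻¹ * ((x : G) * z * (x : G)⁻¹) = x * (y * z) * (x : G)⁻¹ := by group
          _ = _ := by rw [← (hcomm z hzK).eq]; group
    have hcM : y' * y⁻¹ ∈ M := by
      rw [show y' * y⁻¹ = (x : G) * (y * (x : G)⁻¹ * y⁻¹) by rw [hy']; group]
      exact M.mul_mem x.2 (hMn.conj_mem _ (M.inv_mem x.2) y)
    set c : M := ⟨y' * y⁻¹, hcM⟩ with hc_def
    have hc : c ∈ K.subgroupOf M := K.mul_mem hy'K (K.inv_mem hyK)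
    obtain ⟨i, hi⟩ := order_two_pow hK'2 hc
    have hco : (orderOf (c : G)).Coprime (orderOf y) := by
      rw [Subgroup.orderOf_coe, hi]
      exact (coprime_two_of_odd hyo i).symm
    have ho := (hcomm c hc).orderOf_mul_eq_mul_orderOf_of_coprime hco
    rw [show (c : G) * y = y' by rw [hc_def]; exact inv_mul_cancel_right _ _, hy', order_conj] at ho
    have hc1 : (c : G) = 1 := orderOf_eq_one_iff.1 <| by
      have hpos := orderOf_pos y
      exact Nat.eq_of_mul_eq_mul_right hpos (ho.symm.trans (one_mul _).symm)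
    exact mul_inv_eq_iff_eq_mul.1 (mul_inv_eq_one.1 hc1)
  have hm := h'.two_le_m
  have := h'.relIndex_eq_m
  rw [Subgroup.relIndex_eq_one.2 heq] at this
  omega

end Cfsg.Agent.CNSimple
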