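import Cfsg.Agent.Lib.CNSimple.Bound

/-!
# Existence of two natural locals with a common Sylow `2`-subgroup
-/

set_option autoImplicit false
set_option linter.style.haveILetI false
set_option linter.unusedSectionVars false

namespace Cfsg.Agent.CNSimple

open Cfsg.Agent.Invol

universe u

variable {G : Type u} [Group G] [Finite G]

theorem Elem.sup {A B : Subgroup G} (hA : Elem A) (hB : Elem B) (h : ∀ a ∈ A, ∀ b ∈ B, a * b = b * a) :
    Elem (A ⊔ B) := by
  have hn : B ≤ Subgroup.normalizer (A : Set G) := fun b hb =>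
    Natural.mem_normalizer_of_conj_le fun a ha => by rw [← h a ha b hb, mul_inv_cancel_right]; exact ha
  have hmem : ∀ x ∈ A ⊔ B, ∃ a ∈ A, ∃ b ∈ B, a * b = x := by
    intro x hx
    rw [← SetLike.mem_coe, Subgroup.coe_mul_of_right_le_normalizer_left _ _ hn] at hx
    exact hx
  constructor
  · intro x hx
    obtain ⟨a, ha, b, hb, rfl⟩ := hmem x hx
    rw [show a * b * (a * b) = a * (b * a) * b by group, ← h a ha b hb,
      show a * (a * b) * b = a * a * (b * b) by group, hA.1 a ha, hB.1 b hb, one_mul]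
  · intro x hx y hy
    obtain ⟨a, ha, b, hb, rfl⟩ := hmem x hx
    obtain ⟨c, hc, d, hd, rfl⟩ := hmem y hy
    calc a * b * (c * d) = a * (b * c) * d := by group
      _ = a * c * (b * d) := by rw [← h c hc b hb]; group
      _ = c * a * (d * b) := by rw [hA.2 a ha c hc, hB.2 b hb d hd]
      _ = c * (a * d) * b := by group
      _ = c * d * (a * b) := by rw [h a ha d hd]; group

/-- An elementary subgroup commuting with one of largest order is contained in it. -/
theorem MaxElem.absorb {T A B : Subgroup G} (hA : MaxElem T A) (hB : Elem B) (hBT : B ≤ T)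
    (h : ∀ a ∈ A, ∀ b ∈ B, a * b = b * a) : B ≤ A := by
  have := Subgroup.eq_of_le_of_card_ge (le_sup_left : A ≤ A ⊔ B)
    (hA.2.2 _ (hA.1.sup hB h) (sup_le hA.2.1 hBT))
  exact this ▸ le_sup_right

/-- Two natural locals, each the normaliser of its module, with a common Sylow `2`-subgroup. -/
structure Conf (T V W : Subgroup G) (q : ℕ) : Prop where
  vw : VW T V W q
  nV : Natural (Subgroup.normalizer (V : Set G)) T V q
  nW : Natural (Subgroup.normalizer (W : Set G)) T W q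
  eV : V = omegaZ V
  eW : W = omegaZ W
  ne : V ≠ W

namespace Natural

variable [IsSimpleGroup G] {L L' T X X' : Subgroup G} {q q' : ℕ}

theorem conf (hc : CIT G) (ih : IHyp G) (n : Natural L T X q) (n' : Natural L' T X' q')
    (hne : omegaZ X ≠ omegaZ X')
    (hmax : ∀ R : Subgroup G, R ≤ Subgroup.normalizer (omegaZ X : Set G) → IsPGroup 2 R → T ≤ R → R = T)
    (hmax' : ∀ R : Subgroup G, R ≤ Subgroup.normalizer (omegaZ X' : Set G) → IsPGroup 2 R → T ≤ R → R = T) :
    Conf T (omegaZ X) (omegaZ X') q := by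
  obtain rfl := n.q_eq hc n'
  obtain ⟨e, e', p⟩ := Natural.pair hc ih n n' hne
  have m := n.extend e (by rw [e]; exact hmax)
  have m' := n'.extend e' (by rw [e']; exact hmax')
  rw [← e] at p ⊢
  rw [← e'] at p ⊢
  exact ⟨p, m, m', e, e', by rwa [← e, ← e'] at hne⟩

/-- A local with no offender over a natural one has the Sylow subgroup normal. -/
theorem core_eq (hc : CIT G) {M XM S : Subgroup G} (n : Natural L S X q) (hoff : Offender S X)
    (h : Loc M S XM) (hno : ¬ Offender S XM) : XM = S := by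
  classical
  refine le_antisymm h.X_le ?_
  obtain ⟨A₀, hA₀, hA₀X⟩ := hoff
  set V := omegaZ X with hVdef
  set V₁ := omegaZ XM with hV₁
  have hall : ∀ A, MaxElem S A → V₁ ≤ A := fun A hA => hA.absorb (omegaZ_elem XM) (h.V_le.trans h.X_le)
    fun a ha b hb => (omegaZ_central hb ((by_contra fun e => hno ⟨A, hA, e⟩ : A ≤ XM) ha)).symm
  have hVT := n.V_le_T
  have hq := n.two_le
  -- a subgroup of largest order inside `X`
  set B₀ := A₀ ⊓ X with hB₀
  have hB₀el : Elem B₀ := ⟨fun a ha => hA₀.1.1 a ha.1, fun a ha b hb => hA₀.1.2 a ha.1 b hb.1⟩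
  set A₁ := B₀ ⊔ V with hA₁
  have hA₁el : Elem A₁ := hB₀el.sup (omegaZ_elem X) fun a ha b hb => (omegaZ_central hb ha.2).symm
  have hA₁X : A₁ ≤ X := sup_le inf_le_right n.loc.V_le
  obtain ⟨s, hs, hsX⟩ := SetLike.not_le_iff_exists.1 hA₀X
  have hsT : s ∈ S := hA₀.2.1 hs
  have hfix : V ⊓ A₀ ≤ zT S X := fun v hv =>
    (n.fix_eq hc hsT hsX).le ⟨hv.1, mem_Ct.2 (hA₀.1.2 v hv.2 s hs)⟩
  have hcA₀ : Nat.card A₀ ≤ Nat.card B₀ * q := by
    rw [card_eq_mul_relIndex (inf_le_left : B₀ ≤ A₀), hB₀, inf_comm A₀ X, Subgroup.inf_relIndex_right]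
    exact Nat.mul_le_mul_left _ (n.relIndex ▸
      Subgroup.relIndex_le_of_le_right hA₀.2.1 (by rw [n.relIndex]; omega))
  have hBV : q ≤ B₀.relIndex V := by
    have h1 : Nat.card V = Nat.card (B₀ ⊓ V : Subgroup G) * B₀.relIndex V := by
      rw [← Subgroup.inf_relIndex_right B₀ V]; exact card_eq_mul_relIndex inf_le_right
    have h2 : Nat.card (B₀ ⊓ V : Subgroup G) ≤ q :=
      (Subgroup.card_le_of_le (show B₀ ⊓ V ≤ zT S X from fun v hv => hfix ⟨hv.2, hv.1.1⟩)).trans n.card_Z.le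
    rw [n.card_V] at h1
    refine Nat.le_of_mul_le_mul_left ?_ (show 0 < q by omega)
    exact h1.le.trans (Nat.mul_le_mul_right _ h2)
  have hcA₁ : Nat.card B₀ * q ≤ Nat.card A₁ := by
    rw [card_eq_mul_relIndex (le_sup_left : B₀ ≤ A₁)]
    exact Nat.mul_le_mul_left _ (hBV.trans
      (Subgroup.relIndex_le_of_le_right le_sup_right Subgroup.index_ne_zero_of_finite))
  have hA₁max : MaxElem S A₁ := ⟨hA₁el, hA₁X.trans n.loc.X_le,
    fun B hB hBS => (hA₀.2.2 B hB hBS).trans (hcA₀.trans hcA₁)⟩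
  set Y := sInf {A | MaxElem S A ∧ A ≤ X} with hY
  have hYA₁ : Y ≤ A₁ := sInf_le ⟨hA₁max, hA₁X⟩
  have hYn : L ≤ Subgroup.normalizer (Y : Set G) := by
    intro l hl
    refine Natural.mem_normalizer_of_conj_le fun y hy => ?_
    rw [hY, Subgroup.mem_sInf] at hy ⊢
    rintro A ⟨hA, hAX⟩
    have hlA : A.map (MulAut.conj l⁻¹).toMonoidHom ≤ X := by
      rintro _ ⟨a, ha, rfl⟩
      exact (Subgroup.mem_normalizer_iff.1 (n.loc.X_norm (L.inv_mem hl)) a).1 (hAX ha)
    obtain ⟨a, ha, e⟩ := hy _ ⟨⟨hA.1.map_conj _, hlA.trans n.loc.X_le, fun B hB hBS => by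
      rw [Subgroup.card_map_of_injective (MulEquiv.injective _)]; exact hA.2.2 B hB hBS⟩, hlA⟩
    rw [← e]
    simpa [mul_assoc] using ha
  have hVY : V ≤ Y := le_sInf fun A hA => hA.1.absorb (omegaZ_elem X) hVT
    fun a ha b hb => (omegaZ_central hb (hA.2 ha)).symm
  have hV₁Y : V₁ ≤ Y := le_sInf fun A hA => hall A hA.1
  have hso : orderOf s = 2 := order_two_of_sq (hA₀.1.1 s hs) fun e => hsX (e ▸ X.one_mem)
  have hb := n.loc.sqrt_invol hc (n.loc.X_pGroup.to_le (hYA₁.trans hA₁X)) hYn hso (n.loc.T_le hsT) hsX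
  have hYle : Nat.card Y ≤ Nat.card (Y ⊓ Ct s : Subgroup G) * q := by
    have h1 : Nat.card Y = Nat.card (B₀ ⊓ Y : Subgroup G) * B₀.relIndex Y := by
      rw [← Subgroup.inf_relIndex_right B₀ Y]; exact card_eq_mul_relIndex inf_le_right
    rw [h1]
    refine Nat.mul_le_mul (Subgroup.card_le_of_le fun y hy => ⟨hy.2, mem_Ct.2 (hA₀.1.2 y hy.1.1 s hs)⟩) ?_
    refine (Subgroup.relIndex_le_of_le_right hYA₁ Subgroup.index_ne_zero_of_finite).trans ?_
    refine Nat.le_of_mul_le_mul_left ?_ (show 0 < Nat.card B₀ from Nat.card_pos)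
    rw [← card_eq_mul_relIndex (le_sup_left : B₀ ≤ A₁)]
    exact (hA₀.2.2 A₁ hA₁el (hA₁X.trans n.loc.X_le)).trans hcA₀
  have hYV : Y = V := by
    refine (Subgroup.eq_of_le_of_card_ge hVY ?_).symm
    rw [n.card_V]
    refine Nat.le_of_mul_le_mul_left ?_ (show 0 < Nat.card Y from Nat.card_pos)
    calc Nat.card Y * Nat.card Y
        ≤ Nat.card (Y ⊓ Ct s : Subgroup G) * q * (Nat.card (Y ⊓ Ct s : Subgroup G) * q) :=
          Nat.mul_le_mul hYle hYle
      _ = Nat.card (Y ⊓ Ct s : Subgroup G) * Nat.card (Y ⊓ Ct s : Subgroup G) * (q * q) := by ring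
      _ ≤ Nat.card Y * (q * q) := Nat.mul_le_mul_right _ hb
  intro t ht
  refine h.cent hc (h.T_le ht) fun v hv => ?_
  have := hfix ⟨hYV ▸ hV₁Y hv, hall A₀ hA₀ hv⟩
  exact this.2 t ht

end Natural

/-- The standing assumption of the case analysis. -/
structure NoTI (G : Type u) [Group G] : Prop where
  cit : CIT G
  ih : IHyp G
  even : 2 ∣ Nat.card G
  not_two : ¬ IsPGroup 2 G
  no_ti : ¬ ∃ K : Subgroup G, TIHyp K

namespace NoTI

variable [IsSimpleGroup G] (hG : NoTI G)
include hG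

theorem not_se {M X : Subgroup G} {S : Sylow 2 G} (h : Loc M S X) :
    ¬ Cfsg.IsStronglyEmbedded M := fun hse => by
  haveI : Fact (Nat.Prime 2) := ⟨Nat.prime_two⟩
  have hS1 : (S : Subgroup G) ≠ ⊥ := S.ne_bot_of_dvd_card hG.even
  refine hG.no_ti ⟨S, good_of_se hG.cit h hse, S.dvd_card_of_dvd_card hG.even, fun e => ?_⟩
  have := normalizer_card_lt hG.not_two S.isPGroup' hS1
  rw [e, Subgroup.card_top] at this
  omega

theorem sylow_max (S : Sylow 2 G) {R : Subgroup G} (hR : IsPGroup 2 R) (hle : (S : Subgroup G) ≤ R) :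
    R = (S : Subgroup G) := S.3 hR hle

/-- Outside a subgroup below a Sylow subgroup. -/
theorem outside_conf {H : Subgroup G} {S : Sylow 2 G} {L T X : Subgroup G} (o : Outside H S L T X)
    (hSH : (S : Subgroup G) ≤ H) (hlt : T ≠ (S : Subgroup G)) :
    ∃ V W q g, Conf T V W q ∧ g ∈ (S : Subgroup G) ∧ g ∈ Subgroup.normalizer (T : Set G) ∧ g ∉ T ∧
      V.map (MulAut.conj g).toMonoidHom = W ∧ T ≤ (S : Subgroup G) ∧
      (S : Subgroup G) ⊓ Subgroup.normalizer (V : Set G) = T := by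
  obtain ⟨q, n⟩ := o.loc.natural hG.cit hG.ih o.card_lt (o.offender hSH hlt)
  obtain ⟨g, hgS, hgN, hgT⟩ := o.exists_normalizing hlt
  have hgmap : T.map (MulAut.conj g).toMonoidHom = T := Subgroup.mem_normalizer_iff_map_conj_eq.1 hgN
  have n' := n.map_conj g
  rw [hgmap] at n'
  set V := omegaZ X with hV
  have hT1 : T ≠ ⊥ := fun e => o.loc.X_ne (le_bot_iff.1 (e ▸ o.loc.X_le))
  have hTp := o.loc.T_pGroup
  have hgV : g ∉ Subgroup.normalizer (V : Set G) :=
    o.not_normalized hSH n.V_le_T o.loc.V_ne o.loc.V_norm hgS hgT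
  have hcard : ∀ r : G, r ∉ T → Nat.card T < Nat.card (T ⊔ Subgroup.zpowers r : Subgroup G) := fun r hr => by
    refine lt_of_le_of_ne (Subgroup.card_le_of_le le_sup_left) fun e => hr ?_
    exact (Subgroup.eq_of_le_of_card_ge le_sup_left e.ge).symm ▸
      (Subgroup.mem_sup_right (Subgroup.mem_zpowers r))
  have hNT : Subgroup.normalizer (T : Set G) ≤ H :=
    o.max T (T ⊔ Subgroup.zpowers g) (o.T_le.trans hSH) hTp hT1
      (sup_le (o.T_le.trans hSH) (Subgroup.zpowers_le.2 (hSH hgS)))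
      (S.isPGroup'.to_le (sup_le o.T_le (Subgroup.zpowers_le.2 hgS)))
      (sup_le Subgroup.le_normalizer (Subgroup.zpowers_le.2 hgN)) (hcard g hgT)
  have hmax : ∀ R : Subgroup G, R ≤ Subgroup.normalizer (V : Set G) → IsPGroup 2 R → T ≤ R → R = T := by
    intro R hRV hR hTR
    by_contra hne
    have hlt2 : T.subgroupOf R < ⊤ := by
      rw [lt_top_iff_ne_top, Ne, Subgroup.subgroupOf_eq_top]
      exact fun e => hne (le_antisymm e hTR)
    haveI : Fact (Nat.Prime 2) := ⟨Nat.prime_two⟩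
    have := hR.isNilpotent
    obtain ⟨r, hr, hrn⟩ := SetLike.exists_of_lt (Group.normalizerCondition_of_isNilpotent _ hlt2)
    have hrN : (r : G) ∈ Subgroup.normalizer (T : Set G) := Natural.mem_normalizer_of_conj_le fun a ha =>
      (Subgroup.mem_normalizer_iff.1 hr ⟨a, hTR ha⟩).1 ha
    refine o.not_le (o.loc.V_norm.trans ?_)
    refine o.max V (T ⊔ Subgroup.zpowers (r : G)) (n.V_le_T.trans (o.T_le.trans hSH)) o.loc.V_pGroup
      o.loc.V_ne (sup_le (o.T_le.trans hSH) (Subgroup.zpowers_le.2 (hNT hrN)))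
      (hR.to_le (sup_le hTR (Subgroup.zpowers_le.2 r.2)))
      (sup_le (o.loc.T_le.trans o.loc.V_norm) (Subgroup.zpowers_le.2 (hRV r.2)))
      (hcard r fun e => hrn e)
  have hW : omegaZ (X.map (MulAut.conj g).toMonoidHom) = V.map (MulAut.conj g).toMonoidHom :=
    omegaZ_map_conj X g
  have hmax' : ∀ R : Subgroup G,
      R ≤ Subgroup.normalizer (omegaZ (X.map (MulAut.conj g).toMonoidHom) : Set G) → IsPGroup 2 R → T ≤ R →
        R = T := by
    intro R hRV hR hTR
    have h1 := hmax (R.map (MulAut.conj g⁻¹).toMonoidHom) ?_ (hR.map _) ?_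
    · refine le_antisymm (fun r hr => ?_) hTR
      have := (h1.le (Subgroup.mem_map_of_mem _ hr) : _ ∈ T)
      have h2 := (Subgroup.mem_normalizer_iff.1 hgN _).1 this
      simpa [mul_assoc] using h2
    · rintro _ ⟨r, hr, rfl⟩
      have := hRV hr
      rw [hW] at this
      refine Natural.mem_normalizer_of_conj_le fun v hv => ?_
      have h2 := (Subgroup.mem_normalizer_iff.1 this _).1 ⟨v, hv, rfl⟩
      rw [conj_mem_map] at h2
      simpa [mul_assoc] using h2
    · intro t ht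
      refine ⟨g * t * g⁻¹, hTR ((Subgroup.mem_normalizer_iff.1 hgN t).1 ht), ?_⟩
      simp [mul_assoc]
  have hne : omegaZ X ≠ omegaZ (X.map (MulAut.conj g).toMonoidHom) := by
    rw [hW]
    exact fun e => hgV (Subgroup.mem_normalizer_iff_map_conj_eq.2 e.symm)
  refine ⟨V, _, q, g, n.conf hG.cit hG.ih n' hne hmax hmax', hgS, hgN, hgT, hW.symm, o.T_le, ?_⟩
  refine le_antisymm (fun r hr => by_contra fun hrT =>
    o.not_normalized hSH n.V_le_T o.loc.V_ne o.loc.V_norm hr.1 hrT hr.2) ?_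
  exact le_inf o.T_le (o.loc.T_le.trans o.loc.V_norm)

/-- Either two natural locals share a Sylow subgroup of the group or they share a smaller one. -/
theorem exists_conf :
    (∃ (S : Sylow 2 G) (V W : Subgroup G) (q : ℕ), Conf (S : Subgroup G) V W q) ∨
    (∃ (H : Subgroup G) (S : Sylow 2 G) (L T X : Subgroup G),
      Outside H S L T X ∧ (S : Subgroup G) ≤ H ∧ T ≠ (S : Subgroup G)) := by
  haveI : Fact (Nat.Prime 2) := ⟨Nat.prime_two⟩
  have hc := hG.cit
  obtain ⟨S⟩ : Nonempty (Sylow 2 G) := inferInstance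
  have hS1 : (S : Subgroup G) ≠ ⊥ := S.ne_bot_of_dvd_card hG.even
  set M := Subgroup.normalizer (jSub (S : Subgroup G) : Set G) with hM
  have hJp : IsPGroup 2 (jSub (S : Subgroup G)) := S.isPGroup'.to_le (jSub_le _)
  have hJ1 := jSub_ne_bot S.isPGroup' hS1
  have hMlt : Nat.card M < Nat.card G := normalizer_card_lt hG.not_two hJp hJ1
  have hMtop : M ≠ ⊤ := fun e => by rw [e, Subgroup.card_top] at hMlt; omega
  have hSM : (S : Subgroup G) ≤ M := Subgroup.le_normalizer.trans (normalizer_le_jSub _)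
  obtain ⟨XM, hXM, -⟩ := Loc.exists_loc S.isPGroup' hSM (fun P _ hP hle => sylow_max hG S hP hle) hJp
    ((jSub_le _).trans hSM) hJ1 le_rfl
  obtain ⟨L, T, X, o⟩ := exists_outside_local hc hG.not_two hG.even hMtop hSM (hG.not_se hXM)
  by_cases hT : T = (S : Subgroup G)
  swap
  · exact Or.inr ⟨M, S, L, T, X, o, hSM, hT⟩
  subst hT
  have hoff : Offender (S : Subgroup G) X := by_contra fun hno => o.not_le (o.le_jSub_of_not_offender hno)
  obtain ⟨q, n⟩ := o.loc.natural hc hG.ih o.card_lt hoff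
  set V := omegaZ X with hV
  set H := Subgroup.normalizer (V : Set G) with hH
  have hHlt : Nat.card H < Nat.card G := normalizer_card_lt hG.not_two o.loc.V_pGroup o.loc.V_ne
  have hHtop : H ≠ ⊤ := fun e => by rw [e, Subgroup.card_top] at hHlt; omega
  have hSH : (S : Subgroup G) ≤ H := o.loc.T_le.trans o.loc.V_norm
  obtain ⟨XH, hXH, -⟩ := Loc.exists_loc S.isPGroup' hSH (fun P _ hP hle => sylow_max hG S hP hle)
    o.loc.V_pGroup (n.V_le_T.trans hSH) o.loc.V_ne le_rfl
  obtain ⟨L₁, T₁, X₁, o₁⟩ := exists_outside_local hc hG.not_two hG.even hHtop hSH (hG.not_se hXH)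
  by_cases hT₁ : T₁ = (S : Subgroup G)
  swap
  · exact Or.inr ⟨H, S, L₁, T₁, X₁, o₁, hSH, hT₁⟩
  subst hT₁
  refine Or.inl ?_
  have mk : ∀ {L' X' : Subgroup G} {q' : ℕ}, Natural L' (S : Subgroup G) X' q' → V ≠ omegaZ X' →
      ∃ (S : Sylow 2 G) (V W : Subgroup G) (q : ℕ), Conf (S : Subgroup G) V W q :=
    fun {L' X' q'} n' hne => ⟨S, _, _, _, n.conf hc hG.ih n' hne (fun R _ hR hle => sylow_max hG S hR hle)
      (fun R _ hR hle => sylow_max hG S hR hle)⟩
  by_cases hoff₁ : Offender (S : Subgroup G) X₁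
  · obtain ⟨q₁, n₁⟩ := o₁.loc.natural hc hG.ih o₁.card_lt hoff₁
    exact mk n₁ fun e => o₁.not_le (by rw [hH, e]; exact o₁.loc.V_norm)
  have hMH : ¬ M ≤ H := fun hle => o₁.not_le ((o₁.le_jSub_of_not_offender hoff₁).trans hle)
  by_cases hoffM : Offender (S : Subgroup G) XM
  · obtain ⟨qM, nM⟩ := hXM.natural hc hG.ih hMlt hoffM
    exact mk nM fun e => hMH (by rw [hH, e]; exact hXM.V_norm)
  have e := n.core_eq hc hoff hXM hoffM
  subst e
  obtain ⟨g, hgM, hgH⟩ := SetLike.not_le_iff_exists.1 hMH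
  have n' := n.map_conj g
  have hmap : (S : Subgroup G).map (MulAut.conj g).toMonoidHom = (S : Subgroup G) :=
    Subgroup.mem_normalizer_iff_map_conj_eq.1 (hXM.X_norm hgM)
  rw [hmap] at n'
  refine mk n' fun e => hgH (Subgroup.mem_normalizer_iff_map_conj_eq.2 ?_)
  rw [omegaZ_map_conj] at e
  exact e.symm

end NoTI

end Cfsg.Agent.CNSimple
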