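import Cfsg.Agent.Lib.CNSimple.Offender

/-!
# Locals outside a subgroup containing a Sylow `2`-subgroup
-/

set_option autoImplicit false
set_option linter.style.haveILetI false
set_option linter.unusedSectionVars false

open scoped Pointwise

namespace Cfsg.Agent.CNSimple

open Cfsg.Agent.Invol

universe u

variable {G : Type u} [Group G] [Finite G]

/-- The subgroup generated by the elementary abelian subgroups of largest order. -/
def jSub (T : Subgroup G) : Subgroup G := sSup {A | MaxElem T A}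

theorem exists_maxElem (T : Subgroup G) : ∃ A, MaxElem T A := by
  haveI : Nonempty {A : Subgroup G // Elem A ∧ A ≤ T} := ⟨⟨⊥, ⟨fun a ha => by
    rw [Subgroup.mem_bot.1 ha, one_mul], fun a ha b hb => by
    rw [Subgroup.mem_bot.1 ha, Subgroup.mem_bot.1 hb]⟩, bot_le⟩⟩
  haveI := BaerSuzuki.finite_subgroups (G := G)
  obtain ⟨⟨A, hA, hAT⟩, hmax⟩ := Finite.exists_max fun A : {A : Subgroup G // Elem A ∧ A ≤ T} =>
    Nat.card A.1
  exact ⟨A, hA, hAT, fun B hB hBT => hmax ⟨B, hB, hBT⟩⟩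

theorem jSub_le (T : Subgroup G) : jSub T ≤ T := sSup_le fun _ hA => hA.2.1

theorem le_jSub {T A : Subgroup G} (hA : MaxElem T A) : A ≤ jSub T := le_sSup hA

theorem Elem.map_conj {A : Subgroup G} (hA : Elem A) (g : G) :
    Elem (A.map (MulAut.conj g).toMonoidHom) := by
  constructor
  · rintro _ ⟨a, ha, rfl⟩
    rw [← map_mul, hA.1 a ha, map_one]
  · rintro _ ⟨a, ha, rfl⟩ _ ⟨b, hb, rfl⟩
    rw [← map_mul, ← map_mul, hA.2 a ha b hb]

theorem map_conj_le_of_mem {T A : Subgroup G} {g : G} (hg : g ∈ Subgroup.normalizer (T : Set G))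
    (hA : A ≤ T) : A.map (MulAut.conj g).toMonoidHom ≤ T := by
  rintro _ ⟨a, ha, rfl⟩
  exact (Subgroup.mem_normalizer_iff.1 hg a).1 (hA ha)

theorem normalizer_le_jSub (T : Subgroup G) :
    Subgroup.normalizer (T : Set G) ≤ Subgroup.normalizer (jSub T : Set G) := by
  intro g hg
  rw [Subgroup.mem_normalizer_iff_map_conj_eq]
  refine Subgroup.eq_of_le_of_card_ge ?_ (Subgroup.card_map_of_injective (MulEquiv.injective _)).ge
  rw [Subgroup.map_le_iff_le_comap]
  refine sSup_le fun A hA => ?_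
  rw [← Subgroup.map_le_iff_le_comap]
  refine le_jSub ⟨hA.1.map_conj g, map_conj_le_of_mem hg hA.2.1, fun B hB hBT => ?_⟩
  rw [Subgroup.card_map_of_injective (MulEquiv.injective _)]
  exact hA.2.2 B hB hBT

theorem jSub_eq_of_not_offender {T X : Subgroup G} (hXT : X ≤ T) (hno : ¬ Offender T X) :
    jSub X = jSub T := by
  have hle : ∀ A, MaxElem T A → A ≤ X := fun A hA => by_contra fun e => hno ⟨A, hA, e⟩
  obtain ⟨A₀, hA₀⟩ := exists_maxElem T
  have hiff : ∀ A, MaxElem X A ↔ MaxElem T A := fun A =>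
    ⟨fun hA => ⟨hA.1, hA.2.1.trans hXT, fun B hB hBT =>
      (hA₀.2.2 B hB hBT).trans (hA.2.2 A₀ hA₀.1 (hle A₀ hA₀))⟩,
    fun hA => ⟨hA.1, hle A hA, fun B hB hBX => hA.2.2 B hB (hBX.trans hXT)⟩⟩
  unfold jSub
  simp only [hiff]

theorem jSub_ne_bot {T : Subgroup G} (hT : IsPGroup 2 T) (hT1 : T ≠ ⊥) : jSub T ≠ ⊥ := by
  obtain ⟨⟨w, hw⟩, hw1⟩ := Subgroup.ne_bot_iff_exists_ne_one.1 hT1
  obtain ⟨k, hk⟩ := order_two_pow hT hw
  obtain ⟨j, hj⟩ := exists_pow_invol (fun e => hw1 (Subtype.ext e)) hk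
  obtain ⟨A, hA⟩ := exists_maxElem T
  intro e
  have hA1 : A = ⊥ := le_bot_iff.1 (e ▸ le_jSub hA)
  have hel : Elem (Subgroup.zpowers (w ^ j)) := by
    refine ⟨fun a ha => ?_, fun a ha b hb => ?_⟩
    · obtain ⟨i, rfl⟩ := Subgroup.mem_zpowers_iff.1 ha
      rw [← zpow_add, ← two_mul, zpow_mul, show (w ^ j) ^ (2 : ℤ) = w ^ j * w ^ j from zpow_two _,
        mul_self hj, one_zpow]
    · obtain ⟨i, rfl⟩ := Subgroup.mem_zpowers_iff.1 ha
      obtain ⟨i', rfl⟩ := Subgroup.mem_zpowers_iff.1 hb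
      rw [← zpow_add, add_comm, zpow_add]
  have := hA.2.2 _ hel (Subgroup.zpowers_le.2 (pow_mem hw j))
  rw [hA1, Nat.card_zpowers, hj, Subgroup.card_bot] at this
  omega

theorem normalizer_card_lt [IsSimpleGroup G] (hns : ¬ IsPGroup 2 G) {Q : Subgroup G} (hQ : IsPGroup 2 Q)
    (hQ1 : Q ≠ ⊥) : Nat.card (Subgroup.normalizer (Q : Set G)) < Nat.card G := by
  refine lt_of_le_of_ne (Subgroup.card_le_card_group _) fun e => ?_
  have htop : Subgroup.normalizer (Q : Set G) = ⊤ := Subgroup.eq_top_of_card_eq _ e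
  rcases IsSimpleGroup.eq_bot_or_eq_top_of_normal Q (Subgroup.normalizer_eq_top_iff.1 htop) with h | h
  · exact hQ1 h
  · refine hns fun g => ?_
    obtain ⟨k, hk⟩ := hQ ⟨g, h ▸ Subgroup.mem_top g⟩
    exact ⟨k, congrArg Subtype.val hk⟩

/-- A strongly embedded local subgroup containing a Sylow `2`-subgroup has it as a good subgroup. -/
theorem good_of_se (hc : CIT G) {M : Subgroup G} {S : Sylow 2 G} {X : Subgroup G}
    (h : Loc M S X) (hse : Cfsg.IsStronglyEmbedded M) : CN.Good (S : Subgroup G) := by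
  haveI : Fact (Nat.Prime 2) := ⟨Nat.prime_two⟩
  obtain ⟨⟨z, hzV⟩, hz1⟩ := Subgroup.ne_bot_iff_exists_ne_one.1 h.V_ne
  have hz : orderOf z = 2 := order_two_of_sq ((omegaZ_elem X).1 z hzV) fun e => hz1 (Subtype.ext e)
  have hzM : z ∈ M := h.X_le_L (h.V_le hzV)
  have hSX : (S : Subgroup G) ≤ X := by
    by_contra hne
    obtain ⟨t, htS, htX⟩ := SetLike.not_le_iff_exists.1 hne
    obtain ⟨k, hk⟩ := order_two_pow S.isPGroup' htS
    classical
    have hex : ∃ j, t ^ 2 ^ j ∈ X := ⟨k, by rw [← hk, pow_orderOf_eq_one]; exact X.one_mem⟩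
    rcases Nat.eq_zero_or_pos (Nat.find hex) with h0 | h0
    · exact htX (by simpa [h0] using Nat.find_spec hex)
    have hmem : t ^ 2 ^ (Nat.find hex - 1) ∈ (S : Subgroup G) := pow_mem htS _
    obtain ⟨s, y, hs, hsM, -, -, hsX, -⟩ := h.exists_inverted hc (h.T_le hmem)
      (Nat.find_min hex (by omega)) (by
        rw [← pow_add, ← two_mul, ← pow_succ', show Nat.find hex - 1 + 1 = Nat.find hex by omega]
        exact Nat.find_spec hex)
    obtain ⟨g, hg⟩ := isConj_iff.1 (se_isConj hse hz hs)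
    have hgM : g ∈ M := se_mem_of_conj hse hz hzM (hg ▸ hsM)
    exact hsX (hg ▸ h.V_le (h.conj_V hgM hzV))
  have hXS : X = (S : Subgroup G) := le_antisymm h.X_le hSX
  refine good_of_ti hc ?_ S fun g x hx hx1 hgx => ?_
  · exact hz ▸ orderOf_dvd_natCard z
  · obtain ⟨k, hk⟩ := order_two_pow S.isPGroup' hx
    obtain ⟨j, hj⟩ := exists_pow_invol hx1 hk
    have hgM : g ∈ M := se_mem_of_conj hse hj (h.T_le (pow_mem hx j)) (by
      rw [← _root_.conj_pow]; exact h.T_le (pow_mem hgx j))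
    have := h.X_norm hgM
    rwa [hXS] at this

/-- A local subgroup outside `H` of largest Sylow intersection with `H`. -/
structure Outside (H : Subgroup G) (S : Sylow 2 G) (L T X : Subgroup G) : Prop where
  loc : Loc L T X
  not_le : ¬ L ≤ H
  card_lt : Nat.card L < Nat.card G
  T_le : T ≤ (S : Subgroup G)
  max : ∀ P R : Subgroup G, P ≤ H → IsPGroup 2 P → P ≠ ⊥ → R ≤ H → IsPGroup 2 R →
    R ≤ Subgroup.normalizer (P : Set G) → Nat.card T < Nat.card R →
    Subgroup.normalizer (P : Set G) ≤ H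

theorem exists_outside_local [IsSimpleGroup G] (hc : CIT G) (hns : ¬ IsPGroup 2 G) (hev : 2 ∣ Nat.card G)
    {H : Subgroup G} {S : Sylow 2 G} (hH : H ≠ ⊤) (hS : (S : Subgroup G) ≤ H)
    (hse : ¬ Cfsg.IsStronglyEmbedded H) : ∃ L T X, Outside H S L T X := by
  haveI : Fact (Nat.Prime 2) := ⟨Nat.prime_two⟩
  haveI := BaerSuzuki.finite_subgroups (G := G)
  have hS1 : (S : Subgroup G) ≠ ⊥ := S.ne_bot_of_dvd_card hev
  -- some 2-subgroup of `H` has normaliser outside `H`
  have hex : ∃ Q : Subgroup G, Q ≤ H ∧ IsPGroup 2 Q ∧ Q ≠ ⊥ ∧ ¬ Subgroup.normalizer (Q : Set G) ≤ H := by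
    by_contra hcon
    push Not at hcon
    set S' : Sylow 2 H := S.subtype hS
    have hS' : ((S' : Subgroup H).map H.subtype : Subgroup G) = (S : Subgroup G) := by
      rw [Sylow.coe_subtype, Subgroup.map_subgroupOf_eq_of_le hS]
    have heven : Even (Nat.card H) :=
      (even_iff_two_dvd).2 ((S.dvd_card_of_dvd_card hev).trans (Subgroup.card_dvd_of_le hS))
    refine hse (se_of_centralizers hH S' heven ?_ fun t ht hto => ?_)
    · rw [hS']; exact hcon _ hS S.isPGroup' hS1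
    · by_contra hle
      set C := Subgroup.centralizer ({t} : Set G) with hC
      have hCp : IsPGroup 2 C := hc t hto
      set Q := C ⊓ H with hQ
      have hlt : Q.subgroupOf C < ⊤ := by
        rw [lt_top_iff_ne_top, Ne, Subgroup.subgroupOf_eq_top]
        exact fun e => hle (e.trans inf_le_right)
      have := hCp.isNilpotent
      obtain ⟨g, hg, hgn⟩ :=
        SetLike.exists_of_lt (Group.normalizerCondition_of_isNilpotent _ hlt)
      refine hgn ⟨g.2, hcon Q inf_le_right (hCp.to_le inf_le_left) (fun e => ne_one hto ?_) ?_⟩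
      · exact Subgroup.mem_bot.1 (e ▸ (⟨self_mem_Ct t, ht⟩ : t ∈ Q))
      · refine Subgroup.mem_normalizer_iff.2 fun a => ?_
        have hn := Subgroup.mem_normalizer_iff.1 hg
        constructor
        · intro ha
          exact (hn ⟨a, ha.1⟩).1 ha
        · intro ha
          have haC : a ∈ C := by
            have h1 := C.mul_mem (C.mul_mem (C.inv_mem g.2) ha.1) g.2
            simpa [mul_assoc] using h1
          exact (hn ⟨a, haC⟩).2 ha
  -- maximise
  let P := {p : Subgroup G × Subgroup G // p.1 ≤ H ∧ IsPGroup 2 p.1 ∧ p.1 ≠ ⊥ ∧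
    ¬ Subgroup.normalizer (p.1 : Set G) ≤ H ∧ p.2 ≤ H ∧ IsPGroup 2 p.2 ∧
    p.2 ≤ Subgroup.normalizer (p.1 : Set G)}
  haveI : Nonempty P := by
    obtain ⟨Q, h1, h2, h3, h4⟩ := hex
    exact ⟨⟨(Q, Q), h1, h2, h3, h4, h1, h2, Subgroup.le_normalizer⟩⟩
  obtain ⟨⟨⟨Q₀, T₀⟩, hQH₀, hQp₀, hQ1₀, hQn₀, hTH₀, hTp₀, hTn₀⟩, hmax⟩ :=
    Finite.exists_max fun p : P => Nat.card p.1.2
  have hmax' : ∀ P R : Subgroup G, P ≤ H → IsPGroup 2 P → P ≠ ⊥ → R ≤ H → IsPGroup 2 R →
      R ≤ Subgroup.normalizer (P : Set G) → Nat.card T₀ < Nat.card R →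
      Subgroup.normalizer (P : Set G) ≤ H := fun P R h1 h2 h3 h5 h6 h7 hlt => by
    by_contra h4
    exact absurd (hmax ⟨(P, R), h1, h2, h3, h4, h5, h6, h7⟩) (not_le.2 hlt)
  -- move `T₀` into `S`
  obtain ⟨U, hU⟩ := (hTp₀.comap_subtype (K := H)).exists_le_sylow
  obtain ⟨a, ha⟩ := MulAction.exists_smul_eq H U (S.subtype hS)
  set c := (MulAut.conj (a : G)).toMonoidHom with hc'
  have hcH : ∀ {A : Subgroup G}, A ≤ H → A.map c ≤ H := by
    rintro A hA _ ⟨x, hx, rfl⟩
    exact H.mul_mem (H.mul_mem a.2 (hA hx)) (H.inv_mem a.2)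
  set Q := Q₀.map c with hQdef
  set T := T₀.map c with hTdef
  have hTS : T ≤ (S : Subgroup G) := by
    rintro _ ⟨x, hx, rfl⟩
    have h1 : (a * ⟨x, hTH₀ hx⟩ * a⁻¹ : H) ∈ (a • U : Sylow 2 H) := by
      rw [← SetLike.mem_coe]
      show _ ∈ ((a • U : Sylow 2 H) : Subgroup H)
      rw [Sylow.coe_subgroup_smul, Subgroup.mem_pointwise_smul_iff_inv_smul_mem, ← map_inv,
        MulAut.smul_def, MulAut.conj_apply, inv_inv,
        show a⁻¹ * (a * ⟨x, hTH₀ hx⟩ * a⁻¹) * a = ⟨x, hTH₀ hx⟩ by group]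
      exact hU hx
    rw [ha] at h1
    exact h1
  have hTp : IsPGroup 2 T := hTp₀.map _
  have hcardT : Nat.card T = Nat.card T₀ := Subgroup.card_map_of_injective (MulEquiv.injective _)
  have hQ1 : Q ≠ ⊥ := fun e => hQ1₀ ((Subgroup.map_eq_bot_iff_of_injective _ (MulEquiv.injective _)).1 e)
  have hQp : IsPGroup 2 Q := hQp₀.map _
  have hQH : Q ≤ H := hcH hQH₀
  have hTH : T ≤ H := hcH hTH₀
  set L := Subgroup.normalizer (Q : Set G) with hL
  have hmapN : (Subgroup.normalizer (Q₀ : Set G)).map c ≤ L := Subgroup.le_normalizer_map c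
  have hTL : T ≤ L := (Subgroup.map_mono hTn₀).trans hmapN
  have hLH : ¬ L ≤ H := fun hle => hQn₀ fun x hx => by
    have h1 := hle (hmapN ⟨x, hx, rfl⟩)
    have h2 := H.mul_mem (H.mul_mem (H.inv_mem a.2) h1) a.2
    simpa [hc', mul_assoc] using h2
  -- `T` is a Sylow subgroup of `L`
  have hTmax : ∀ R : Subgroup G, R ≤ L → IsPGroup 2 R → T ≤ R → R = T := by
    intro R hRL hR hTR
    by_cases hTS' : T = (S : Subgroup G)
    · exact (S.3 hR (hTS' ▸ hTR)).trans hTS'.symm
    by_contra hne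
    -- a larger subgroup of `S` normalises `T`
    have hlt : T.subgroupOf (S : Subgroup G) < ⊤ := by
      rw [lt_top_iff_ne_top, Ne, Subgroup.subgroupOf_eq_top]
      exact fun e => hTS' (le_antisymm hTS e)
    have := S.isPGroup'.isNilpotent
    obtain ⟨g, hg, hgn⟩ :=
      SetLike.exists_of_lt (Group.normalizerCondition_of_isNilpotent _ hlt)
    have hgN : (g : G) ∈ Subgroup.normalizer (T : Set G) := by
      refine Subgroup.mem_normalizer_iff.2 fun a => ?_
      have hn := Subgroup.mem_normalizer_iff.1 hg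
      constructor
      · intro ha
        exact (hn ⟨a, hTS ha⟩).1 ha
      · intro ha
        have haS : a ∈ (S : Subgroup G) := by
          have h1 := mul_mem (mul_mem (inv_mem g.2) (hTS ha)) g.2
          simpa [mul_assoc] using h1
        exact (hn ⟨a, haS⟩).2 ha
    have hlt1 : Nat.card T₀ < Nat.card ((S : Subgroup G) ⊓ Subgroup.normalizer (T : Set G) : Subgroup G) := by
      rw [← hcardT]
      refine lt_of_le_of_ne (Subgroup.card_le_of_le (le_inf hTS Subgroup.le_normalizer)) fun e => hgn ?_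
      exact (Subgroup.eq_of_le_of_card_ge (le_inf hTS Subgroup.le_normalizer) e.ge) ▸ ⟨g.2, hgN⟩
    have hTne : T ≠ ⊥ := by
      intro e
      have h1 := hmax ⟨(Q₀, Q₀), hQH₀, hQp₀, hQ1₀, hQn₀, hQH₀, hQp₀, Subgroup.le_normalizer⟩
      have h2 : Nat.card T₀ = 1 := by rw [← hcardT, e, Subgroup.card_bot]
      have h3 : 1 < Nat.card Q₀ := (Subgroup.one_lt_card_iff_ne_bot Q₀).2 hQ1₀
      simp only at h1
      omega
    have hNT := hmax' T _ hTH hTp hTne (inf_le_left.trans hS) (S.isPGroup'.to_le inf_le_left)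
      inf_le_right hlt1
    -- a larger subgroup of `R` lies in `H`
    have hlt2 : T.subgroupOf R < ⊤ := by
      rw [lt_top_iff_ne_top, Ne, Subgroup.subgroupOf_eq_top]
      exact fun e => hne (le_antisymm e hTR)
    have := hR.isNilpotent
    obtain ⟨r, hr, hrn⟩ :=
      SetLike.exists_of_lt (Group.normalizerCondition_of_isNilpotent _ hlt2)
    have hrN : (r : G) ∈ Subgroup.normalizer (T : Set G) := by
      refine Subgroup.mem_normalizer_iff.2 fun a => ?_
      have hn := Subgroup.mem_normalizer_iff.1 hr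
      constructor
      · intro ha
        exact (hn ⟨a, hTR ha⟩).1 ha
      · intro ha
        have haR : a ∈ R := by
          have h1 := mul_mem (mul_mem (inv_mem r.2) (hTR ha)) r.2
          simpa [mul_assoc] using h1
        exact (hn ⟨a, haR⟩).2 ha
    refine hLH (hmax' Q (T ⊔ Subgroup.zpowers (r : G)) hQH hQp hQ1
      (sup_le hTH (Subgroup.zpowers_le.2 (hNT hrN)))
      (hR.to_le (sup_le hTR (Subgroup.zpowers_le.2 r.2)))
      (sup_le hTL (Subgroup.zpowers_le.2 (hRL r.2))) ?_)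
    rw [← hcardT]
    refine lt_of_le_of_ne (Subgroup.card_le_of_le le_sup_left) fun e => hrn ?_
    exact (Subgroup.eq_of_le_of_card_ge le_sup_left e.ge).symm ▸
      (Subgroup.mem_sup_right (Subgroup.mem_zpowers (r : G)))
  obtain ⟨X, hX, -⟩ := Loc.exists_loc hTp hTL hTmax hQp Subgroup.le_normalizer hQ1 le_rfl
  exact ⟨L, T, X, hX, hLH, normalizer_card_lt hns hQp hQ1, hTS,
    fun P R h1 h2 h3 h4 h5 h6 h7 => hmax' P R h1 h2 h3 h4 h5 h6 (hcardT ▸ h7)⟩

namespace Outside

variable {H : Subgroup G} {S : Sylow 2 G} {L T X : Subgroup G} (o : Outside H S L T X)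
include o

theorem exists_normalizing (hlt : T ≠ (S : Subgroup G)) :
    ∃ g ∈ (S : Subgroup G), g ∈ Subgroup.normalizer (T : Set G) ∧ g ∉ T := by
  have hlt' : T.subgroupOf (S : Subgroup G) < ⊤ := by
    rw [lt_top_iff_ne_top, Ne, Subgroup.subgroupOf_eq_top]
    exact fun e => hlt (le_antisymm o.T_le e)
  haveI : Fact (Nat.Prime 2) := ⟨Nat.prime_two⟩
  have := S.isPGroup'.isNilpotent
  obtain ⟨g, hg, hgn⟩ :=
    SetLike.exists_of_lt (Group.normalizerCondition_of_isNilpotent _ hlt')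
  refine ⟨g, g.2, Subgroup.mem_normalizer_iff.2 fun a => ?_, fun e => hgn e⟩
  have hn := Subgroup.mem_normalizer_iff.1 hg
  constructor
  · intro ha
    exact (hn ⟨a, o.T_le ha⟩).1 ha
  · intro ha
    have haS : a ∈ (S : Subgroup G) := by
      have h1 := mul_mem (mul_mem (inv_mem g.2) (o.T_le ha)) g.2
      simpa [mul_assoc] using h1
    exact (hn ⟨a, haS⟩).2 ha

/-- Subgroups of `T` normal in `L` are not normalised by elements of `S` normalising `T`. -/
theorem not_normalized (hS : (S : Subgroup G) ≤ H) {P : Subgroup G} (hP : P ≤ T) (hP1 : P ≠ ⊥)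
    (hLP : L ≤ Subgroup.normalizer (P : Set G)) {g : G} (hgS : g ∈ (S : Subgroup G))
    (hgT : g ∉ T) : g ∉ Subgroup.normalizer (P : Set G) := by
  intro hgP
  refine o.not_le (hLP.trans (o.max P (T ⊔ Subgroup.zpowers g) (hP.trans (o.T_le.trans hS))
    (o.loc.T_pGroup.to_le hP) hP1
    (sup_le (o.T_le.trans hS) (Subgroup.zpowers_le.2 (hS hgS)))
    (S.isPGroup'.to_le (sup_le o.T_le (Subgroup.zpowers_le.2 hgS)))
    (sup_le (o.loc.T_le.trans hLP) (Subgroup.zpowers_le.2 hgP)) ?_))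
  refine lt_of_le_of_ne (Subgroup.card_le_of_le le_sup_left) fun e => hgT ?_
  exact (Subgroup.eq_of_le_of_card_ge le_sup_left e.ge).symm ▸
    (Subgroup.mem_sup_right (Subgroup.mem_zpowers g))

theorem le_jSub_of_not_offender (hno : ¬ Offender T X) :
    L ≤ Subgroup.normalizer (jSub T : Set G) := by
  rw [← jSub_eq_of_not_offender o.loc.X_le hno]
  exact o.loc.X_norm.trans (normalizer_le_jSub X)

/-- Below a Sylow subgroup a local outside is an offender. -/
theorem offender (hS : (S : Subgroup G) ≤ H) (hlt : T ≠ (S : Subgroup G)) : Offender T X := by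
  by_contra hno
  obtain ⟨g, hgS, hgN, hgT⟩ := o.exists_normalizing hlt
  have hT1 : T ≠ ⊥ := fun e => o.loc.X_ne (le_bot_iff.1 (e ▸ o.loc.X_le))
  exact o.not_normalized hS (jSub_le T) (jSub_ne_bot o.loc.T_pGroup hT1)
    (o.le_jSub_of_not_offender hno) hgS hgT (normalizer_le_jSub T hgN)

end Outside

end Cfsg.Agent.CNSimple
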