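import Cfsg.Agent.Lib.CNSimple.Conf
import Cfsg.Agent.Lib.Transfer.SignThompson

/-!
# Modules of order sixteen: the configuration of `PSL(3, 4)`
-/

set_option autoImplicit false
set_option linter.style.haveILetI false
set_option linter.unusedSectionVars false

namespace Cfsg.Agent.CNSimple

open Cfsg.Agent.Invol

universe u

variable {G : Type u} [Group G] [Finite G]

theorem card_of_trans {N T : Subgroup G} {P : G → Prop} (hTN : T ≤ N) {a : G} (ha : P a)
    (hmem : ∀ g ∈ N, P (g * a * g⁻¹)) (hstab : ∀ g ∈ N, (g * a * g⁻¹ = a ↔ g ∈ T))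
    (htr : ∀ b, P b → ∃ g ∈ N, g * a * g⁻¹ = b) :
    Nat.card N = Nat.card T * Nat.card {b // P b} := by
  rw [card_eq_mul_relIndex hTN]
  congr 1
  let f : N ⧸ T.subgroupOf N → {b // P b} :=
    fun c => ⟨(c.out : G) * a * (c.out : G)⁻¹, hmem _ c.out.2⟩
  have key : ∀ g h : N, (g : G) * a * (g : G)⁻¹ = (h : G) * a * (h : G)⁻¹ ↔ ((g : N ⧸ T.subgroupOf N) = h) := by
    intro g h
    rw [QuotientGroup.eq, Subgroup.mem_subgroupOf, ← hstab _ (g⁻¹ * h).2]
    push_cast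
    constructor
    · intro e
      calc (g : G)⁻¹ * h * a * ((g : G)⁻¹ * h)⁻¹ = (g : G)⁻¹ * ((h : G) * a * (h : G)⁻¹) * g := by group
        _ = a := by rw [← e]; group
    · intro e
      calc (g : G) * a * (g : G)⁻¹ = g * ((g : G)⁻¹ * h * a * ((g : G)⁻¹ * h)⁻¹) * (g : G)⁻¹ := by rw [e]
        _ = _ := by group
  refine Nat.card_congr (Equiv.ofBijective f ⟨fun c d e => ?_, fun b => ?_⟩)
  · have := (key c.out d.out).1 (congrArg Subtype.val e)
    rwa [QuotientGroup.out_eq', QuotientGroup.out_eq'] at this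
  · obtain ⟨g, hg, e⟩ := htr b.1 b.2
    refine ⟨((⟨g, hg⟩ : N) : N ⧸ T.subgroupOf N), Subtype.ext ?_⟩
    show _ = b.1
    rw [← e]
    exact (key _ ⟨g, hg⟩).2 (QuotientGroup.out_eq' _)

theorem card_ne_one (A : Subgroup G) : Nat.card {b : G // b ∈ A ∧ b ≠ 1} + 1 = Nat.card A := by
  classical
  haveI := Fintype.ofFinite A
  have e : Nat.card {b : G // b ∈ A ∧ b ≠ 1} = Nat.card {b : A // b ≠ 1} :=
    Nat.card_congr ⟨fun b => ⟨⟨b.1, b.2.1⟩, fun h => b.2.2 (congrArg Subtype.val h)⟩,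
      fun b => ⟨b.1, b.1.2, fun h => b.2 (Subtype.ext h)⟩, fun _ => rfl, fun _ => rfl⟩
  rw [e, Nat.card_eq_fintype_card, Nat.card_eq_fintype_card, Fintype.card_subtype_compl,
    Fintype.card_subtype_eq]
  have : 0 < Fintype.card A := Fintype.card_pos
  omega

namespace Conf

variable {T V W : Subgroup G} {q : ℕ} (C : Conf T V W q)
include C

theorem symm : Conf T W V q := ⟨C.vw.symm, C.nW, C.nV, C.eW, C.eV, C.ne.symm⟩

theorem V_ne_bot : V ≠ ⊥ := C.nV.loc.X_ne

theorem two_le : 2 ≤ q := C.nV.two_le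

theorem conj_cases {g : G} (hg : g ∈ Subgroup.normalizer (T : Set G)) :
    V.map (MulAut.conj g).toMonoidHom = V ∨ V.map (MulAut.conj g).toMonoidHom = W :=
  C.vw.elem_eq (C.vw.elem_V.map_conj g) (map_conj_le_of_mem hg C.vw.V_le)
    (by rw [Subgroup.card_map_of_injective (MulEquiv.injective _), C.vw.card_V])

theorem inf_le_normalizer :
    Subgroup.normalizer (T : Set G) ⊓ Subgroup.normalizer (V : Set G) ≤ Subgroup.normalizer (W : Set G) := by
  rintro g ⟨hgT, hgV⟩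
  have hgV' : V.map (MulAut.conj g).toMonoidHom = V := Subgroup.mem_normalizer_iff_map_conj_eq.1 hgV
  rcases C.symm.conj_cases hgT with e | e
  · exact Subgroup.mem_normalizer_iff_map_conj_eq.2 e
  · exact absurd (Subgroup.map_injective (MulEquiv.injective _) (hgV'.trans e.symm)) C.ne

theorem normalizes :
    (∀ v ∈ V, ∀ s ∈ T, v * s * v⁻¹ * s⁻¹ ∈ V ⊓ W) ∧ (∀ s ∈ T, s * s ∈ V ⊓ W) := by
  obtain ⟨h1, h2, -⟩ := C.vw.normalizes C.nV.loc.T_le C.nW.loc.T_le
  obtain ⟨-, h2', -⟩ := C.vw.symm.normalizes C.nW.loc.T_le C.nV.loc.T_le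
  exact ⟨h1, fun s hs => ⟨h2 s hs, h2' s hs⟩⟩

theorem stab_iff (hc : CIT G) {z : G} (hz : z ∈ omegaZ T) (hz1 : z ≠ 1) {g : G}
    (hg : g ∈ Subgroup.normalizer (V : Set G)) : g * z * g⁻¹ = z ↔ g ∈ T := by
  have hzV : z ∈ V := by rw [← C.vw.inf_eq] at hz; exact hz.1
  have hTz : T ≤ Ct z := fun t ht => mem_Ct.2 (hz.2.2 t ht).symm
  have e := C.nV.loc.Ct_eq_T hc (C.eV ▸ hzV) hz1 hTz
  constructor
  · intro h; exact e ▸ ⟨hg, mem_Ct.2 (mul_inv_eq_iff_eq_mul.1 h)⟩
  · intro h; rw [mem_Ct.1 (hTz h), mul_inv_cancel_right]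

theorem card_normalizer (hc : CIT G) :
    Nat.card (Subgroup.normalizer (V : Set G)) + Nat.card T = Nat.card T * (q * q) := by
  obtain ⟨z, hz, hz1⟩ := C.nV.exists_Z
  have hzT : z ∈ omegaZ T := (C.nV.zT_eq hc).le hz
  have hzV : z ∈ V := by rw [C.eV]; exact hz.1
  rw [card_of_trans (P := fun b => b ∈ V ∧ b ≠ 1) C.nV.loc.T_le ⟨hzV, hz1⟩
    (fun g hg => ⟨(Subgroup.mem_normalizer_iff.1 hg z).1 hzV, fun e => hz1 (conj_eq_one_iff.1 e)⟩)
    (fun g hg => C.stab_iff hc hzT hz1 hg)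
    (fun b hb => C.nV.trans z hz.1 hz1 b (C.eV ▸ hb.1) hb.2),
    ← C.vw.card_V, ← card_ne_one V, mul_add, mul_one]

theorem card_normalizer_inf (hc : CIT G) :
    Nat.card (Subgroup.normalizer (T : Set G) ⊓ Subgroup.normalizer (V : Set G) : Subgroup G) + Nat.card T =
      Nat.card T * q := by
  obtain ⟨z, hz, hz1⟩ := C.nV.exists_Z
  have hzT : z ∈ omegaZ T := (C.nV.zT_eq hc).le hz
  rw [card_of_trans (P := fun b => b ∈ omegaZ T ∧ b ≠ 1) (le_inf Subgroup.le_normalizer C.nV.loc.T_le) ⟨hzT, hz1⟩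
    (fun g hg => ⟨(Subgroup.mem_normalizer_iff.1 (normalizer_le_omegaZ T hg.1) z).1 hzT,
      fun e => hz1 (conj_eq_one_iff.1 e)⟩)
    (fun g hg => C.stab_iff hc hzT hz1 hg.2) (fun b hb => ?_),
    ← C.vw.card_inf, C.vw.inf_eq, ← card_ne_one (omegaZ T), mul_add, mul_one]
  have hbz : b ∈ zT T V := (C.nV.zT_eq hc).ge hb.1
  obtain ⟨g, hg, e⟩ := C.nV.trans z hz.1 hz1 b hbz.1 hb.2
  exact ⟨g, ⟨C.nV.Z_meet hc hg hz hz1 (e ▸ hbz), hg⟩, e⟩

theorem q_le [IsSimpleGroup G] (hG : NoTI G) : q ≤ 4 :=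
  q_le_four hG.cit hG.ih C.vw C.nV C.nW C.eV C.eW
    (normalizer_card_lt hG.not_two C.vw.elem_V.isPGroup C.V_ne_bot)
    (normalizer_card_lt hG.not_two C.vw.elem_W.isPGroup C.symm.V_ne_bot) C.inf_le_normalizer

end Conf

/-- At a Sylow subgroup modules of order sixteen give the configuration of `PSL(3, 4)`. -/
theorem Conf.l34Hyp (hc : CIT G) {S : Sylow 2 G} {V W : Subgroup G} (C : Conf (S : Subgroup G) V W 4) :
    L34Hyp S V W := by
  haveI : Fact (Nat.Prime 2) := ⟨Nat.prime_two⟩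
  have hS : Nat.card (S : Subgroup G) = 64 := by rw [C.vw.card_T]
  have hNV : ∀ {V W : Subgroup G}, Conf (S : Subgroup G) V W 4 →
      Subgroup.normalizer ((S : Subgroup G) : Set G) ≤ Subgroup.normalizer (V : Set G) := by
    intro V W C g hg
    by_contra hgV
    obtain ⟨k, m, hm, hgm⟩ := Nat.exists_eq_two_pow_mul_odd (orderOf_pos g).ne'
    have hmem : g ^ m ∈ (S : Subgroup G) := by
      have hp : IsPGroup 2 ((S : Subgroup G) ⊔ Subgroup.zpowers (g ^ m) : Subgroup G) :=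
        IsPGroup.to_sup_of_normal_left' S.isPGroup'
          (IsPGroup.of_card (n := k) (by
            rw [Nat.card_zpowers, orderOf_pow' _ (by rcases hm with ⟨j, rfl⟩; omega), hgm,
              Nat.gcd_eq_right (dvd_mul_left m _), Nat.mul_div_cancel _ hm.pos]))
          (Subgroup.zpowers_le.2 (pow_mem hg m))
      exact S.3 hp le_sup_left ▸ Subgroup.mem_sup_right (Subgroup.mem_zpowers _)
    have hgW : V.map (MulAut.conj g).toMonoidHom = W :=
      (C.conj_cases hg).resolve_left fun e => hgV (Subgroup.mem_normalizer_iff_map_conj_eq.2 e)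
    have hgV' : W.map (MulAut.conj g).toMonoidHom = V := (C.symm.conj_cases hg).resolve_left fun e =>
      C.ne (Subgroup.map_injective (MulEquiv.injective _) (hgW.trans e.symm))
    have hg2 : g * g ∈ Subgroup.normalizer (V : Set G) := Natural.mem_normalizer_of_conj_le fun v hv => by
      rw [show g * g * v * (g * g)⁻¹ = g * (g * v * g⁻¹) * g⁻¹ by group]
      exact hgV'.le ⟨_, hgW.le ⟨v, hv, rfl⟩, rfl⟩
    have h1 : g ^ m ∈ Subgroup.normalizer (V : Set G) := C.nV.loc.T_le hmem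
    obtain ⟨j, rfl⟩ := hm
    rw [pow_succ, pow_mul, pow_two] at h1
    exact hgV ((Subgroup.mul_mem_cancel_left _ (pow_mem hg2 j)).1 h1)
  have hNVc : ∀ {V W : Subgroup G}, Conf (S : Subgroup G) V W 4 →
      Nat.card (Subgroup.normalizer (V : Set G)) = 960 := by
    intro V W C
    have h := C.card_normalizer hc
    rw [hS] at h
    omega
  refine ⟨hc, hS, by rw [C.vw.card_V], by rw [C.vw.card_W], C.vw.elem_V, C.vw.elem_W, C.vw.V_le, C.vw.W_le,
    C.vw.card_inf, fun t ht hto => C.vw.invol t ht (mul_self hto), fun z hz hz1 => ?_, ?_, hNV C,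
    hNV C.symm, hNVc C, hNVc C.symm, ?_, ?_⟩
  · rw [C.vw.inf_eq] at hz
    refine S.3 (hc z (order_two_of_sq hz.2.1 hz1)) fun t ht => ?_
    exact mem_Ct.2 (hz.2.2 t ht).symm
  · have h := C.card_normalizer_inf hc
    rw [inf_eq_left.2 (hNV C), hS] at h
    omega
  · intro a ha ha1 b hb hb1
    exact C.nV.trans a (C.eV ▸ ha) ha1 b (C.eV ▸ hb) hb1
  · intro a ha ha1 b hb hb1
    exact C.nW.trans a (C.eW ▸ ha) ha1 b (C.eW ▸ hb) hb1

/-- Below a Sylow subgroup modules of order sixteen are impossible. -/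
theorem Conf.sub_four_false [IsSimpleGroup G] (hG : NoTI G) {S : Sylow 2 G} {T V W : Subgroup G} {g : G}
    (C : Conf T V W 4) (hgS : g ∈ (S : Subgroup G)) (hgN : g ∈ Subgroup.normalizer (T : Set G))
    (hgT : g ∉ T) (hgV : V.map (MulAut.conj g).toMonoidHom = W) (hTS : T ≤ (S : Subgroup G))
    (hSV : (S : Subgroup G) ⊓ Subgroup.normalizer (V : Set G) = T) : False := by
  classical
  haveI : Fact (Nat.Prime 2) := ⟨Nat.prime_two⟩
  have hc := hG.cit
  have hT : Nat.card T = 64 := by rw [C.vw.card_T]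
  set S₁ := (S : Subgroup G) ⊓ Subgroup.normalizer (T : Set G) with hS₁
  -- elements outside `T` interchange the modules
  have hswap : ∀ a ∈ S₁, a ∉ T → V.map (MulAut.conj a).toMonoidHom = W := fun a ha haT =>
    (C.conj_cases ha.2).resolve_left fun e => haT (hSV ▸ ⟨ha.1, Subgroup.mem_normalizer_iff_map_conj_eq.2 e⟩)
  have hidx : ∀ a ∈ S₁, a ∉ T → ∀ b ∈ S₁, b ∉ T → a⁻¹ * b ∈ T := by
    intro a ha haT b hb hbT
    refine hSV ▸ ⟨(S : Subgroup G).mul_mem ((S : Subgroup G).inv_mem ha.1) hb.1, Natural.mem_normalizer_of_conj_le fun v hv => ?_⟩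
    have h1 : b * v * b⁻¹ ∈ W := (hswap b hb hbT).le ⟨v, hv, rfl⟩
    rw [← hswap a ha haT, conj_mem_map] at h1
    simpa [mul_assoc] using h1
  have hhalf : ∀ {A : Subgroup G}, A ≤ S₁ → Nat.card A ≤ Nat.card (A ⊓ T : Subgroup G) * 2 := by
    intro A hA
    by_cases h : A ≤ T
    · rw [inf_eq_left.2 h]; omega
    obtain ⟨a, ha, haT⟩ := SetLike.not_le_iff_exists.1 h
    rw [← Fintype.card_bool, ← Nat.card_eq_fintype_card (α := Bool), ← Nat.card_prod]
    let f : A → (A ⊓ T : Subgroup G) × Bool := fun b =>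
      if hb : (b : G) ∈ T then (⟨b, b.2, hb⟩, true)
      else (⟨a⁻¹ * b, A.mul_mem (A.inv_mem ha) b.2, hidx a (hA ha) haT b (hA b.2) hb⟩, false)
    refine Nat.card_le_card_of_injective f fun b c e => ?_
    simp only [f] at e
    split_ifs at e <;>
      simp only [Prod.mk.injEq, Bool.true_eq_false, Bool.false_eq_true, and_false, and_true] at e <;>
      first
        | exact Subtype.ext (congrArg Subtype.val e :)
        | exact Subtype.ext (mul_left_cancel (congrArg Subtype.val e :))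
  have helem : ∀ {A : Subgroup G}, Elem A → A ≤ S₁ → Nat.card A = 4 * 4 → A ≤ T := by
    intro A hA hAS hcard
    by_contra h
    obtain ⟨a, ha, haT⟩ := SetLike.not_le_iff_exists.1 h
    have hel : Elem (A ⊓ T) := ⟨fun x hx => hA.1 x hx.1, fun x hx y hy => hA.2 x hx.1 y hy.1⟩
    have hmap := hswap a (hAS ha) haT
    have hfix : ∀ x ∈ A ⊓ T, a * x * a⁻¹ = x := fun x hx => by
      rw [hA.2 a ha x hx.1, mul_inv_cancel_right]
    have hle : A ⊓ T ≤ V ⊓ W := by
      rcases C.vw.elem_le hel inf_le_right with h1 | h1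
      · refine le_inf h1 fun x hx => ?_
        have h2 : a * x * a⁻¹ ∈ W := hmap.le ⟨x, h1 hx, rfl⟩
        rwa [hfix x hx] at h2
      · refine le_inf (fun x hx => ?_) h1
        have h2 : x ∈ V.map (MulAut.conj a).toMonoidHom := hmap.ge (h1 hx)
        rw [conj_mem_map] at h2
        have e1 : a⁻¹ * x * a = x := by
          rw [mul_assoc, ← hA.2 a ha x hx.1, inv_mul_cancel_left]
        rwa [e1] at h2
    have h3 := hhalf hAS
    have h4 := Subgroup.card_le_of_le hle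
    rw [C.vw.card_inf] at h4
    omega
  have hS₁S : (S : Subgroup G) ≤ S₁ := by
    by_contra hne
    have hlt : S₁.subgroupOf (S : Subgroup G) < ⊤ := by
      rw [lt_top_iff_ne_top, Ne, Subgroup.subgroupOf_eq_top]
      exact hne
    have := S.isPGroup'.isNilpotent
    obtain ⟨h, hh, hhn⟩ := SetLike.exists_of_lt (Group.normalizerCondition_of_isNilpotent _ hlt)
    have hconj : ∀ {A : Subgroup G}, Elem A → A ≤ T → Nat.card A = 4 * 4 →
        A.map (MulAut.conj (h : G)).toMonoidHom ≤ T := by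
      intro A hA hAT hcard
      refine helem (hA.map_conj _) ?_ (by rw [Subgroup.card_map_of_injective (MulEquiv.injective _), hcard])
      rintro _ ⟨x, hx, rfl⟩
      exact (Subgroup.mem_normalizer_iff.1 hh ⟨x, hTS (hAT hx)⟩).1 ⟨hTS (hAT hx), Subgroup.le_normalizer (hAT hx)⟩
    refine hhn ⟨h.2, Natural.mem_normalizer_of_conj_le fun t ht => ?_⟩
    have hle : T.map (MulAut.conj (h : G)).toMonoidHom ≤ T := by
      conv_lhs => rw [← C.vw.sup_eq]
      rw [Subgroup.map_sup]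
      exact sup_le (hconj C.vw.elem_V C.vw.V_le C.vw.card_V) (hconj C.vw.elem_W C.vw.W_le C.vw.card_W)
    exact hle ⟨t, ht, rfl⟩
  have hSN : (S : Subgroup G) ≤ Subgroup.normalizer (T : Set G) := hS₁S.trans inf_le_right
  have hcS : Nat.card (S : Subgroup G) = 2 * 64 := by
    have h1 := hhalf hS₁S
    rw [inf_eq_right.2 hTS, hT] at h1
    have h2 := card_eq_mul_relIndex hTS
    rw [hT] at h2
    have h3 : T.relIndex (S : Subgroup G) ≠ 1 := fun e => hgT (Subgroup.relIndex_eq_one.1 e hgS)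
    have h4 : T.relIndex (S : Subgroup G) ≠ 0 := Subgroup.index_ne_zero_of_finite
    omega
  -- the fixed point of `S`
  obtain ⟨z, hzS, hz, hzc⟩ := exists_central_invol hG.even S
  have hzT : z ∈ T := by
    refine hSV ▸ ⟨hzS, Natural.mem_normalizer_of_conj_le fun v hv => ?_⟩
    rw [← mem_Ct.1 (hzc (hTS (C.vw.V_le hv))), mul_inv_cancel_right]; exact hv
  have hzZ : z ∈ omegaZ T := ⟨hzT, mul_self hz, fun t ht => (mem_Ct.1 (hzc (hTS ht))).symm⟩
  have hz1 : z ≠ 1 := ne_one hz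
  have hCtz : Ct z = (S : Subgroup G) := S.3 (hc z hz) hzc
  -- an element of order three
  set N₀ := Subgroup.normalizer (T : Set G) ⊓ Subgroup.normalizer (V : Set G) with hN₀
  have hN₀c : Nat.card N₀ = 192 := by
    have h := C.card_normalizer_inf hc
    change Nat.card N₀ + _ = _ at h
    rw [hT] at h
    omega
  haveI := Fact.mk Nat.prime_three
  obtain ⟨⟨x, hxN⟩, hx⟩ := exists_prime_orderOf_dvd_card' (G := N₀) 3 (by rw [hN₀c]; norm_num)
  rw [Subgroup.orderOf_mk] at hx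
  have hx3 : x * x * x = 1 := by
    have := pow_orderOf_eq_one x; rw [hx, pow_three] at this; rwa [mul_assoc]
  have hxT : x ∉ T := fun h => by
    obtain ⟨k, hk⟩ := order_two_pow C.nV.loc.T_pGroup h
    rw [hx] at hk
    have := (Nat.prime_dvd_prime_iff_eq Nat.prime_three Nat.prime_two).1 (Nat.prime_three.dvd_of_dvd_pow hk.dvd)
    omega
  set Z := omegaZ T with hZ
  have hact : ∀ h ∈ N₀, ∀ y ∈ Z, h * y * h⁻¹ ∈ Z := fun h hh y hy =>
    (Subgroup.mem_normalizer_iff.1 (normalizer_le_omegaZ T hh.1) y).1 hy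
  set z₁ := x * z * x⁻¹ with hz₁
  set z₂ := x * z₁ * x⁻¹ with hz₂
  have hz₁Z : z₁ ∈ Z := hact x hxN z hzZ
  have hz₂Z : z₂ ∈ Z := hact x hxN z₁ hz₁Z
  have hfree : ∀ y ∈ Z, y ≠ 1 → x * y * x⁻¹ ≠ y := fun y hy hy1 e =>
    hxT ((C.stab_iff hc hy hy1 hxN.2).1 e)
  have hz₁1 : z₁ ≠ 1 := fun e => hz1 (conj_eq_one_iff.1 e)
  have hz₂1 : z₂ ≠ 1 := fun e => hz₁1 (conj_eq_one_iff.1 e)
  have hxz₂ : x * z₂ * x⁻¹ = z := by
    calc x * z₂ * x⁻¹ = (x * x * x) * z * (x * x * x)⁻¹ := by rw [hz₂, hz₁]; group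
      _ = z := by rw [hx3]; group
  have d01 : z₁ ≠ z := hfree z hzZ hz1
  have d12 : z₂ ≠ z₁ := hfree z₁ hz₁Z hz₁1
  have d20 : z ≠ z₂ := fun e => hfree z₂ hz₂Z hz₂1 (hxz₂.trans e)
  have hcZ : Nat.card Z = 4 := by rw [hZ, ← C.vw.inf_eq, C.vw.card_inf]
  have hall : ∀ y ∈ Z, y = 1 ∨ y = z ∨ y = z₁ ∨ y = z₂ := by
    intro y hy
    by_contra hcon
    push Not at hcon
    obtain ⟨c1, c2, c3, c4⟩ := hcon
    let f : Fin 5 → Z := ![1, ⟨z, hzZ⟩, ⟨z₁, hz₁Z⟩, ⟨z₂, hz₂Z⟩, ⟨y, hy⟩]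
    have hf : Function.Injective f := by
      intro i j e
      fin_cases i <;> fin_cases j <;>
        simp only [f, Fin.isValue, Matrix.cons_val_zero, Matrix.cons_val_one, Matrix.cons_val,
          Subtype.ext_iff, Subgroup.coe_one] at e ⊢ <;>
        first
          | rfl
          | exact absurd e hz1 | exact absurd e.symm hz1 | exact absurd e hz₁1 | exact absurd e.symm hz₁1
          | exact absurd e hz₂1 | exact absurd e.symm hz₂1 | exact absurd e c1 | exact absurd e.symm c1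
          | exact absurd e c2 | exact absurd e.symm c2 | exact absurd e c3 | exact absurd e.symm c3
          | exact absurd e c4 | exact absurd e.symm c4 | exact absurd e d01 | exact absurd e.symm d01
          | exact absurd e d12 | exact absurd e.symm d12 | exact absurd e d20 | exact absurd e.symm d20
    have := Nat.card_le_card_of_injective f hf
    simp at this
    omega
  have hzz₁ : z * z₁ = z₂ := by
    have hi : ∀ {a : G}, a ∈ Z → a⁻¹ = a := fun ha => inv_eq_of_mul_eq_one_right ha.2.1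
    rcases hall _ (Z.mul_mem hzZ hz₁Z) with e | e | e | e
    · exact absurd (by rw [← inv_eq_of_mul_eq_one_right e, hi hzZ]) d01
    · exact absurd (by simpa using e) hz₁1
    · exact absurd (by simpa using e) hz1
    · exact e
  -- `g` inverts `x` modulo `T`
  have hgg : ∀ v ∈ V, g * (g * v * g⁻¹) * g⁻¹ ∈ V := fun v hv => by
    have hgg : g * g ∈ T := by
      by_contra h
      have h1 := hidx g ⟨hgS, hgN⟩ hgT (g * g) (hS₁S (mul_mem hgS hgS)) h
      rw [← mul_assoc, inv_mul_cancel, one_mul] at h1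
      exact hgT h1
    have := (Subgroup.mem_normalizer_iff.1 (C.nV.loc.T_le hgg) v).1 hv
    simpa [mul_assoc] using this
  have hgW : ∀ w ∈ W, g * w * g⁻¹ ∈ V := fun w hw => by
    rw [← hgV, conj_mem_map] at hw
    have h2 := hgg _ hw
    rwa [show g * (g⁻¹ * w * g) * g⁻¹ = w by group] at h2
  have hxg : g * x * g⁻¹ ∈ N₀ := by
    refine ⟨(Subgroup.normalizer (T : Set G)).mul_mem ((Subgroup.normalizer (T : Set G)).mul_mem hgN hxN.1)
      ((Subgroup.normalizer (T : Set G)).inv_mem hgN), Natural.mem_normalizer_of_conj_le fun v hv => ?_⟩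
    have hw : g⁻¹ * v * g ∈ W := by
      have := hgg (g⁻¹ * (g⁻¹ * v * g) * g) ?_
      · have h3 : g * (g⁻¹ * (g⁻¹ * v * g) * g) * g⁻¹ ∈ W := hgV.le ⟨_, ?_, rfl⟩
        · rwa [show g * (g⁻¹ * (g⁻¹ * v * g) * g) * g⁻¹ = g⁻¹ * v * g by group] at h3
        have hgg' : g⁻¹ * g⁻¹ ∈ Subgroup.normalizer (V : Set G) := by
          rw [← mul_inv_rev]
          exact inv_mem (Natural.mem_normalizer_of_conj_le fun r hr => by
            have := hgg r hr
            simpa [mul_assoc] using this)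
        have := (Subgroup.mem_normalizer_iff.1 hgg' v).1 hv
        simpa [mul_assoc] using this
      have hgg' : g⁻¹ * g⁻¹ ∈ Subgroup.normalizer (V : Set G) := by
        rw [← mul_inv_rev]
        exact inv_mem (Natural.mem_normalizer_of_conj_le fun r hr => by
          have := hgg r hr
          simpa [mul_assoc] using this)
      have := (Subgroup.mem_normalizer_iff.1 hgg' v).1 hv
      simpa [mul_assoc] using this
    have := hgW _ ((Subgroup.mem_normalizer_iff.1 (C.inf_le_normalizer hxN) _).1 hw)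
    simpa [mul_assoc] using this
  have htrans : ∀ y ∈ N₀, y ∈ T ∨ x⁻¹ * y ∈ T ∨ x * y ∈ T := by
    intro y hy
    have hst : ∀ h ∈ N₀, h * z * h⁻¹ = z → h ∈ T := fun h hh e => (C.stab_iff hc hzZ hz1 hh.2).1 e
    rcases hall _ (hact y hy z hzZ) with e | e | e | e
    · exact absurd (conj_eq_one_iff.1 e) hz1
    · exact Or.inl (hst y hy e)
    · refine Or.inr (Or.inl (hst _ (N₀.mul_mem (N₀.inv_mem hxN) hy) ?_))
      calc x⁻¹ * y * z * (x⁻¹ * y)⁻¹ = x⁻¹ * (y * z * y⁻¹) * x := by group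
        _ = z := by rw [e, hz₁]; group
    · refine Or.inr (Or.inr (hst _ (N₀.mul_mem hxN hy) ?_))
      calc x * y * z * (x * y)⁻¹ = x * (y * z * y⁻¹) * x⁻¹ := by group
        _ = z := by rw [e, hxz₂]
  have hfpf : SelfThree.Fpf x T := C.nV.fpf_three hc C.nV.loc.T_pGroup hx hxN.1
  have hinv : x * (g * x * g⁻¹) ∈ T := by
    rcases htrans _ hxg with h | h | h
    · exfalso
      have h1 := (Subgroup.mem_normalizer_iff.1 hgN x).2 h
      exact hxT h1
    · exfalso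
      have h1 : x * g * x⁻¹ * g⁻¹ ∈ T := by
        have h2 := (Subgroup.mem_normalizer_iff.1 hxN.1 _).1 (T.inv_mem h)
        simpa [mul_assoc] using h2
      obtain ⟨r, hr, hrc⟩ := CN.exists_lift_commute (N := T) (x := x) (y := g) hxN.1
        (fun r hr hxr => hfpf.fixed r hr hxr) h1
      have hne : r⁻¹ * g ≠ 1 := fun e => hgT ((inv_mul_eq_one.1 e) ▸ hr)
      obtain ⟨k, hk⟩ := order_two_pow S.isPGroup' (mul_mem (inv_mem (hTS hr)) hgS)
      exact hxT (hc.odd_comm hne hk (by rw [hx]; decide) hrc.eq ▸ T.one_mem)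
    · exact h
  have hinv' : g * x * g⁻¹ * x ∈ T := by
    have h2 := (Subgroup.mem_normalizer_iff.1 (inv_mem hxN.1) _).1 hinv
    simpa [mul_assoc] using h2
  obtain ⟨r, hr, hrq⟩ := hfpf.symm.exists_eq hinv'
  rw [inv_inv] at hrq
  set u := r * g with hu
  have huS : u ∈ (S : Subgroup G) := mul_mem (hTS hr) hgS
  have huT : u ∉ T := fun h => hgT ((Subgroup.mul_mem_cancel_left _ hr).1 h)
  have hux : u * x * u⁻¹ = x⁻¹ := by
    calc u * x * u⁻¹ = r * (g * x * g⁻¹ * x) * x⁻¹ * r⁻¹ := by rw [hu]; group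
      _ = x⁻¹ := by rw [hrq]; group
  have huu : u * u = 1 := by
    by_contra hne
    obtain ⟨k, hk⟩ := order_two_pow S.isPGroup' (mul_mem huS huS)
    refine hxT (hc.odd_comm hne hk (by rw [hx]; decide) ?_ ▸ T.one_mem)
    have h1 : u * x⁻¹ * u⁻¹ = x := by
      have := congrArg (·⁻¹) hux
      simpa [mul_assoc] using this
    calc x * (u * u) = (u * x⁻¹ * u⁻¹) * (u * u) := by rw [h1]
      _ = u * (x⁻¹ * u) := by group
      _ = u * (u * x * u⁻¹ * u) := by rw [hux]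
      _ = u * u * x := by group
  have huo : orderOf u = 2 := order_two_of_sq huu fun e => huT (e ▸ T.one_mem)
  have hui : u⁻¹ = u := inv_eq_of_mul_eq_one_right huu
  -- transfer
  obtain ⟨h₀, hh₀⟩ : ∃ h : G, h⁻¹ * u * h ∈ T := by
    by_contra hcon
    push Not at hcon
    obtain ⟨m, hm⟩ : ∃ m, (S : Subgroup G).index = m := ⟨_, rfl⟩
    have hmo : Odd m := Nat.odd_iff.2 (Nat.two_dvd_ne_zero.1 (hm ▸ S.not_dvd_index))
    have hidxT : T.index = 2 ^ (0 + 1) * m := by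
      have h1 := T.card_mul_index
      have h2 := (S : Subgroup G).card_mul_index
      rw [hT] at h1
      rw [hcS, hm] at h2
      norm_num
      omega
    obtain ⟨χ, hχ⟩ := SignThompson.exists_sign_hom T u 0 m (by rw [huo]; norm_num)
      (fun h => by simpa using hcon h) hmo hidxT
    rcases IsSimpleGroup.eq_bot_or_eq_top_of_normal χ.ker χ.normal_ker with e | e
    · have hinj : Function.Injective χ := (MonoidHom.ker_eq_bot_iff χ).1 e
      refine hG.not_two fun a => ⟨1, hinj ?_⟩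
      rw [map_pow, map_one, pow_one, pow_two, Int.units_mul_self]
    · have h1 : χ u = 1 := MonoidHom.mem_ker.1 (e ▸ Subgroup.mem_top u)
      rw [h1] at hχ
      exact absurd hχ (by decide)
  obtain ⟨h, hh⟩ : ∃ h : G, h * z * h⁻¹ = u := by
    set u' := h₀⁻¹ * u * h₀ with hu'
    have hu'2 : u' * u' = 1 := by
      rw [hu', show h₀⁻¹ * u * h₀ * (h₀⁻¹ * u * h₀) = h₀⁻¹ * (u * u) * h₀ by group, huu]; group
    have hu'1 : u' ≠ 1 := fun e => ne_one huo (by
      calc u = h₀ * u' * h₀⁻¹ := by rw [hu']; group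
        _ = 1 := by rw [e]; group)
    have hzV : z ∈ omegaZ V := C.eV ▸ (C.vw.inf_eq ▸ hzZ : z ∈ V ⊓ W).1
    rcases C.vw.invol u' hh₀ hu'2 with h1 | h1
    · obtain ⟨k, -, hk⟩ := C.nV.trans z hzV hz1 u' (C.eV ▸ h1) hu'1
      exact ⟨h₀ * k, by
        calc h₀ * k * z * (h₀ * k)⁻¹ = h₀ * (k * z * k⁻¹) * h₀⁻¹ := by group
          _ = u := by rw [hk, hu']; group⟩
    · rw [← hgV, conj_mem_map] at h1
      obtain ⟨k, -, hk⟩ := C.nV.trans z hzV hz1 _ (C.eV ▸ h1) fun e => hu'1 (by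
        calc u' = g * (g⁻¹ * u' * g) * g⁻¹ := by group
          _ = 1 := by rw [e]; group)
      exact ⟨h₀ * g * k, by
        calc h₀ * g * k * z * (h₀ * g * k)⁻¹ = h₀ * (g * (k * z * k⁻¹) * g⁻¹) * h₀⁻¹ := by group
          _ = u := by rw [hk, hu']; group⟩
  -- `u` moves `z₁`
  have huz : u * z * u = z := by
    rw [mem_Ct.1 (hzc huS), mul_assoc, huu, mul_one]
  have hux' : u * x * u = x⁻¹ := by rwa [hui] at hux
  have huxi : u * x⁻¹ * u = x := by
    rw [← hux', show u * (u * x * u) * u = u * u * x * (u * u) by group, huu, one_mul, mul_one]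
  have huz₁ : u * z₁ * u = z₂ := by
    have e1 : z₂ = x⁻¹ * z * x := by
      calc z₂ = x⁻¹ * (x * z₂ * x⁻¹) * x := by group
        _ = _ := by rw [hxz₂]
    rw [e1]
    calc u * z₁ * u = u * x * z * x⁻¹ * u := by rw [hz₁]; group
      _ = (u * x * u) * (u * z * u) * (u * x⁻¹ * u) := by
          rw [show (u * x * u) * (u * z * u) * (u * x⁻¹ * u) = u * x * (u * u) * z * (u * u) * x⁻¹ * u by group,
            huu, mul_one, mul_one]
      _ = x⁻¹ * z * x := by rw [hux', huz, huxi]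
  have hufix : ∀ y ∈ Z, u * y * u = y → y = 1 ∨ y = z := by
    intro y hy e
    rcases hall y hy with f | f | f | f
    · exact Or.inl f
    · exact Or.inr f
    · subst f; exact absurd (huz₁.symm.trans e) d12
    · subst f
      have : u * z₂ * u = z₁ := by
        rw [← huz₁, show u * (u * z₁ * u) * u = u * u * z₁ * (u * u) by group, huu, one_mul, mul_one]
      exact absurd (e.symm.trans this) d12
  have huV : ∀ v ∈ V, u * v * u ∈ W := fun v hv => by
    have := (hswap u (hS₁S huS) huT).le ⟨v, hv, rfl⟩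
    simpa [hui] using this
  have huW : ∀ w ∈ W, u * w * u ∈ V := fun w hw => by
    have := (hswap u (hS₁S huS) huT).ge hw
    rw [conj_mem_map] at this
    simpa [hui] using this
  have hcomm : ∀ v ∈ V, ∀ s ∈ T, v * s * v⁻¹ * s⁻¹ ∈ Z := fun v hv s hs => by
    rw [hZ, ← C.vw.inf_eq]; exact C.normalizes.1 v hv s hs
  have hZc : ∀ y ∈ Z, ∀ t ∈ T, y * t = t * y := fun y hy t ht => hy.2.2 t ht
  -- lifts of the fixed points modulo `Z`
  have hlift : ∀ v ∈ V, v ∉ Z → ∃ ζ ∈ Z, u * (v * (u * v * u) * ζ) * u = v * (u * v * u) * ζ := by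
    intro v hv hvZ
    set w := u * v * u with hw
    have hwW : w ∈ W := huV v hv
    have huw : u * w * u = v := by
      rw [hw, show u * (u * v * u) * u = u * u * v * (u * u) by group, huu, one_mul, mul_one]
    set c := w⁻¹ * v⁻¹ * w * v with hc'
    have hcZ : c ∈ Z := by
      have h1 := hcomm v⁻¹ (V.inv_mem hv) w (C.vw.W_le hwW)
      rw [inv_inv] at h1
      have h2 := (Subgroup.mem_normalizer_iff.1 (normalizer_le_omegaZ T (Subgroup.le_normalizer
        (T.inv_mem (C.vw.W_le hwW)))) _).1 h1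
      simpa [hc', mul_assoc] using h2
    have hvw : u * (v * w) * u = v * w * c := by
      calc u * (v * w) * u = (u * v * u) * (u * w * u) := by
            rw [show (u * v * u) * (u * w * u) = u * v * (u * u) * w * u by group, huu, mul_one]; group
        _ = w * v := by rw [← hw, huw]
        _ = v * w * c := by rw [hc']; group
    have huc : u * c * u = c := by
      have hvi : v⁻¹ = v := inv_eq_of_mul_eq_one_right (C.vw.elem_V.1 v hv)
      have hwi : w⁻¹ = w := inv_eq_of_mul_eq_one_right (C.vw.elem_W.1 w hwW)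
      have e1 : u * c * u = v * w * v * w := by
        rw [hc', hvi, hwi]
        calc u * (w * v * w * v) * u = (u * w * u) * (u * v * u) * (u * w * u) * (u * v * u) := by
              rw [show (u * w * u) * (u * v * u) * (u * w * u) * (u * v * u) =
                u * w * (u * u) * v * (u * u) * w * (u * u) * v * u by group, huu]; group
          _ = v * w * v * w := by rw [huw, ← hw]
      have e2 : v * w * v * w = c⁻¹ := by
        rw [hc']; simp only [mul_inv_rev, inv_inv, hvi, hwi, mul_assoc]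
      rw [e1, e2, inv_eq_of_mul_eq_one_right hcZ.2.1]
    rcases hufix c hcZ huc with e | e
    · exact ⟨1, Z.one_mem, by rw [mul_one, hvw, e, mul_one]⟩
    · refine ⟨z₁, hz₁Z, ?_⟩
      calc u * (v * w * z₁) * u = (u * (v * w) * u) * (u * z₁ * u) := by
            rw [show (u * (v * w) * u) * (u * z₁ * u) = u * (v * w) * (u * u) * z₁ * u by group, huu,
              mul_one]; group
        _ = v * w * (z * z₂) := by rw [hvw, huz₁, e]; group
        _ = v * w * z₁ := by rw [← hzz₁, ← mul_assoc z z, mul_self hz, one_mul]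
  have hnot : ∀ v ∈ V, v ∉ Z → ∀ ζ ∈ Z, v * (u * v * u) * ζ ∉ V ∧ v * (u * v * u) * ζ ∉ W := by
    intro v hv hvZ ζ hζ
    have hζ' : ζ ∈ V ⊓ W := C.vw.inf_eq ▸ hζ
    have key : u * v * u ∉ V := fun h => hvZ (by
      have h1 : u * v * u ∈ V ⊓ W := ⟨h, huV v hv⟩
      rw [hZ, ← C.vw.inf_eq]
      refine ⟨hv, ?_⟩
      have h2 := huV _ h1.1
      rwa [show u * (u * v * u) * u = u * u * v * (u * u) by group, huu, one_mul, mul_one] at h2)
    refine ⟨fun h => key ?_, fun h => key ?_⟩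
    · exact (Subgroup.mul_mem_cancel_left V hv).1 ((Subgroup.mul_mem_cancel_right V hζ'.1).1 h)
    · have h1 := (Subgroup.mul_mem_cancel_right W hζ'.2).1 h
      have hvW := (Subgroup.mul_mem_cancel_right W (huV v hv)).1 h1
      exact absurd (by rw [hZ, ← C.vw.inf_eq]; exact ⟨hv, hvW⟩) hvZ
  obtain ⟨v₁, hv₁, hv₁Z⟩ : ∃ v ∈ V, v ∉ Z := by
    by_contra hcon
    push Not at hcon
    have := Subgroup.card_le_of_le (show V ≤ Z from hcon)
    rw [C.vw.card_V, hcZ] at this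
    omega
  obtain ⟨v₂, hv₂, hv₂Z, hv₁₂⟩ : ∃ v ∈ V, v ∉ Z ∧ v₁ * v ∉ Z := by
    by_contra hcon
    push Not at hcon
    let f : V → Z ⊕ Z := fun v => if hv : (v : G) ∈ Z then Sum.inl ⟨v, hv⟩ else
      Sum.inr ⟨v₁ * v, hcon v v.2 hv⟩
    have hf : Function.Injective f := fun a b e => by
      simp only [f] at e
      split_ifs at e <;>
        simp only [Sum.inl.injEq, Sum.inr.injEq, reduceCtorEq, Subtype.mk.injEq, mul_right_inj] at e <;>
        exact Subtype.ext e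
    have := Nat.card_le_card_of_injective f hf
    rw [Nat.card_sum, C.vw.card_V, hcZ] at this
    omega
  obtain ⟨ζ₁, hζ₁, hf₁⟩ := hlift v₁ hv₁ hv₁Z
  obtain ⟨ζ₂, hζ₂, hf₂⟩ := hlift v₂ hv₂ hv₂Z
  set a₁ := v₁ * (u * v₁ * u) * ζ₁ with ha₁
  set a₂ := v₂ * (u * v₂ * u) * ζ₂ with ha₂
  have hmemT : ∀ v ∈ V, ∀ ζ ∈ Z, v * (u * v * u) * ζ ∈ T := fun v hv ζ hζ =>
    T.mul_mem (T.mul_mem (C.vw.V_le hv) (C.vw.W_le (huV v hv))) hζ.1
  have ha₁T : a₁ ∈ T := hmemT v₁ hv₁ ζ₁ hζ₁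
  have ha₂T : a₂ ∈ T := hmemT v₂ hv₂ ζ₂ hζ₂
  have ha₁₂ : a₁ * a₂ ∉ V ∧ a₁ * a₂ ∉ W := by
    set w₁ := u * v₁ * u with hw₁
    set w₂ := u * v₂ * u with hw₂
    have hw₁T : w₁ ∈ T := C.vw.W_le (huV v₁ hv₁)
    set c := v₂⁻¹ * w₁ * v₂ * w₁⁻¹ with hc'
    have hcZ : c ∈ Z := by
      have := hcomm v₂⁻¹ (V.inv_mem hv₂) w₁ hw₁T
      rwa [inv_inv] at this
    have e : a₁ * a₂ = v₁ * v₂ * (u * (v₁ * v₂) * u) * (c * ζ₁ * ζ₂) := by
      have h1 : a₁ * a₂ = v₁ * w₁ * v₂ * w₂ * (ζ₁ * ζ₂) := by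
        calc a₁ * a₂ = v₁ * w₁ * (ζ₁ * (v₂ * w₂)) * ζ₂ := by rw [ha₁, ha₂]; group
          _ = v₁ * w₁ * (v₂ * w₂ * ζ₁) * ζ₂ := by
              rw [hZc ζ₁ hζ₁ _ (T.mul_mem (C.vw.V_le hv₂) (C.vw.W_le (huV v₂ hv₂)))]
          _ = _ := by group
      have h2 : u * (v₁ * v₂) * u = w₁ * w₂ := by
        rw [hw₁, hw₂, show u * v₁ * u * (u * v₂ * u) = u * v₁ * (u * u) * v₂ * u by group, huu]
        group
      rw [h1, h2]
      calc v₁ * w₁ * v₂ * w₂ * (ζ₁ * ζ₂) = v₁ * v₂ * (c * (w₁ * w₂)) * (ζ₁ * ζ₂) := by rw [hc']; group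
        _ = v₁ * v₂ * (w₁ * w₂ * c) * (ζ₁ * ζ₂) := by
            rw [hZc c hcZ _ (T.mul_mem hw₁T (C.vw.W_le (huV v₂ hv₂)))]
        _ = _ := by group
    rw [e]
    exact hnot _ (V.mul_mem hv₁ hv₂) hv₁₂ _ (Z.mul_mem (Z.mul_mem hcZ hζ₁) hζ₂)
  have hsq : ∀ a ∈ T, u * a * u = a → a ∉ V → a ∉ W → a * a = z := by
    intro a ha hua haV haW
    have h1 : a * a ∈ Z := by rw [hZ, ← C.vw.inf_eq]; exact C.normalizes.2 a ha
    have h2 : u * (a * a) * u = a * a := by
      calc u * (a * a) * u = (u * a * u) * (u * a * u) := by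
            rw [show (u * a * u) * (u * a * u) = u * a * (u * u) * a * u by group, huu]; group
        _ = a * a := by rw [hua]
    rcases hufix _ h1 h2 with e | e
    · exact absurd (C.vw.invol a ha e) (by rintro (h | h); exacts [haV h, haW h])
    · exact e
  have hCu : ∀ a, u * a * u = a → h⁻¹ * a * h ∈ (S : Subgroup G) := by
    intro a hua
    rw [← hCtz, mem_Ct]
    have h1 : a * u = u * a := by
      calc a * u = u * a * u * u := by rw [hua]
        _ = u * a := by rw [mul_assoc (u * a), huu, mul_one]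
    have h2 : h⁻¹ * u * h = z := by rw [← hh]; group
    rw [← h2]
    calc h⁻¹ * a * h * (h⁻¹ * u * h) = h⁻¹ * (a * u) * h := by group
      _ = h⁻¹ * u * h * (h⁻¹ * a * h) := by rw [h1]; group
  obtain ⟨a, ha, haT, haz⟩ : ∃ a, a ∈ T ∧ h⁻¹ * a * h ∈ T ∧ a * a = z := by
    have hu12 : u * (a₁ * a₂) * u = a₁ * a₂ := by
      calc u * (a₁ * a₂) * u = (u * a₁ * u) * (u * a₂ * u) := by
            rw [show (u * a₁ * u) * (u * a₂ * u) = u * a₁ * (u * u) * a₂ * u by group, huu]; group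
        _ = _ := by rw [hf₁, hf₂]
    by_cases h₁ : h⁻¹ * a₁ * h ∈ T
    · exact ⟨a₁, ha₁T, h₁, hsq _ ha₁T hf₁ (hnot v₁ hv₁ hv₁Z ζ₁ hζ₁).1 (hnot v₁ hv₁ hv₁Z ζ₁ hζ₁).2⟩
    by_cases h₂ : h⁻¹ * a₂ * h ∈ T
    · exact ⟨a₂, ha₂T, h₂, hsq _ ha₂T hf₂ (hnot v₂ hv₂ hv₂Z ζ₂ hζ₂).1 (hnot v₂ hv₂ hv₂Z ζ₂ hζ₂).2⟩
    refine ⟨a₁ * a₂, T.mul_mem ha₁T ha₂T, ?_, hsq _ (T.mul_mem ha₁T ha₂T) hu12 ha₁₂.1 ha₁₂.2⟩
    have h3 : (h⁻¹ * a₁ * h)⁻¹ ∉ T := fun e => h₁ (inv_inv (h⁻¹ * a₁ * h) ▸ T.inv_mem e)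
    have := hidx _ (hS₁S (inv_mem (hCu a₁ hf₁))) h3 _ (hS₁S (hCu a₂ hf₂)) h₂
    rw [inv_inv] at this
    simpa [mul_assoc] using this
  -- the conjugate of `T` containing `u` lies in `S`
  have hzh : h⁻¹ * z * h ∈ Z := by
    rw [← haz, show h⁻¹ * (a * a) * h = h⁻¹ * a * h * (h⁻¹ * a * h) by group, hZ, ← C.vw.inf_eq]
    exact C.normalizes.2 _ haT
  have hThS : ∀ t ∈ T, h * t * h⁻¹ ∈ (S : Subgroup G) := by
    intro t ht
    rw [← hCtz, mem_Ct]
    calc h * t * h⁻¹ * z = h * (t * (h⁻¹ * z * h)) * h⁻¹ := by group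
      _ = z * (h * t * h⁻¹) := by rw [← hzh.2.2 t ht]; group
  have hmap : ∀ {A : Subgroup G}, Elem A → A ≤ T → Nat.card A = 4 * 4 →
      A.map (MulAut.conj h).toMonoidHom ≤ T := fun {A} hA hAT hcard =>
    helem (hA.map_conj h) (by rintro _ ⟨t, ht, rfl⟩; exact hS₁S (hThS t (hAT ht)))
      (by rw [Subgroup.card_map_of_injective (MulEquiv.injective _), hcard])
  have hle : T.map (MulAut.conj h).toMonoidHom ≤ T := by
    conv_lhs => rw [← C.vw.sup_eq]
    rw [Subgroup.map_sup]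
    exact sup_le (hmap C.vw.elem_V C.vw.V_le C.vw.card_V) (hmap C.vw.elem_W C.vw.W_le C.vw.card_W)
  exact huT (hh ▸ hle ⟨z, hzT, rfl⟩)

end Cfsg.Agent.CNSimple
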