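import Cfsg.Agent.Lib.CNSimple.Pairs

/-!
# The quotient of a natural local by its module: an involution pair with product of order three
-/

set_option autoImplicit false
set_option linter.style.haveILetI false
set_option linter.unusedSectionVars false

namespace Cfsg.Agent.CNSimple

open Cfsg.Agent.Invol

universe u

theorem suzuki_three {G : Type u} [Group G] (h : Cfsg.IsSuzuki G) : ¬ 3 ∣ Nat.card G := by
  obtain ⟨-, m, -, hm⟩ := h
  have h2 : 2 ^ (2 * m + 1) % 3 = 2 := by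
    rw [pow_succ, pow_mul, Nat.mul_mod, Nat.pow_mod]; norm_num
  rw [hm, Nat.dvd_iff_mod_eq_zero]
  generalize 2 ^ (2 * m + 1) = q at h2 ⊢
  have h1 : (q - 1) % 3 = 1 := by omega
  rw [Nat.mul_mod, Nat.mul_mod (q ^ 2), Nat.add_mod, Nat.pow_mod, h2, h1]
  norm_num

/-- In `PSL(2, 2^n)` two involutions have product of order three. -/
theorem psl_pair {F : Type} [Field F] [Fintype F] {n : ℕ} (hF : Fintype.card F = 2 ^ n) :
    ∃ a b : Matrix.ProjectiveSpecialLinearGroup (Fin 2) F,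
      a * a = 1 ∧ b * b = 1 ∧ (a * b) ^ 3 = 1 ∧ a * b ≠ 1 := by
  have h2 : (2 : F) = 0 := by
    obtain ⟨p, hp⟩ := CharP.exists F
    obtain ⟨k, hpp, hk⟩ := FiniteField.card F p
    rw [hF] at hk
    have : p = 2 := (Nat.prime_dvd_prime_iff_eq hpp Nat.prime_two).1
      (hpp.dvd_of_dvd_pow (hk ▸ dvd_pow_self p k.ne_zero))
    subst this
    exact_mod_cast CharP.cast_eq_zero F 2
  set A : Matrix.SpecialLinearGroup (Fin 2) F := ⟨!![1, 1; 0, 1], by simp [Matrix.det_fin_two]⟩ with hA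
  set B : Matrix.SpecialLinearGroup (Fin 2) F := ⟨!![1, 0; 1, 1], by simp [Matrix.det_fin_two]⟩ with hB
  have h11 : (1 : F) + 1 = 0 := by rw [one_add_one_eq_two, h2]
  have eA : A * A = 1 := by
    refine Subtype.ext ?_
    rw [Matrix.SpecialLinearGroup.coe_mul]
    ext i j; fin_cases i <;> fin_cases j <;> simp [hA, Matrix.mul_apply, h11]
  have eB : B * B = 1 := by
    refine Subtype.ext ?_
    rw [Matrix.SpecialLinearGroup.coe_mul]
    ext i j; fin_cases i <;> fin_cases j <;> simp [hB, Matrix.mul_apply, h11]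
  have eAB : (A * B) ^ 3 = 1 := by
    refine Subtype.ext ?_
    rw [Matrix.SpecialLinearGroup.coe_pow, Matrix.SpecialLinearGroup.coe_mul, pow_three]
    ext i j; fin_cases i <;> fin_cases j <;> simp [hA, hB, Matrix.mul_apply, h11]
  refine ⟨(A : Matrix.ProjectiveSpecialLinearGroup (Fin 2) F), (B : Matrix.ProjectiveSpecialLinearGroup (Fin 2) F),
    ?_, ?_, ?_, fun e => ?_⟩
  · rw [← QuotientGroup.mk_mul, eA, QuotientGroup.mk_one]
  · rw [← QuotientGroup.mk_mul, eB, QuotientGroup.mk_one]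
  · rw [← QuotientGroup.mk_mul, ← QuotientGroup.mk_pow, eAB, QuotientGroup.mk_one]
  · rw [← QuotientGroup.mk_mul, QuotientGroup.eq_one_iff] at e
    have h := congrArg Subtype.val (Subgroup.mem_center_iff.1 e A)
    simp only [Matrix.SpecialLinearGroup.coe_mul] at h
    have := congrFun (congrFun h 0) 0
    simp [hA, hB, Matrix.SpecialLinearGroup.coe_mul, Matrix.mul_apply, h11] at this

namespace TIHyp

variable {G : Type u} [Group G] [Finite G] {K : Subgroup G} (h : TIHyp K)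
include h

theorem exists_three_pair [IsSimpleGroup G] (h3 : 3 ∣ Nat.card G) :
    ∃ a b : G, a * a = 1 ∧ b * b = 1 ∧ (a * b) ^ 3 = 1 ∧ a * b ≠ 1 := by
  rcases h.main with ⟨F, _, _, n, hF, ⟨e⟩⟩ | hs
  · obtain ⟨a, b, ha, hb, hab, hne⟩ := psl_pair hF
    refine ⟨e.symm a, e.symm b, by rw [← map_mul, ha, map_one], by rw [← map_mul, hb, map_one],
      by rw [← map_mul, ← map_pow, hab, map_one], fun e1 => hne ?_⟩
    exact e.symm.injective (by rw [map_mul, e1, map_one])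
  · exact absurd h3 (suzuki_three hs)

end TIHyp

namespace Natural

variable {G : Type u} [Group G] [Finite G] {L T X : Subgroup G} {q : ℕ} (n : Natural L T X q)
include n

/-- The whole normaliser of the module again acts naturally. -/
theorem extend (hX : X = omegaZ X)
    (hmax : ∀ R : Subgroup G, R ≤ Subgroup.normalizer (X : Set G) → IsPGroup 2 R → T ≤ R → R = T) :
    Natural (Subgroup.normalizer (X : Set G)) T X q := by
  have hTN : T ≤ Subgroup.normalizer (X : Set G) := n.loc.T_le.trans n.loc.X_norm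
  obtain ⟨X', hX', hXX'⟩ := Loc.exists_loc n.loc.T_pGroup hTN hmax n.loc.X_pGroup Subgroup.le_normalizer
    n.loc.X_ne le_rfl
  have e : X' = X := le_antisymm
    (n.loc.X_max X' (hX'.X_le.trans n.loc.T_le) hX'.X_pGroup (n.loc.X_norm.trans hX'.X_norm)) hXX'
  subst e
  refine ⟨hX', n.two_le, n.card_V, n.relIndex, n.card_Z, fun a ha ha1 b hb hb1 => ?_, ?_⟩
  · obtain ⟨g, hg, e⟩ := n.trans a ha ha1 b hb hb1
    exact ⟨g, n.loc.X_norm hg, e⟩
  · obtain ⟨y, hy, hy3⟩ := n.three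
    exact ⟨y, n.loc.X_norm hy, hy3⟩

/-- The data of the quotient: `v` an involution modulo `X` inverting the torus, `w` in `T` with `w v`
of order three. -/
theorem frame [IsSimpleGroup G] (hc : CIT G) (ih : IHyp G) (hL : Nat.card L < Nat.card G)
    (hX : X = omegaZ X) (h4 : 4 ≤ q) (htwo : ∀ s ∈ T, s * s ∈ X)
    (hcomm : ∀ s ∈ T, ∀ t ∈ T, s * t * s⁻¹ * t⁻¹ ∈ X) :
    ∃ v w : G, v ∈ L ∧ w ∈ T ∧ v ∉ Subgroup.normalizer (T : Set G) ∧ v * v ∈ X ∧ (w * v) ^ 3 ∈ X ∧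
      w * v ∉ X ∧
      (∀ g ∈ L, g ∈ Subgroup.normalizer (T : Set G) → ∃ d t : G, g = d * t ∧ d ∈ L ∧
        d ∈ Subgroup.normalizer (T : Set G) ∧ t ∈ T ∧ v * d * v⁻¹ * d ∈ X) ∧
      (∀ s ∈ T, s ∉ X → ∃ g ∈ L, g ∈ Subgroup.normalizer (T : Set G) ∧ g * w * g⁻¹ * s⁻¹ ∈ X) ∧
      (∀ g ∈ L, g ∈ Subgroup.normalizer (T : Set G) → ∀ k ∈ L, k ∈ Subgroup.normalizer (T : Set G) →
        g * k * g⁻¹ * k⁻¹ ∈ T) := by
  classical
  haveI : Fact (Nat.Prime 2) := ⟨Nat.prime_two⟩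
  haveI hn : (X.subgroupOf L).Normal := n.loc.isO2.normal
  set π := QuotientGroup.mk' (X.subgroupOf L) with hπ
  have hπ1 : ∀ g : L, π g = 1 ↔ (g : G) ∈ X := fun g =>
    (QuotientGroup.eq_one_iff g).trans Subgroup.mem_subgroupOf
  have hcQ : CIT (L ⧸ X.subgroupOf L) := n.loc.isO2.quotient_cit (hc.subgroup L)
  set Tb := (T.subgroupOf L).map π with hTb
  have hmemTb : ∀ t : L, π t ∈ Tb ↔ (t : G) ∈ T := by
    intro t
    constructor
    · rintro ⟨s, hs, e⟩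
      have h1 := (hπ1 (t⁻¹ * s)).1 (by rw [map_mul, map_inv, e, inv_mul_cancel])
      have h2 := T.mul_mem (Subgroup.mem_subgroupOf.1 hs) (T.inv_mem (n.loc.X_le h1))
      push_cast at h2
      simpa [mul_assoc] using h2
    · exact fun h => ⟨t, Subgroup.mem_subgroupOf.2 h, rfl⟩
  have hTbp : IsPGroup 2 Tb := (n.loc.T_pGroup.comap_subtype).map _
  have helT : ∀ x ∈ Tb, x * x = 1 := by
    rintro _ ⟨s, hs, rfl⟩
    rw [← map_mul]
    exact (hπ1 _).2 (htwo s (Subgroup.mem_subgroupOf.1 hs))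
  have habT : ∀ x ∈ Tb, ∀ y ∈ Tb, x * y = y * x := by
    rintro _ ⟨s, hs, rfl⟩ _ ⟨t, ht, rfl⟩
    refine mul_inv_eq_one.1 ?_
    rw [← map_mul, ← map_mul, ← map_inv, ← map_mul]
    refine (hπ1 _).2 ?_
    push_cast
    rw [mul_inv_rev, ← mul_assoc]
    exact hcomm s (Subgroup.mem_subgroupOf.1 hs) t (Subgroup.mem_subgroupOf.1 ht)
  -- two different involutions in the image of `T`
  let f : T ⧸ X.subgroupOf T → Tb := fun c =>
    ⟨π ⟨(c.out : T), n.loc.T_le (c.out : T).2⟩, (hmemTb _).2 (c.out : T).2⟩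
  have hf : Function.Injective f := fun c d e => by
    have e' := congrArg Subtype.val e
    rw [← QuotientGroup.out_eq' c, ← QuotientGroup.out_eq' d, QuotientGroup.eq, Subgroup.mem_subgroupOf]
    exact (hπ1 (⟨(c.out : T), n.loc.T_le (c.out : T).2⟩⁻¹ * ⟨(d.out : T), n.loc.T_le (d.out : T).2⟩)).1
      (by rw [map_mul, map_inv]; exact inv_mul_eq_one.2 e')
  have hcardTb : 4 ≤ Nat.card Tb := by
    refine le_trans ?_ (Nat.card_le_card_of_injective f hf)
    show 4 ≤ (X.subgroupOf T).index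
    rw [show (X.subgroupOf T).index = q from n.relIndex]; exact h4
  obtain ⟨c, hcT, hc1⟩ : ∃ c ∈ Tb, c ≠ 1 := by
    by_contra hcon
    push Not at hcon
    have := Finite.card_le_one_iff_subsingleton.2
      (⟨fun a b => Subtype.ext ((hcon a a.2).trans (hcon b b.2).symm)⟩ : Subsingleton Tb)
    omega
  have hco : orderOf c = 2 := order_two_of_sq (helT c hcT) hc1
  rcases n.loc.quot_cases hc ih hL with hone | ⟨hsimple, K₀, hK₀⟩
  · exfalso
    have hle : Nat.card Tb ≤ 2 := by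
      let g : Tb → Bool := fun x => decide ((x : L ⧸ X.subgroupOf L) = 1)
      have hg : Function.Injective g := by
        intro x y e
        simp only [g, decide_eq_decide] at e
        refine Subtype.ext ?_
        by_cases hx : (x : L ⧸ X.subgroupOf L) = 1
        · rw [hx, e.1 hx]
        · exact hone _ _ (order_two_of_sq (helT x x.2) hx)
            (order_two_of_sq (helT y y.2) fun h1 => hx (e.2 h1)) (habT x x.2 y y.2)
      have := Nat.card_le_card_of_injective g hg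
      rwa [Nat.card_eq_fintype_card (α := Bool), Fintype.card_bool] at this
    omega
  haveI := hsimple
  have hTbK : Tb ≤ Ct c := fun t ht => mem_Ct.2 (habT t ht c hcT)
  have hKTb : Tb = Ct c := by
    refine le_antisymm hTbK fun x hx => ?_
    obtain ⟨t, rfl⟩ := QuotientGroup.mk'_surjective _ x
    refine (hmemTb t).2 ?_
    set P := ((Ct c).comap π).map L.subtype with hP
    have hPp : IsPGroup 2 P := ((hcQ c hco).comap_of_ker_isPGroup π (by
      rw [hπ, QuotientGroup.ker_mk']; exact n.loc.X_pGroup.comap_subtype)).map _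
    rw [← n.loc.T_max P (Subgroup.map_subtype_le _) hPp
      (fun s hs => ⟨⟨s, n.loc.T_le hs⟩, hTbK ((hmemTb _).2 hs), rfl⟩)]
    exact ⟨t, hx, rfl⟩
  have hK : TIHyp Tb := hKTb ▸ hK₀.of_invol hco
  have h3 : 3 ∣ Nat.card (L ⧸ X.subgroupOf L) := by
    obtain ⟨y, hy, hy3⟩ := n.three
    have hne : π ⟨y, hy⟩ ≠ 1 := fun e => by
      obtain ⟨k, hk⟩ := order_two_pow n.loc.X_pGroup ((hπ1 _).1 e)
      rw [hy3] at hk
      have := (Nat.prime_dvd_prime_iff_eq Nat.prime_three Nat.prime_two).1 (Nat.prime_three.dvd_of_dvd_pow hk.dvd)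
      omega
    haveI := Fact.mk Nat.prime_three
    have ho : orderOf (π ⟨y, hy⟩) = 3 := orderOf_eq_prime
      (by rw [← map_pow, show (⟨y, hy⟩ : L) ^ 3 = 1 from Subtype.ext (hy3 ▸ pow_orderOf_eq_one y), map_one]) hne
    exact ho ▸ orderOf_dvd_natCard _
  obtain ⟨a₀, b₀, ha0, hb0, hab0, hne0⟩ := hK.exists_three_pair h3
  have hpow : ∀ {x : L ⧸ X.subgroupOf L}, x * x = 1 → x ^ 3 = 1 → x = 1 := fun {x} h1 h2 => by
    rw [pow_three, h1, mul_one] at h2; exact h2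
  have ha1 : a₀ ≠ 1 := fun e => hne0 (by
    rw [e, one_mul] at hab0 ⊢; exact hpow hb0 hab0)
  have hb1 : b₀ ≠ 1 := fun e => hne0 (by
    rw [e, mul_one] at hab0 ⊢; exact hpow ha0 hab0)
  -- conjugate the pair
  obtain ⟨r, hr⟩ := isConj_iff.1 (hK.isConj (order_two_of_sq ha0 ha1) hco)
  set a := r * a₀ * r⁻¹ with ha_def
  set b := r * b₀ * r⁻¹ with hb_def
  have haT : a ∈ Tb := by rw [hr]; exact hcT
  have hb2 : orderOf b = 2 := (order_conj r b₀).trans (order_two_of_sq hb0 hb1)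
  have hab : (a * b) ^ 3 = 1 ∧ a * b ≠ 1 := by
    rw [show a * b = r * (a₀ * b₀) * r⁻¹ by rw [ha_def, hb_def]; group]
    refine ⟨by rw [_root_.conj_pow, hab0]; group, fun e => hne0 (conj_eq_one_iff.1 e)⟩
  have habT1 : b ∉ Tb := fun hbT => hab.2 (hpow (helT _ (Tb.mul_mem haT hbT)) hab.1)
  have hbN : b ∉ hK.N := fun e => habT1 (hK.invol_mem hb2 e)
  obtain ⟨v, hv⟩ := QuotientGroup.mk'_surjective _ b
  obtain ⟨w, hw⟩ := QuotientGroup.mk'_surjective _ a
  change π v = b at hv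
  change π w = a at hw
  have hwT : (w : G) ∈ T := (hmemTb w).1 (hw ▸ haT)
  have hNiff : ∀ g : L, π g ∈ hK.N ↔ (g : G) ∈ Subgroup.normalizer (T : Set G) := by
    intro g
    constructor
    · intro hg
      refine Natural.mem_normalizer_of_conj_le fun t ht => ?_
      refine (hmemTb (g * ⟨t, n.loc.T_le ht⟩ * g⁻¹)).1 ?_
      rw [map_mul, map_mul, map_inv]
      exact hK.conj_K hg ((hmemTb _).2 ht)
    · intro hg
      refine Natural.mem_normalizer_of_conj_le fun x hx => ?_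
      obtain ⟨t, rfl⟩ := QuotientGroup.mk'_surjective _ x
      rw [← map_inv, ← map_mul, ← map_mul]
      exact (hmemTb _).2 ((Subgroup.mem_normalizer_iff.1 hg _).1 ((hmemTb t).1 hx))
  refine ⟨v, w, v.2, hwT, fun e => hbN (hv ▸ (hNiff v).2 e), ?_, ?_, ?_, ?_, ?_, ?_⟩
  · exact (hπ1 (v * v)).1 (by rw [map_mul, hv]; exact mul_self hb2)
  · exact (hπ1 ((w * v) ^ 3)).1 (by rw [map_pow, map_mul, hw, hv, hab.1])
  · exact fun e => hab.2 (by rw [← hw, ← hv, ← map_mul]; exact (hπ1 (w * v)).2 e)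
  · intro g hg hgT
    obtain ⟨k, hk, d, hd, e⟩ := hK.N_eq_KD hb2 hbN ((hNiff ⟨g, hg⟩).2 hgT)
    obtain ⟨d', hd'⟩ := QuotientGroup.mk'_surjective _ d
    change π d' = d at hd'
    refine ⟨d', (d' : G)⁻¹ * g, by group, d'.2, (hNiff d').1 (hd' ▸ hd.1), ?_, ?_⟩
    · refine (hmemTb (d'⁻¹ * ⟨g, hg⟩)).1 ?_
      rw [map_mul, map_inv, hd', e, inv_mul_cancel_left]
      exact hk
    · refine (hπ1 (v * d' * v⁻¹ * d')).1 ?_
      rw [map_mul, map_mul, map_mul, map_inv, hv, hd', inv_eq_of_mul_eq_one_right (mul_self hb2),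
        hK.invert hb2 hbN hd, inv_mul_cancel]
  · intro s hs hsX
    set sb := π ⟨s, n.loc.T_le hs⟩ with hsb
    have hs1 : sb ≠ 1 := fun e => hsX ((hπ1 _).1 e)
    have hsT : sb ∈ Tb := (hmemTb _).2 hs
    have ha1' : a ≠ 1 := fun e => ha1 (conj_eq_one_iff.1 e)
    obtain ⟨k, hk⟩ := isConj_iff.1
      (hK.isConj (order_two_of_sq (helT a haT) ha1') (order_two_of_sq (helT sb hsT) hs1))
    have hkN : k ∈ hK.N := hK.mem_N_of_meet haT ha1' (hk.symm ▸ hsT)
    obtain ⟨g, rfl⟩ := QuotientGroup.mk'_surjective _ k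
    refine ⟨g, g.2, (hNiff g).1 hkN, (hπ1 (g * w * g⁻¹ * ⟨s, n.loc.T_le hs⟩⁻¹)).1 ?_⟩
    rw [map_mul, map_mul, map_mul, map_inv, map_inv, hw, ← hsb, ← hk, mul_inv_cancel]
  · intro g hg hgT k hk hkT
    obtain ⟨k₁, hk₁, d₁, hd₁, e₁⟩ := hK.N_eq_KD hb2 hbN ((hNiff ⟨g, hg⟩).2 hgT)
    obtain ⟨k₂, hk₂, d₂, hd₂, e₂⟩ := hK.N_eq_KD hb2 hbN ((hNiff ⟨k, hk⟩).2 hkT)
    refine (hmemTb (⟨g, hg⟩ * ⟨k, hk⟩ * ⟨g, hg⟩⁻¹ * ⟨k, hk⟩⁻¹)).1 ?_
    rw [map_mul, map_mul, map_mul, map_inv, map_inv, e₁, e₂]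
    haveI : (Tb.subgroupOf hK.N).Normal := Subgroup.normal_in_normalizer
    let m := QuotientGroup.mk' (Tb.subgroupOf hK.N)
    have hm : ∀ x : hK.N, m x = 1 ↔ (x : L ⧸ X.subgroupOf L) ∈ Tb := fun x =>
      (QuotientGroup.eq_one_iff x).trans Subgroup.mem_subgroupOf
    let D₁ : hK.N := ⟨d₁, hd₁.1⟩
    let D₂ : hK.N := ⟨d₂, hd₂.1⟩
    let K₁ : hK.N := ⟨k₁, hK.K_le_N hk₁⟩
    let K₂ : hK.N := ⟨k₂, hK.K_le_N hk₂⟩
    refine (hm (D₁ * K₁ * (D₂ * K₂) * (D₁ * K₁)⁻¹ * (D₂ * K₂)⁻¹)).1 ?_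
    have hcd : D₁ * D₂ = D₂ * D₁ := Subtype.ext (hK.comm_D hb2 hbN hd₁ hd₂)
    simp only [map_mul, map_inv, (hm K₁).2 hk₁, (hm K₂).2 hk₂, mul_one]
    rw [← map_mul, hcd, map_mul, mul_inv_cancel_right, mul_inv_cancel]

end Natural

end Cfsg.Agent.CNSimple
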