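import Mathlib.Data.Nat.GCD.Basic
import Mathlib.Tactic

/-!
# The arithmetic of the configuration: 315 involutions
-/

set_option autoImplicit false
set_option maxRecDepth 4000

namespace Cfsg.Agent.CNSimple.L34Arith

/-- The candidate for the largest centraliser is excluded or gives 315. -/
def bad (q a wa b wb w : ℕ) : Bool :=
  let d := 64 / w
  let ca := 64 / wa * (a - 1)
  let cb := 64 / wb * (b - 1)
  let den := q - d
  let num := 123 + ca + cb - d
  let K := num / den
  let cK := d * (K - 1)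
  q ≤ d || num % den != 0 || (K - 1) % w != 0 || (K * q) % 15 != 0 || Nat.gcd K (a * b) != 1 ||
    !(decide (cK * a * b + ca * K * b + cb * K * a < 51 * (K * a * b))) || K * q == 315

/-- The table. -/
def check : Bool :=
  (List.range 93).all fun q => q % 2 == 0 ||
    ((List.range (q + 1)).filter fun a => q % a == 0 && a != 0).all fun a =>
      ((List.range (q + 1)).filter fun b => q % b == 0 && b != 0).all fun b =>
        Nat.gcd a b != 1 || [2, 4, 8].all fun wa => (a - 1) % wa != 0 ||
          [2, 4, 8].all fun wb => (b - 1) % wb != 0 ||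
            [2, 4, 8].all fun w => bad q a wa b wb w

theorem check_true : check = true := by decide +kernel

theorem mem_W {w : ℕ} (h : w = 2 ∨ w = 4 ∨ w = 8) : w ∈ [2, 4, 8] := by
  rcases h with rfl | rfl | rfl <;> simp

theorem solve {q K wK a wa b wb : ℕ} (hq : q < 93) (hqodd : Odd q) (hK : 3 ≤ K)
    (hwK : wK = 2 ∨ wK = 4 ∨ wK = 8) (hwa : wa = 2 ∨ wa = 4 ∨ wa = 8)
    (hwb : wb = 2 ∨ wb = 4 ∨ wb = 8) (hdK : wK ∣ K - 1) (hda : wa ∣ a - 1) (hdb : wb ∣ b - 1)
    (ha : a ∣ q) (hb : b ∣ q) (hab : Nat.Coprime a b) (hK' : Nat.Coprime K (a * b))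
    (h15 : 15 ∣ K * q)
    (heq : 64 / wK * (K - 1) + 64 / wa * (a - 1) + 64 / wb * (b - 1) + 123 = K * q)
    (hlt : 64 / wK * (K - 1) * a * b + 64 / wa * (a - 1) * K * b + 64 / wb * (b - 1) * K * a <
      51 * (K * a * b)) :
    K * q = 315 := by
  have hq0 : 0 < q := hqodd.pos
  have ha' : a ≤ q := Nat.le_of_dvd hq0 ha
  have hb' : b ≤ q := Nat.le_of_dvd hq0 hb
  have ha0 : a ≠ 0 := fun e => by rw [e, zero_dvd_iff] at ha; omega
  have hb0 : b ≠ 0 := fun e => by rw [e, zero_dvd_iff] at hb; omega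
  have h := check_true
  simp only [check, List.all_eq_true, List.mem_range, Bool.or_eq_true, List.mem_filter,
    Bool.and_eq_true, beq_iff_eq, bne_iff_ne] at h
  have h1 := (h q hq).resolve_left (by rw [Nat.odd_iff] at hqodd; omega)
  have h2 := (h1 a ⟨by omega, Nat.mod_eq_zero_of_dvd ha, ha0⟩ b
    ⟨by omega, Nat.mod_eq_zero_of_dvd hb, hb0⟩).resolve_left (not_not.2 hab)
  have h3 := (h2 wa (mem_W hwa)).resolve_left (not_not.2 (Nat.mod_eq_zero_of_dvd hda))
  have h4 := (h3 wb (mem_W hwb)).resolve_left (not_not.2 (Nat.mod_eq_zero_of_dvd hdb)) wK (mem_W hwK)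
  generalize hd : 64 / wK = d at heq hlt
  generalize hca : 64 / wa * (a - 1) = ca at heq hlt
  generalize hcb : 64 / wb * (b - 1) = cb at heq hlt
  have hd32 : d ≤ 32 := by rcases hwK with rfl | rfl | rfl <;> norm_num at hd <;> omega
  have hdq : d < q := by
    by_contra hn
    push Not at hn
    have h1 : K * q ≤ K * d := Nat.mul_le_mul_left K hn
    have h2 : d * (K - 1) + d = K * d := by
      rw [← Nat.mul_succ, mul_comm]; congr 1; omega
    omega
  have hnum : 123 + ca + cb - d = K * (q - d) := by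
    have h2 : d * (K - 1) + d = K * d := by
      rw [← Nat.mul_succ, mul_comm]; congr 1; omega
    rw [Nat.mul_sub]
    omega
  simp only [bad, hd, hca, hcb, hnum, Nat.mul_div_cancel _ (Nat.sub_pos_of_lt hdq), Nat.mul_mod_left,
    Bool.or_eq_true, bne_iff_ne, beq_iff_eq, decide_eq_true_eq, Bool.not_eq_true',
    decide_eq_false_iff_not] at h4
  rcases h4 with (((((h5 | h5) | h5) | h5) | h5) | h5) | h5
  · omega
  · simp at h5
  · exact absurd (Nat.mod_eq_zero_of_dvd hdK) h5
  · exact absurd (Nat.mod_eq_zero_of_dvd h15) h5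
  · exact absurd hK' h5
  · exact absurd hlt h5
  · exact h5

end Cfsg.Agent.CNSimple.L34Arith
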