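import Cfsg.Agent.Lib.CNSimple.Defs
import Cfsg.Agent.Lib.Small.CommFixed
import Cfsg.Agent.Lib.Involutions.StronglyEmbedded

/-!
# The configuration of two elementary subgroups of order 16: points, lines and incidence
-/

set_option autoImplicit false
set_option linter.style.haveILetI false
set_option linter.unusedSectionVars false

namespace Cfsg.Agent.CNSimple.L34

universe u

variable {G : Type u} [Group G] [Finite G]

/-- The conjugate `g A g⁻¹`. -/
abbrev cj (g : G) (A : Subgroup G) : Subgroup G := A.map (MulAut.conj g).toMonoidHom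

theorem mem_cj {g x : G} {A : Subgroup G} : x ∈ cj g A ↔ g⁻¹ * x * g ∈ A := Invol.mem_conj_map

theorem conj_mem_cj {g x : G} {A : Subgroup G} (hx : x ∈ A) : g * x * g⁻¹ ∈ cj g A := ⟨x, hx, rfl⟩

theorem cj_cj (g h : G) (A : Subgroup G) : cj g (cj h A) = cj (g * h) A := by
  ext x
  simp only [mem_cj, mul_inv_rev, mul_assoc]

theorem cj_one (A : Subgroup G) : cj 1 A = A := by ext x; simp [mem_cj]

theorem card_cj (g : G) (A : Subgroup G) : Nat.card (cj g A) = Nat.card A :=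
  Subgroup.card_map_of_injective (MulAut.conj g).injective

theorem cj_mono {g : G} {A B : Subgroup G} (h : A ≤ B) : cj g A ≤ cj g B := Subgroup.map_mono h

theorem cj_inf (g : G) (A B : Subgroup G) : cj g (A ⊓ B) = cj g A ⊓ cj g B :=
  Subgroup.map_inf A B _ (MulAut.conj g).injective

theorem cj_eq_self {g : G} {A : Subgroup G} :
    cj g A = A ↔ g ∈ Subgroup.normalizer (A : Set G) :=
  Subgroup.mem_normalizer_iff_map_conj_eq.symm

theorem cj_eq_cj {g h : G} {A : Subgroup G} :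
    cj g A = cj h A ↔ h⁻¹ * g ∈ Subgroup.normalizer (A : Set G) := by
  constructor
  · intro e
    rw [← cj_eq_self, ← cj_cj, e, cj_cj, inv_mul_cancel, cj_one]
  · intro e
    conv_rhs => rw [← cj_eq_self.2 e]
    rw [cj_cj, mul_inv_cancel_left]

theorem centralizer_conj (g z : G) :
    Subgroup.centralizer ({g * z * g⁻¹} : Set G) = cj g (Subgroup.centralizer ({z} : Set G)) := by
  ext x
  simp only [mem_cj, Subgroup.mem_centralizer_singleton_iff]
  constructor
  · intro h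
    calc g⁻¹ * x * g * z = g⁻¹ * (x * (g * z * g⁻¹)) * g := by group
      _ = g⁻¹ * (g * z * g⁻¹ * x) * g := by rw [h]
      _ = z * (g⁻¹ * x * g) := by group
  · intro h
    calc x * (g * z * g⁻¹) = g * (g⁻¹ * x * g * z) * g⁻¹ := by group
      _ = g * (z * (g⁻¹ * x * g)) * g⁻¹ := by rw [h]
      _ = g * z * g⁻¹ * x := by group

theorem le_or_le {H A B : Subgroup G} (h : ∀ x ∈ H, x ∈ A ∨ x ∈ B) : H ≤ A ∨ H ≤ B := by
  by_contra hcon
  rw [not_or, SetLike.not_le_iff_exists, SetLike.not_le_iff_exists] at hcon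
  obtain ⟨⟨a, ha, haA⟩, b, hb, hbB⟩ := hcon
  rcases h (a * b) (mul_mem ha hb) with h1 | h1
  · have hbA : b ∈ A := (h b hb).resolve_right hbB
    exact haA (by simpa using mul_mem h1 (inv_mem hbA))
  · have haB : a ∈ B := (h a ha).resolve_left haA
    exact hbB (by simpa using mul_mem (inv_mem haB) h1)

theorem ne_one_of_order {t : G} (h : orderOf t = 2) : t ≠ 1 := by
  rintro rfl
  rw [orderOf_one] at h
  omega

theorem order_conj (g t : G) : orderOf (g * t * g⁻¹) = orderOf t := (MulAut.conj g).orderOf_eq t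

section

variable {S : Sylow 2 G} {V W : Subgroup G} (h : L34Hyp S V W)
include h

theorem symm : L34Hyp S W V :=
  { h with
    card_V := h.card_W
    card_W := h.card_V
    elem_V := h.elem_W
    elem_W := h.elem_V
    V_le := h.W_le
    W_le := h.V_le
    card_inf := by rw [inf_comm]; exact h.card_inf
    invol := fun t ht ho => (h.invol t ht ho).symm
    cent_inf := fun z hz => h.cent_inf z (by rwa [inf_comm])
    NS_le_V := h.NS_le_W
    NS_le_W := h.NS_le_V
    card_NV := h.card_NW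
    card_NW := h.card_NV
    trans_V := h.trans_W
    trans_W := h.trans_V }

theorem orderOf_two {a : G} (ha : a ∈ V) (ha1 : a ≠ 1) : orderOf a = 2 :=
  orderOf_eq_prime (by rw [pow_two]; exact h.elem_V.1 a ha) ha1

theorem S_le_NV : (S : Subgroup G) ≤ Subgroup.normalizer (V : Set G) :=
  Subgroup.le_normalizer.trans h.NS_le_V

theorem V_le_NW : V ≤ Subgroup.normalizer (W : Set G) :=
  h.V_le.trans (S_le_NV (symm h))

theorem exists_z : ∃ z ∈ V ⊓ W, orderOf z = 2 := by
  haveI : Fact (Nat.Prime 2) := ⟨Nat.prime_two⟩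
  obtain ⟨z, hz⟩ := exists_prime_orderOf_dvd_card' (G := (V ⊓ W : Subgroup G)) 2
    (by rw [h.card_inf]; norm_num)
  exact ⟨z, z.2, by rw [Subgroup.orderOf_coe, hz]⟩

theorem le_S {A : Subgroup G} (hA : IsPGroup 2 A) (hn : A ≤ Subgroup.normalizer ((S : Subgroup G) : Set G)) :
    A ≤ (S : Subgroup G) := by
  have e : A ⊔ (S : Subgroup G) = (S : Subgroup G) :=
    S.is_maximal' (hA.to_sup_of_normal_right' S.isPGroup' hn) le_sup_right
  exact e ▸ le_sup_left

theorem invol_mem_S {a : G} (ha : orderOf a = 2)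
    (hn : a ∈ Subgroup.normalizer ((S : Subgroup G) : Set G)) : a ∈ (S : Subgroup G) :=
  le_S h (IsPGroup.of_card (n := 1) (by rw [Nat.card_zpowers, ha, pow_one]))
    (Subgroup.zpowers_le.2 hn) (Subgroup.mem_zpowers a)

theorem exists_conj {t z : G} (hz : z ∈ V ⊓ W) (hzo : orderOf z = 2) (ht : orderOf t = 2) :
    ∃ g : G, g * z * g⁻¹ = t := by
  haveI : Fact (Nat.Prime 2) := ⟨Nat.prime_two⟩
  obtain ⟨T, hT⟩ := (IsPGroup.of_card (n := 1) (by rw [Nat.card_zpowers, ht, pow_one]) :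
    IsPGroup 2 (Subgroup.zpowers t)).exists_le_sylow
  obtain ⟨g, hg⟩ := MulAction.exists_smul_eq G T S
  have ht' : g * t * g⁻¹ ∈ (S : Subgroup G) := by
    rw [← hg, Sylow.coe_subgroup_smul]
    exact ⟨t, hT (Subgroup.mem_zpowers t), rfl⟩
  have hto : orderOf (g * t * g⁻¹) = 2 := by rw [order_conj, ht]
  obtain ⟨hzV, hzW⟩ := Subgroup.mem_inf.1 hz
  have hz1 : z ≠ 1 := ne_one_of_order hzo
  have ht1 : g * t * g⁻¹ ≠ 1 := ne_one_of_order hto
  rcases h.invol _ ht' hto with h1 | h1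
  · obtain ⟨n, -, hn⟩ := h.trans_V z hzV hz1 _ h1 ht1
    exact ⟨g⁻¹ * n, by
      rw [mul_inv_rev, inv_inv, show g⁻¹ * n * z * (n⁻¹ * g) = g⁻¹ * (n * z * n⁻¹) * g by group, hn]
      group⟩
  · obtain ⟨n, -, hn⟩ := h.trans_W z hzW hz1 _ h1 ht1
    exact ⟨g⁻¹ * n, by
      rw [mul_inv_rev, inv_inv, show g⁻¹ * n * z * (n⁻¹ * g) = g⁻¹ * (n * z * n⁻¹) * g by group, hn]
      group⟩

theorem not_conj (g : G) : cj g V ≠ W := by
  intro e
  haveI : Fact (Nat.Prime 2) := ⟨Nat.prime_two⟩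
  set N := Subgroup.normalizer (W : Set G) with hN
  have hSN : (S : Subgroup G) ≤ N := S_le_NV (symm h)
  have hS'N : ((g • S : Sylow 2 G) : Subgroup G) ≤ N := by
    rw [Sylow.coe_subgroup_smul]
    rintro _ ⟨s, hs, rfl⟩
    rw [hN, ← cj_eq_self]
    have hV : cj s V = V := cj_eq_self.2 (S_le_NV h hs)
    show cj (g * s * g⁻¹) W = W
    calc cj (g * s * g⁻¹) W = cj (g * s * g⁻¹) (cj g V) := by rw [e]
      _ = cj g (cj s V) := by rw [cj_cj, cj_cj, inv_mul_cancel_right]
      _ = W := by rw [hV, e]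
  obtain ⟨n, hn⟩ := MulAction.exists_smul_eq N ((g • S : Sylow 2 G).subtype hS'N) (S.subtype hSN)
  simp_rw [Sylow.smul_subtype, Subgroup.smul_def, smul_smul] at hn
  have hnS : ((n : G) * g) ∈ Subgroup.normalizer ((S : Subgroup G) : Set G) := by
    exact Sylow.smul_eq_iff_mem_normalizer.1 (Sylow.subtype_injective hn)
  have h1 := cj_eq_self.2 (h.NS_le_V hnS)
  rw [← cj_cj, e, cj_eq_self.2 n.2] at h1
  have := h.card_inf
  rw [← h1, inf_idem, h.card_W] at this
  omega

theorem eq_V {g z : G} (hz : z ∈ V ⊓ W) (hz1 : z ≠ 1) (hg : z ∈ cj g V) : cj g V = V := by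
  have hle : cj g V ≤ (S : Subgroup G) := by
    rw [← h.cent_inf z hz hz1]
    intro x hx
    rw [Subgroup.mem_centralizer_singleton_iff]
    obtain ⟨a, ha, rfl⟩ := hx
    obtain ⟨b, hb, rfl⟩ := hg
    simp only [MulEquiv.coe_toMonoidHom, MulAut.conj_apply]
    rw [show g * a * g⁻¹ * (g * b * g⁻¹) = g * (a * b) * g⁻¹ by group, h.elem_V.2 a ha b hb]
    group
  have hor : ∀ x ∈ cj g V, x ∈ V ∨ x ∈ W := by
    intro x hx
    by_cases hx1 : x = 1
    · exact Or.inl (hx1 ▸ one_mem V)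
    refine h.invol x (hle hx) ?_
    obtain ⟨a, ha, rfl⟩ := hx
    show orderOf (g * a * g⁻¹) = 2
    rw [order_conj]
    refine orderOf_two h ha fun e => hx1 ?_
    simp [e]
  rcases le_or_le hor with h1 | h1
  · exact Subgroup.eq_of_le_of_card_ge h1 (by rw [card_cj])
  · exact absurd (Subgroup.eq_of_le_of_card_ge h1 (by rw [card_cj, h.card_V, h.card_W])) (not_conj h g)

/-- An involution lies in one conjugate of `V`. -/
theorem unique {g g' t : G} (ht : t ≠ 1) (h1 : t ∈ cj g V) (h2 : t ∈ cj g' V) : cj g V = cj g' V := by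
  obtain ⟨z, hz, hzo⟩ := exists_z h
  have hto : orderOf t = 2 := by
    obtain ⟨a, ha, rfl⟩ := h1
    show orderOf (g * a * g⁻¹) = 2
    rw [order_conj]
    exact orderOf_two h ha fun e => ht (by simp [e])
  obtain ⟨k, hk⟩ := exists_conj h hz hzo hto
  have key : ∀ g : G, t ∈ cj g V → cj g V = cj k V := by
    intro g hg
    have hz' : z ∈ cj (k⁻¹ * g) V := by
      rw [mem_cj] at hg ⊢
      rw [show (k⁻¹ * g)⁻¹ * z * (k⁻¹ * g) = g⁻¹ * (k * z * k⁻¹) * g by group, hk]
      exact hg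
    have := eq_V h hz (ne_one_of_order hzo) hz'
    calc cj g V = cj k (cj (k⁻¹ * g) V) := by rw [cj_cj, mul_inv_cancel_left]
      _ = cj k V := by rw [this]
  rw [key g h1, key g' h2]

theorem exists_mem {t : G} (ht : orderOf t = 2) : ∃ g : G, t ∈ cj g V := by
  obtain ⟨z, hz, hzo⟩ := exists_z h
  obtain ⟨k, hk⟩ := exists_conj h hz hzo ht
  exact ⟨k, hk ▸ conj_mem_cj (Subgroup.mem_inf.1 hz).1⟩

/-- Incidence. -/
def Inc (A B : Subgroup G) : Prop := ∃ a : G, a ≠ 1 ∧ a ∈ A ∧ a ∈ B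

omit h in
theorem inc_cj {A B : Subgroup G} (g : G) (hI : Inc A B) : Inc (cj g A) (cj g B) := by
  obtain ⟨a, h1, h2, h3⟩ := hI
  exact ⟨g * a * g⁻¹, fun e => h1 (conj_eq_one_iff.1 e), conj_mem_cj h2, conj_mem_cj h3⟩

theorem inc_base : Inc V W := by
  obtain ⟨z, hz, hzo⟩ := exists_z h
  exact ⟨z, ne_one_of_order hzo, (Subgroup.mem_inf.1 hz).1, (Subgroup.mem_inf.1 hz).2⟩

/-- A line on `V` is the image of `W` under the normaliser of `V`. -/
theorem inc_norm {k : G} (hI : Inc V (cj k W)) :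
    ∃ n ∈ Subgroup.normalizer (V : Set G), cj k W = cj n W := by
  obtain ⟨a, ha1, haV, haW⟩ := hI
  obtain ⟨z, hz, hzo⟩ := exists_z h
  obtain ⟨n, hn, hna⟩ := h.trans_V z (Subgroup.mem_inf.1 hz).1 (ne_one_of_order hzo) a haV ha1
  exact ⟨n, hn, unique (symm h) ha1 haW (hna ▸ conj_mem_cj (Subgroup.mem_inf.1 hz).2)⟩

theorem card_inf_line {k : G} (hI : Inc V (cj k W)) : Nat.card (V ⊓ cj k W : Subgroup G) = 4 := by
  obtain ⟨n, hn, e⟩ := inc_norm h hI
  rw [e, ← h.card_inf, ← card_cj n (V ⊓ W), cj_inf, cj_eq_self.2 hn]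

theorem sup_eq_S : V ⊔ W = (S : Subgroup G) := by
  have hVW : V ⊔ W ≤ (S : Subgroup G) := sup_le h.V_le h.W_le
  refine Subgroup.eq_of_le_of_card_ge hVW ?_
  have hle : Nat.card V * Nat.card W ≤ Nat.card (V ⊔ W : Subgroup G) * Nat.card (V ⊓ W : Subgroup G) := by
    have h1 := Subgroup.relIndex_le_of_le_right (H := W) (le_sup_left : V ≤ V ⊔ W)
      Subgroup.index_ne_zero_of_finite
    have h2 := (W.subgroupOf (V ⊔ W)).card_mul_index
    rw [Nat.card_congr (Subgroup.subgroupOfEquivOfLe le_sup_right).toEquiv] at h2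
    have h3 := (W.subgroupOf V).card_mul_index
    rw [← Subgroup.inf_subgroupOf_left, Nat.card_congr (Subgroup.subgroupOfEquivOfLe inf_le_left).toEquiv,
      Subgroup.inf_subgroupOf_left] at h3
    calc Nat.card V * Nat.card W
        = Nat.card (V ⊓ W : Subgroup G) * (W.subgroupOf V).index * Nat.card W := by rw [h3]
      _ ≤ Nat.card (V ⊓ W : Subgroup G) * (W.subgroupOf (V ⊔ W)).index * Nat.card W :=
          Nat.mul_le_mul_right _ (Nat.mul_le_mul_left _ h1)
      _ = _ := by rw [← h2]; ring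
  rw [h.card_V, h.card_W, h.card_inf] at hle
  rw [h.card_S]; omega

/-- The stabiliser of a point of `W` in `V`. -/
theorem stab_mem {g a : G} (haV : a ∈ V) (hne : cj g V ≠ V) (hI : Inc (cj g V) W)
    (hfix : cj a (cj g V) = cj g V) : a ∈ W := by
  by_cases ha1 : a = 1
  · exact ha1 ▸ one_mem W
  obtain ⟨k, hk, hgk⟩ : ∃ k ∈ Subgroup.normalizer (W : Set G), cj g V = cj k V := by
    obtain ⟨b, hb1, hbV, hbW⟩ := hI
    exact inc_norm (symm h) ⟨b, hb1, hbW, hbV⟩
  set a' := k⁻¹ * a * k with ha'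
  have haW' : a' ∈ Subgroup.normalizer (W : Set G) :=
    mul_mem (mul_mem (inv_mem hk) (V_le_NW h haV)) hk
  have haV' : a' ∈ Subgroup.normalizer (V : Set G) := by
    rw [hgk] at hfix
    rw [← cj_eq_self, ha', ← cj_cj, ← cj_cj, hfix, cj_cj, inv_mul_cancel, cj_one]
  have hN : a' ∈ Subgroup.normalizer ((S : Subgroup G) : Set G) := by
    rw [← cj_eq_self]
    have hSeq : V ⊔ W = (S : Subgroup G) := sup_eq_S h
    rw [← hSeq]
    show cj a' (V ⊔ W) = V ⊔ W
    rw [cj, Subgroup.map_sup]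
    exact congrArg₂ (· ⊔ ·) (cj_eq_self.2 haV') (cj_eq_self.2 haW')
  have hao : orderOf a' = 2 := by
    rw [ha', show k⁻¹ * a * k = k⁻¹ * a * k⁻¹⁻¹ by group, order_conj]
    exact orderOf_two h haV ha1
  rcases h.invol a' (invol_mem_S h hao hN) hao with h1 | h1
  · exfalso
    refine hne ?_
    rw [hgk]
    refine (unique h ha1 (g := k) (g' := 1) ?_ (by rw [cj_one]; exact haV)).trans (cj_one V)
    rw [mem_cj]
    exact h1
  · rw [← cj_eq_self.2 hk, mem_cj]
    exact h1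

end

end Cfsg.Agent.CNSimple.L34
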