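import Cfsg.Agent.Lib.CNSimple.L34Real
import Cfsg.Agent.Lib.CNSimple.L34Arith
import Mathlib.Algebra.BigOperators.Group.Finset.Basic

/-!
# The group order is 20160
-/

set_option autoImplicit false
set_option linter.style.haveILetI false
set_option linter.unusedSectionVars false

namespace Cfsg.Agent.CNSimple.L34

open Finset

universe u

variable {G : Type u} [Group G] [Finite G] {S : Sylow 2 G} {V W : Subgroup G} (h : L34Hyp S V W)
include h

/-- The data of the centralisers of one order. -/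
theorem class_data {y₀ : G} (hy₀ : y₀ ∈ Yset G) :
    ∃ w : ℕ, (w = 2 ∨ w = 4 ∨ w = 8) ∧ w ∣ kf y₀ - 1 ∧
      {y ∈ Yset G | kf y = kf y₀}.ncard * kf y₀ = 64 / w * (kf y₀ - 1) * (IV G).ncard := by
  obtain ⟨w, hw, hd, hN⟩ := normalizer_card h hy₀
  refine ⟨w, hw, hd, ?_⟩
  rw [ncard_class h hy₀]
  have e := (Subgroup.normalizer (C0 y₀ : Set G)).index_mul_card
  rw [hN, card_group h] at e
  set a := (Subgroup.normalizer (C0 y₀ : Set G)).index with ha
  have hak : a * kf y₀ = 64 / w * (IV G).ncard := by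
    have e' : a * kf y₀ * w = (IV G).ncard * 64 := by rw [← e, mul_assoc]
    rcases hw with rfl | rfl | rfl <;> norm_num <;> omega
  calc a * (kf y₀ - 1) * kf y₀ = a * kf y₀ * (kf y₀ - 1) := by ring
    _ = 64 / w * (IV G).ncard * (kf y₀ - 1) := by rw [hak]
    _ = 64 / w * (kf y₀ - 1) * (IV G).ncard := by ring

theorem one_lt_kf {y : G} (hy : y ∈ Yset G) : 3 ≤ kf y := by
  haveI : Nontrivial (C0 y) := ⟨⟨⟨y, self_mem_C0 y⟩, 1, fun e => hy.1 (congrArg Subtype.val e)⟩⟩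
  have h1 : 1 < kf y := Finite.one_lt_card
  obtain ⟨j, hj⟩ := odd_kf h hy
  omega

theorem kf_coprime {y y' : G} (hy : y ∈ Yset G) (hy' : y' ∈ Yset G) (hne : kf y ≠ kf y') :
    (kf y).Coprime (kf y') := by
  refine Nat.coprime_of_dvd fun p hp h1 h2 => hne ?_
  obtain ⟨g, hg⟩ := conj_of_common h hy hy' hp h1 h2
  show Nat.card (C0 y) = Nat.card (C0 y')
  rw [hg, card_cj]

omit h in
theorem three_odd {a b c : ℕ} (ha : 3 ≤ a) (hb : 3 ≤ b) (hc : 3 ≤ c) (oa : Odd a) (ob : Odd b)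
    (oc : Odd c) (hab : a ≠ b) (hac : a ≠ c) (hbc : b ≠ c) : 105 ≤ a * b * c := by
  obtain ⟨i, rfl⟩ := oa
  obtain ⟨j, rfl⟩ := ob
  obtain ⟨k, rfl⟩ := oc
  by_cases h1 : 3 ≤ i
  · have : 15 ≤ (2 * j + 1) * (2 * k + 1) := by
      rcases (show 2 ≤ j ∨ 2 ≤ k by omega) with h2 | h2 <;> nlinarith
    nlinarith
  by_cases h2 : 3 ≤ j
  · have : 15 ≤ (2 * i + 1) * (2 * k + 1) := by
      rcases (show 2 ≤ i ∨ 2 ≤ k by omega) with h3 | h3 <;> nlinarith
    nlinarith
  have h3 : 3 ≤ k := by omega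
  have : 15 ≤ (2 * i + 1) * (2 * j + 1) := by
    rcases (show 2 ≤ i ∨ 2 ≤ j by omega) with h4 | h4 <;> nlinarith
  nlinarith

open Classical in
theorem invol_eq : (IV G).ncard = 315 := by
  haveI : Fintype G := Fintype.ofFinite G
  obtain ⟨m, hm⟩ : ∃ m, (IV G).ncard = m := ⟨_, rfl⟩
  obtain ⟨Y, hY⟩ : ∃ Y : Finset G, ∀ y, y ∈ Y ↔ y ∈ Yset G :=
    ⟨univ.filter (· ∈ Yset G), fun y => by simp⟩
  obtain ⟨z, -, hzo⟩ := exists_z h
  have hm123 : 123 ≤ m := by have := ncard_Tz h hzo; omega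
  have hmodd : Odd m := hm ▸ odd_invol_count h
  have h15 : 15 ∣ m := hm ▸ fifteen_dvd h
  have hpairs : ∑ y ∈ Y, kf y = m * (m - 123) := by
    rw [← hm, ← card_pairs h, Nat.card_sigma, Finset.sum_congr rfl fun (y : ↥(Yset G)) _ => card_Ifib h y.2]
    exact Finset.sum_subtype Y hY kf
  have hlt : Y.card < 51 * m := by
    rw [← hm, ← Set.ncard_coe_finset]
    exact ncard_odd_lt h fun y hy => ⟨((hY y).1 hy).1, ((hY y).1 hy).2.1⟩
  set D := Y.image kf with hD
  have hdata : ∀ k ∈ D, ∃ w : ℕ, (w = 2 ∨ w = 4 ∨ w = 8) ∧ w ∣ k - 1 ∧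
      (Y.filter fun y => kf y = k).card * k = 64 / w * (k - 1) * m := by
    intro k hk
    obtain ⟨y₀, hy₀, rfl⟩ := Finset.mem_image.1 hk
    obtain ⟨w, hw, hd, he⟩ := class_data h ((hY y₀).1 hy₀)
    refine ⟨w, hw, hd, ?_⟩
    rw [← hm, ← he, ← Set.ncard_coe_finset]
    congr 2
    ext y
    simp [hY]
  choose! w hw hwd hwe using hdata
  let c : ℕ → ℕ := fun k => 64 / w k * (k - 1)
  let n : ℕ → ℕ := fun k => (Y.filter fun y => kf y = k).card
  have hn : ∀ k ∈ D, n k * k = c k * m := hwe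
  have hmaps : Set.MapsTo kf Y D := fun y hy => Finset.mem_image_of_mem kf hy
  have hsum : (∑ k ∈ D, c k) + 123 = m := by
    have h1 : (∑ k ∈ D, c k) * m = (m - 123) * m := by
      rw [Finset.sum_mul, Finset.sum_congr rfl fun k hk => (hn k hk).symm, mul_comm _ m, ← hpairs,
        ← Finset.sum_fiberwise_of_maps_to hmaps]
      refine Finset.sum_congr rfl fun k _ => ?_
      rw [Finset.sum_congr rfl fun y hy => (Finset.mem_filter.1 hy).2, Finset.sum_const, smul_eq_mul]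
    have := Nat.eq_of_mul_eq_mul_right (by omega) h1
    omega
  have hcard : ∑ k ∈ D, n k = Y.card := (Finset.card_eq_sum_card_fiberwise hmaps).symm
  have hprop : ∀ k ∈ D, 3 ≤ k ∧ Odd k ∧ k ∣ m := by
    intro k hk
    obtain ⟨y, hy, rfl⟩ := Finset.mem_image.1 hk
    exact ⟨one_lt_kf h ((hY y).1 hy), odd_kf h ((hY y).1 hy), hm ▸ dvd_invol h ((hY y).1 hy)⟩
  have hcop : ∀ k ∈ D, ∀ k' ∈ D, k ≠ k' → k.Coprime k' := by
    intro k hk k' hk' hne
    obtain ⟨y, hy, rfl⟩ := Finset.mem_image.1 hk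
    obtain ⟨y', hy', rfl⟩ := Finset.mem_image.1 hk'
    exact kf_coprime h ((hY y).1 hy) ((hY y').1 hy') hne
  have hne : D.Nonempty := by
    rw [Finset.nonempty_iff_ne_empty]
    intro e
    rw [e, Finset.sum_empty] at hsum
    omega
  obtain ⟨K, hKD, hKmax⟩ : ∃ K ∈ D, ∀ k ∈ D, k ≤ K :=
    ⟨D.max' hne, D.max'_mem hne, fun k hk => D.le_max' k hk⟩
  obtain ⟨hK3, hKodd, hKm⟩ := hprop K hKD
  obtain ⟨q, hq⟩ := hKm
  have hqodd : Odd q := hmodd.of_dvd_nat ⟨K, by rw [hq, mul_comm]⟩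
  have hq93 : q < 93 := by
    by_contra hcon
    have h1 : m * (m - 123) ≤ Y.card * K := by
      rw [← hpairs]
      exact (Finset.sum_le_card_nsmul Y kf K fun y hy => hKmax _ (Finset.mem_image_of_mem kf hy))
    have h2 : m * (m - 123) < m * (51 * K) := lt_of_le_of_lt h1 (by
      calc Y.card * K < 51 * m * K := Nat.mul_lt_mul_of_pos_right hlt (by omega)
        _ = m * (51 * K) := by ring)
    have h3 := Nat.lt_of_mul_lt_mul_left h2
    have h4 : K * 93 ≤ m := hq ▸ Nat.mul_le_mul_left K (by omega)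
    omega
  have hdvd : ∀ k ∈ D.erase K, k ∣ q := fun k hk => by
    have hk' := Finset.mem_erase.1 hk
    refine (hcop k hk'.2 K hKD hk'.1).dvd_of_dvd_mul_left ?_
    rw [← hq]; exact (hprop k hk'.2).2.2
  have hrest : (D.erase K).card ≤ 2 := by
    by_contra hcon
    obtain ⟨T, hT, hT3⟩ := Finset.exists_subset_card_eq (s := D.erase K) (n := 3) (by omega)
    obtain ⟨a, b, e, hab, hae, hbe, rfl⟩ := Finset.card_eq_three.1 hT3
    have ha := hT (by simp : a ∈ ({a, b, e} : Finset ℕ))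
    have hb := hT (by simp : b ∈ ({a, b, e} : Finset ℕ))
    have he := hT (by simp : e ∈ ({a, b, e} : Finset ℕ))
    have pa := hprop a (Finset.mem_erase.1 ha).2
    have pb := hprop b (Finset.mem_erase.1 hb).2
    have pe := hprop e (Finset.mem_erase.1 he).2
    have h1 : a * b * e ∣ q := by
      refine Nat.Coprime.mul_dvd_of_dvd_of_dvd (Nat.Coprime.mul_left ?_ ?_)
        (Nat.Coprime.mul_dvd_of_dvd_of_dvd ?_ (hdvd a ha) (hdvd b hb)) (hdvd e he)
      · exact hcop a (Finset.mem_erase.1 ha).2 e (Finset.mem_erase.1 he).2 hae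
      · exact hcop b (Finset.mem_erase.1 hb).2 e (Finset.mem_erase.1 he).2 hbe
      · exact hcop a (Finset.mem_erase.1 ha).2 b (Finset.mem_erase.1 hb).2 hab
    have h2 := Nat.le_of_dvd hqodd.pos h1
    have h3 := three_odd pa.1 pb.1 pe.1 pa.2.1 pb.2.1 pe.2.1 hab hae hbe
    omega
  have hsplit : ∃ a wa na b wb nb : ℕ, (wa = 2 ∨ wa = 4 ∨ wa = 8) ∧ (wb = 2 ∨ wb = 4 ∨ wb = 8) ∧
      wa ∣ a - 1 ∧ wb ∣ b - 1 ∧ a ∣ q ∧ b ∣ q ∧ a.Coprime b ∧ K.Coprime (a * b) ∧
      na * a = 64 / wa * (a - 1) * m ∧ nb * b = 64 / wb * (b - 1) * m ∧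
      (∑ k ∈ D.erase K, c k) = 64 / wa * (a - 1) + 64 / wb * (b - 1) ∧
      (∑ k ∈ D.erase K, n k) = na + nb := by
    rcases (show (D.erase K).card = 0 ∨ (D.erase K).card = 1 ∨ (D.erase K).card = 2 by omega) with
      h0 | h1 | h2
    · rw [Finset.card_eq_zero] at h0
      refine ⟨1, 2, 0, 1, 2, 0, Or.inl rfl, Or.inl rfl, by simp, by simp, one_dvd _, one_dvd _,
        Nat.coprime_one_left _, by simp, by simp, by simp, ?_, ?_⟩ <;> simp [h0]
    · obtain ⟨a, ha⟩ := Finset.card_eq_one.1 h1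
      have haR : a ∈ D.erase K := by rw [ha]; simp
      obtain ⟨haK, haD⟩ := Finset.mem_erase.1 haR
      refine ⟨a, w a, n a, 1, 2, 0, hw a haD, Or.inl rfl, hwd a haD, by simp, hdvd a haR, one_dvd _,
        Nat.coprime_one_right _, by rw [mul_one]; exact hcop K hKD a haD (Ne.symm haK), hn a haD,
        by simp, ?_, ?_⟩ <;> simp [ha, c]
    · obtain ⟨a, b, hab, hab'⟩ := Finset.card_eq_two.1 h2
      have haR : a ∈ D.erase K := by rw [hab']; simp
      have hbR : b ∈ D.erase K := by rw [hab']; simp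
      obtain ⟨haK, haD⟩ := Finset.mem_erase.1 haR
      obtain ⟨hbK, hbD⟩ := Finset.mem_erase.1 hbR
      refine ⟨a, w a, n a, b, w b, n b, hw a haD, hw b hbD, hwd a haD, hwd b hbD, hdvd a haR,
        hdvd b hbR, hcop a haD b hbD hab,
        Nat.Coprime.mul_right (hcop K hKD a haD (Ne.symm haK)) (hcop K hKD b hbD (Ne.symm hbK)),
        hn a haD, hn b hbD, ?_, ?_⟩ <;> rw [hab', Finset.sum_pair hab]
  obtain ⟨a, wa, na, b, wb, nb, hwa, hwb, hda, hdb, ha, hb, hab, hKab, hna, hnb, hca, hcn⟩ := hsplit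
  have ha0 : 0 < a := Nat.pos_of_dvd_of_pos ha hqodd.pos
  have hb0 : 0 < b := Nat.pos_of_dvd_of_pos hb hqodd.pos
  rw [← Finset.add_sum_erase _ _ hKD, hca] at hsum
  rw [← Finset.add_sum_erase _ _ hKD, hcn] at hcard
  have hnK : n K * K = 64 / w K * (K - 1) * m := hn K hKD
  have hineq : 64 / w K * (K - 1) * a * b + 64 / wa * (a - 1) * K * b + 64 / wb * (b - 1) * K * a <
      51 * (K * a * b) := by
    refine Nat.lt_of_mul_lt_mul_right (a := m) ?_
    calc (64 / w K * (K - 1) * a * b + 64 / wa * (a - 1) * K * b + 64 / wb * (b - 1) * K * a) * m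
        = n K * K * (a * b) + na * a * (K * b) + nb * b * (K * a) := by rw [hnK, hna, hnb]; ring
      _ = (n K + (na + nb)) * (K * a * b) := by ring
      _ < 51 * m * (K * a * b) := Nat.mul_lt_mul_of_pos_right (hcard.symm ▸ hlt) (Nat.mul_pos (Nat.mul_pos (by omega) ha0) hb0)
      _ = 51 * (K * a * b) * m := by ring
  rw [hm, hq]
  exact L34Arith.solve hq93 hqodd hK3 (hw K hKD) hwa hwb (hwd K hKD) hda hdb ha hb hab hKab (hq ▸ h15)
    (by rw [← hq]; simp only [c] at hsum; omega) hineq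

theorem card_eq : Nat.card G = 20160 := by
  rw [card_group h, invol_eq h]

end Cfsg.Agent.CNSimple.L34
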