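import Cfsg.Agent.Lib.CNSimple.L34Graph
import Cfsg.Agent.Lib.CASimple.Main

/-!
# Counting involutions, pairs of involutions and elements of order dividing four
-/

set_option autoImplicit false
set_option linter.style.haveILetI false
set_option linter.unusedSectionVars false

namespace Cfsg.Agent.CNSimple.L34

universe u

variable {G : Type u} [Group G] [Finite G]

/-- The involutions. -/
abbrev IV (G : Type u) [Group G] : Set G := {t | orderOf t = 2}

/-- The elements of conjugates of `W` incident with `V`. -/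
def near (V W : Subgroup G) : Set G := {u | u ≠ 1 ∧ ∃ k : G, u ∈ cj k W ∧ Inc V (cj k W)}

/-- The involutions with product of odd order with `z`, not trivial. -/
def Tz (z : G) : Set G := {u | orderOf u = 2 ∧ Odd (orderOf (z * u)) ∧ z * u ≠ 1}

theorem ncard_coe (A : Subgroup G) : (A : Set G).ncard = Nat.card A := (Nat.card_coe_set_eq _).symm

theorem ncard_Tz_conj (g z : G) : (Tz (g * z * g⁻¹)).ncard = (Tz z).ncard := by
  rw [← Nat.card_coe_set_eq, ← Nat.card_coe_set_eq]
  refine (Nat.card_congr ((MulAut.conj g).toEquiv.subtypeEquiv fun u => ?_)).symm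
  show u ∈ Tz z ↔ g * u * g⁻¹ ∈ Tz (g * z * g⁻¹)
  simp only [Tz, Set.mem_setOf_eq]
  rw [show g * z * g⁻¹ * (g * u * g⁻¹) = g * (z * u) * g⁻¹ by group, order_conj, order_conj, Ne, Ne,
    conj_eq_one_iff]

variable {S : Sylow 2 G} {V W : Subgroup G} (h : L34Hyp S V W)
include h

theorem elem_cj {k x : G} (hx : x ∈ cj k V) (hx1 : x ≠ 1) : orderOf x = 2 := by
  obtain ⟨a, ha, rfl⟩ := hx
  show orderOf (k * a * k⁻¹) = 2
  rw [order_conj]
  exact orderOf_two h ha fun e => hx1 (by simp [e])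

theorem comm_cj {k x y : G} (hx : x ∈ cj k V) (hy : y ∈ cj k V) : x * y = y * x := by
  obtain ⟨a, ha, rfl⟩ := hx
  obtain ⟨b, hb, rfl⟩ := hy
  simp only [MulEquiv.coe_toMonoidHom, MulAut.conj_apply]
  rw [show k * a * k⁻¹ * (k * b * k⁻¹) = k * (a * b) * k⁻¹ by group, h.elem_V.2 a ha b hb]
  group

/-- The centraliser of an involution is a conjugate of `S`. -/
theorem cent_invol {t : G} (ht : orderOf t = 2) :
    ∃ g : G, t ∈ cj g (V ⊓ W) ∧ Subgroup.centralizer ({t} : Set G) = cj g (S : Subgroup G) := by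
  obtain ⟨z, hz, hzo⟩ := exists_z h
  obtain ⟨g, hg⟩ := exists_conj h hz hzo ht
  exact ⟨g, hg ▸ conj_mem_cj hz, by rw [← hg, centralizer_conj, h.cent_inf z hz (ne_one_of_order hzo)]⟩

theorem card_cent {t : G} (ht : orderOf t = 2) :
    Nat.card (Subgroup.centralizer ({t} : Set G)) = 64 := by
  obtain ⟨g, -, hg⟩ := cent_invol h ht
  rw [hg, card_cj, h.card_S]

theorem card_group : Nat.card G = (IV G).ncard * 64 := by
  obtain ⟨z, hz, hzo⟩ := exists_z h
  have e := CASimple.card_orbit_conj ⊤ z (IV G) (fun g _ => (order_conj g z).trans hzo) fun w hw => by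
    obtain ⟨g, hg⟩ := exists_conj h hz hzo hw
    exact ⟨g, Subgroup.mem_top g, hg⟩
  rw [← Nat.card_coe_set_eq, e, Subgroup.relIndex_top_right]
  have hc : Subgroup.centralizer ({z} : Set G) = (S : Subgroup G) :=
    h.cent_inf z hz (ne_one_of_order hzo)
  show Nat.card G = (Subgroup.centralizer ({z} : Set G)).index * 64
  rw [hc, ← h.card_S, Subgroup.index_mul_card]

theorem odd_invol_count : Odd (IV G).ncard := by
  haveI : Fact (Nat.Prime 2) := ⟨Nat.prime_two⟩
  rw [← Nat.not_even_iff_odd, even_iff_two_dvd]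
  intro hd
  refine S.not_dvd_index ?_
  have e := (S : Subgroup G).index_mul_card
  rw [h.card_S, card_group h] at e
  rwa [show (S : Subgroup G).index = (IV G).ncard by omega]

theorem fifteen_dvd : 15 ∣ (IV G).ncard := by
  have e := Subgroup.card_subgroup_dvd_card (Subgroup.normalizer (V : Set G))
  rw [h.card_NV, card_group h, show (960 : ℕ) = 15 * 64 from rfl] at e
  exact Nat.dvd_of_mul_dvd_mul_right (by norm_num) e

theorem ncard_near : (near V W).ncard = 75 := by
  rw [← Nat.card_coe_set_eq]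
  let P := {y : G ⧸ Subgroup.normalizer (W : Set G) // Inc (pt W y) V}
  have hP : Nat.card P = 5 := card_points_base (symm h)
  let f : (Σ y : P, ↥((pt W y.1 : Set G) \ {1})) → ↥(near V W) := fun p =>
    ⟨p.2.1, p.2.2.2, by
      obtain ⟨k, hk⟩ := pt_exists W p.1.1
      exact ⟨k, hk ▸ p.2.2.1, hk ▸ inc_symm p.1.2⟩⟩
  have hf : Function.Bijective f := by
    constructor
    · rintro ⟨y, x, hx, hx1⟩ ⟨y', x', hx', hx1'⟩ e
      obtain rfl : x = x' := congrArg Subtype.val e
      obtain rfl : y = y' := by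
        obtain ⟨k, hk⟩ := pt_exists W y.1
        obtain ⟨k', hk'⟩ := pt_exists W y'.1
        refine Subtype.ext (pt_inj W ?_)
        rw [hk, hk']
        exact unique (symm h) hx1 (hk ▸ hx) (hk' ▸ hx')
      rfl
    · rintro ⟨u, hu1, k, hk, hI⟩
      exact ⟨⟨⟨(k : G ⧸ Subgroup.normalizer (W : Set G)), inc_symm hI⟩, u, hk, hu1⟩, rfl⟩
  haveI : Fintype P := Fintype.ofFinite _
  rw [← Nat.card_congr (Equiv.ofBijective f hf), Nat.card_sigma]
  have : ∀ y : P, Nat.card ↥((pt W y.1 : Set G) \ {1}) = 15 := by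
    intro y
    obtain ⟨k, hk⟩ := pt_exists W y.1
    rw [Nat.card_coe_set_eq, Set.ncard_sdiff_singleton_of_mem (one_mem _), ncard_coe, hk, card_cj,
      h.card_W]
  rw [Finset.sum_congr rfl fun y _ => this y, Finset.sum_const, Finset.card_univ,
    ← Nat.card_eq_fintype_card, hP, smul_eq_mul]

theorem near_inter : near V W ∩ near W V = ((V : Set G) ∪ W) \ {1} := by
  ext u
  constructor
  · rintro ⟨⟨hu1, k, hk, hI⟩, -, g, hg, hI'⟩
    refine ⟨?_, hu1⟩
    by_contra hn
    rw [Set.mem_union, not_or] at hn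
    refine noDigon_base h (g := g) (k := k) (fun e => hn.1 ?_) (fun e => hn.2 ?_) hI (inc_symm hI')
      ⟨u, hu1, hg, hk⟩
    · exact e ▸ hg
    · exact e ▸ hk
  · rintro ⟨hu, hu1⟩
    rcases hu with hu | hu
    · refine ⟨?_, hu1, 1, by rwa [cj_one], by rw [cj_one]; exact inc_symm (inc_base h)⟩
      obtain ⟨k, hk⟩ := exists_mem (symm h) (orderOf_two h hu hu1)
      exact ⟨hu1, k, hk, u, hu1, hu, hk⟩
    · refine ⟨⟨hu1, 1, by rwa [cj_one], by rw [cj_one]; exact inc_base h⟩, ?_⟩
      obtain ⟨k, hk⟩ := exists_mem h (orderOf_two (symm h) hu hu1)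
      exact ⟨hu1, k, hk, u, hu1, hu, hk⟩

theorem ncard_union : ((V : Set G) ∪ W).ncard = 28 := by
  have e := Set.ncard_union_add_ncard_inter (V : Set G) (W : Set G)
  rw [← Subgroup.coe_inf, ncard_coe, ncard_coe, ncard_coe, h.card_V, h.card_W, h.card_inf] at e
  omega

theorem ncard_E : (near V W ∪ near W V).ncard = 123 := by
  have e := Set.ncard_union_add_ncard_inter (near V W) (near W V)
  rw [ncard_near h, ncard_near (symm h), near_inter h,
    Set.ncard_sdiff_singleton_of_mem (Set.mem_union_left _ (one_mem V)), ncard_union h] at e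
  omega

theorem near_invol {u : G} (hu : u ∈ near V W) : orderOf u = 2 := by
  obtain ⟨h1, k, hk, -⟩ := hu
  exact elem_cj (symm h) hk h1

/-- Two involutions commuting with a third one in `V`. -/
theorem half_mem {z u c : G} (hz : z ∈ V ⊓ W) (hzo : orderOf z = 2) (hu : orderOf u = 2)
    (hc : orderOf c = 2) (hcV : c ∈ V) (huc : u * c = c * u) : u ∈ near V W := by
  have hu1 := ne_one_of_order hu
  obtain ⟨k, hk⟩ := exists_conj h hz hzo hc
  have huS : u ∈ cj k (S : Subgroup G) := by
    rw [← h.cent_inf z hz (ne_one_of_order hzo), ← centralizer_conj, hk,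
      Subgroup.mem_centralizer_singleton_iff]
    exact huc
  have huS' : k⁻¹ * u * k ∈ (S : Subgroup G) := mem_cj.1 huS
  have ho : orderOf (k⁻¹ * u * k) = 2 := by
    rw [show k⁻¹ * u * k = k⁻¹ * u * k⁻¹⁻¹ by group, order_conj, hu]
  rcases h.invol _ huS' ho with h1 | h1
  · have hVk : cj k V = V := (unique h (ne_one_of_order hc) (g := k) (g' := 1)
      (hk ▸ conj_mem_cj (Subgroup.mem_inf.1 hz).1) (by rwa [cj_one])).trans (cj_one V)
    have huV : u ∈ V := hVk ▸ mem_cj.2 h1
    obtain ⟨k', hk'⟩ := exists_mem (symm h) hu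
    exact ⟨hu1, k', hk', u, hu1, huV, hk'⟩
  · exact ⟨hu1, k, mem_cj.2 h1, c, ne_one_of_order hc, hcV, hk ▸ conj_mem_cj (Subgroup.mem_inf.1 hz).2⟩

theorem even_of_near {z u : G} (hzV : z ∈ V) (hz : orderOf z = 2) (hu : u ∈ near V W) (hne : u ≠ z) :
    Even (orderOf (z * u)) := by
  obtain ⟨hu1, k, hk, a, ha1, haV, haW⟩ := hu
  have hC : z * u ∈ Subgroup.centralizer ({a} : Set G) := by
    refine mul_mem ?_ ?_ <;> rw [Subgroup.mem_centralizer_singleton_iff]
    · exact h.elem_V.2 z hzV a haV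
    · exact comm_cj (symm h) hk haW
  obtain ⟨j, hj⟩ := IsPGroup.iff_orderOf.1 (h.cit a (orderOf_two h haV ha1)) ⟨_, hC⟩
  rw [Subgroup.orderOf_mk] at hj
  rcases j with _ | j
  · rw [pow_zero, orderOf_eq_one_iff] at hj
    exact absurd ((inv_eq_of_mul_eq_one_right hj).symm.trans (Invol.inv_self hz)) hne
  · exact ⟨2 ^ j, by rw [hj, pow_succ]; omega⟩

theorem even_iff {z u : G} (hz : z ∈ V ⊓ W) (hzo : orderOf z = 2) (hu : orderOf u = 2) (hne : u ≠ z) :
    Even (orderOf (z * u)) ↔ u ∈ near V W ∪ near W V := by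
  constructor
  · intro he
    have hc := Invol.half_commute hzo hu he
    have ho := Invol.half_order hzo hu he (orderOf_pos _)
    generalize (z * u) ^ (orderOf (z * u) / 2) = c at hc ho
    have hcS : c ∈ (S : Subgroup G) := by
      rw [← h.cent_inf z hz (ne_one_of_order hzo), Subgroup.mem_centralizer_singleton_iff]
      exact hc.1.eq
    rcases h.invol c hcS ho with h1 | h1
    · exact Or.inl (half_mem h hz hzo hu ho h1 hc.2.symm.eq)
    · exact Or.inr (half_mem (symm h) (by rwa [inf_comm]) hzo hu ho h1 hc.2.symm.eq)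
  · rintro (h1 | h1)
    · exact even_of_near h (Subgroup.mem_inf.1 hz).1 hzo h1 hne
    · exact even_of_near (symm h) (Subgroup.mem_inf.1 hz).2 hzo h1 hne

/-- The number of involutions with product of odd order with a given one. -/
theorem ncard_Tz {t : G} (ht : orderOf t = 2) : (Tz t).ncard + 123 = (IV G).ncard := by
  obtain ⟨z, hz, hzo⟩ := exists_z h
  obtain ⟨g, rfl⟩ := exists_conj h hz hzo ht
  rw [ncard_Tz_conj, ← ncard_E h]
  have hsub : near V W ∪ near W V ⊆ IV G := by
    rintro u (hu | hu)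
    · exact near_invol h hu
    · exact near_invol (symm h) hu
  rw [← Set.ncard_sdiff_add_ncard_of_subset hsub]
  congr 2
  ext u
  constructor
  · rintro ⟨hu, hodd, hne⟩
    refine ⟨hu, fun hE => ?_⟩
    have hne' : u ≠ z := fun e => hne (by rw [e, Invol.mul_self hzo])
    exact Nat.not_even_iff_odd.2 hodd ((even_iff h hz hzo hu hne').2 hE)
  · rintro ⟨hu, hE⟩
    have hne' : u ≠ z := fun e => hE (Or.inl ⟨ne_one_of_order hu, 1, by
      rw [cj_one, e]; exact (Subgroup.mem_inf.1 hz).2, by rw [cj_one]; exact inc_base h⟩)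
    refine ⟨hu, Nat.not_even_iff_odd.1 fun he => hE ((even_iff h hz hzo hu hne').1 he), fun e => hne' ?_⟩
    rw [← inv_eq_of_mul_eq_one_right e, Invol.inv_self hzo]

end Cfsg.Agent.CNSimple.L34
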