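import Cfsg.Agent.Lib.CNSimple.L34Count

/-!
# Elements of order four
-/

set_option autoImplicit false
set_option linter.style.haveILetI false
set_option linter.unusedSectionVars false

namespace Cfsg.Agent.CNSimple.L34

universe u

variable {G : Type u} [Group G] [Finite G]

/-- The square roots of `t`. -/
def sqRoots (t : G) : Set G := {x | x * x = t}

/-- The elements with involutory square. -/
def ord4 (G : Type u) [Group G] : Set G := {x | x * x ∈ IV G}

theorem ncard_sqRoots_conj (g z : G) : (sqRoots (g * z * g⁻¹)).ncard = (sqRoots z).ncard := by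
  rw [← Nat.card_coe_set_eq, ← Nat.card_coe_set_eq]
  refine (Nat.card_congr ((MulAut.conj g).toEquiv.subtypeEquiv fun x => ?_)).symm
  show x * x = z ↔ g * x * g⁻¹ * (g * x * g⁻¹) = g * z * g⁻¹
  rw [show g * x * g⁻¹ * (g * x * g⁻¹) = g * (x * x) * g⁻¹ by group, mul_left_inj, mul_right_inj]

variable {S : Sylow 2 G} {V W : Subgroup G} (h : L34Hyp S V W)
include h

theorem sq_mem_V {x : G} (hx : x ∈ (S : Subgroup G)) : x * x ∈ V := by
  have hWN : W ≤ Subgroup.normalizer (V : Set G) := V_le_NW (symm h)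
  rw [← sup_eq_S h, ← SetLike.mem_coe, sup_comm, Subgroup.coe_mul_of_left_le_normalizer_right W V hWN] at hx
  obtain ⟨w, hw, v, hv, rfl⟩ := hx
  show w * v * (w * v) ∈ V
  have hmem : w * v * w⁻¹ ∈ V := (Subgroup.mem_normalizer_iff.1 (hWN hw) v).1 hv
  have hinv : w⁻¹ = w := inv_eq_of_mul_eq_one_right (h.elem_W.1 w hw)
  rw [hinv] at hmem
  rw [← mul_assoc]
  exact mul_mem hmem hv

theorem sq_mem_inf {x : G} (hx : x ∈ (S : Subgroup G)) : x * x ∈ V ⊓ W :=
  Subgroup.mem_inf.2 ⟨sq_mem_V h hx, sq_mem_V (symm h) hx⟩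

theorem sq_eq_one_iff {x : G} (hx : x ∈ (S : Subgroup G)) : x * x = 1 ↔ x ∈ (V : Set G) ∪ W := by
  constructor
  · intro e
    by_cases hx1 : x = 1
    · exact Or.inl (hx1 ▸ one_mem V)
    · exact (h.invol x hx (Invol.order_two_of_sq e hx1)).imp id id
  · rintro (e | e)
    · exact h.elem_V.1 x e
    · exact h.elem_W.1 x e

theorem ncard_sqRoots {t : G} (ht : orderOf t = 2) : (sqRoots t).ncard = 12 := by
  obtain ⟨z, hz, hzo⟩ := exists_z h
  obtain ⟨g, rfl⟩ := exists_conj h hz hzo ht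
  rw [ncard_sqRoots_conj]
  have hall : ∀ z' ∈ V ⊓ W, z' ≠ 1 → (sqRoots z').ncard = (sqRoots z).ncard := by
    intro z' hz' hz'1
    obtain ⟨k, hk⟩ := exists_conj h hz hzo (orderOf_two h (Subgroup.mem_inf.1 hz').1 hz'1)
    rw [← hk, ncard_sqRoots_conj]
  let Z := {z' : G // z' ∈ V ⊓ W ∧ z' ≠ 1}
  have hZ : Nat.card Z = 3 := by
    show Nat.card ↥(((V ⊓ W : Subgroup G) : Set G) \ {1}) = 3
    rw [Nat.card_coe_set_eq, Set.ncard_sdiff_singleton_of_mem (one_mem _), ncard_coe, h.card_inf]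
  have hS : Nat.card (Σ z' : Z, ↥(sqRoots z'.1)) =
      (((S : Subgroup G) : Set G) \ ((V : Set G) ∪ W)).ncard := by
    rw [← Nat.card_coe_set_eq]
    have hSmem : ∀ z' : Z, ∀ x ∈ sqRoots z'.1, x ∈ (S : Subgroup G) := by
      intro z' x hx
      rw [← h.cent_inf z'.1 z'.2.1 z'.2.2, Subgroup.mem_centralizer_singleton_iff]
      change x * x = z'.1 at hx
      rw [← hx, mul_assoc]
    refine Nat.card_congr
      { toFun := fun p => ⟨p.2.1, hSmem p.1 _ p.2.2, fun e => p.1.2.2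
          ((p.2.2 : p.2.1 * p.2.1 = p.1.1).symm.trans ((sq_eq_one_iff h (hSmem p.1 _ p.2.2)).2 e))⟩
        invFun := fun x => ⟨⟨x.1 * x.1, sq_mem_inf h x.2.1, fun e =>
          x.2.2 ((sq_eq_one_iff h x.2.1).1 e)⟩, x.1, rfl⟩
        left_inv := ?_
        right_inv := fun x => rfl }
    rintro ⟨⟨z', hz'⟩, x, hx⟩
    obtain rfl : x * x = z' := hx
    rfl
  haveI : Fintype Z := Fintype.ofFinite _
  rw [Nat.card_sigma, Finset.sum_congr rfl
    fun (z' : Z) _ => (Nat.card_coe_set_eq _).trans (hall z'.1 z'.2.1 z'.2.2),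
    Finset.sum_const, Finset.card_univ, ← Nat.card_eq_fintype_card, hZ, smul_eq_mul] at hS
  have hsub : (V : Set G) ∪ W ⊆ ((S : Subgroup G) : Set G) := Set.union_subset h.V_le h.W_le
  rw [Set.ncard_sdiff hsub, ncard_coe, h.card_S, ncard_union h] at hS
  omega

theorem ncard_ord4 : (ord4 G).ncard = (IV G).ncard * 12 := by
  rw [← Nat.card_coe_set_eq]
  have e : ↥(ord4 G) ≃ Σ t : ↥(IV G), ↥(sqRoots (t : G)) :=
    { toFun := fun x => ⟨⟨x.1 * x.1, x.2⟩, x.1, rfl⟩
      invFun := fun p => ⟨p.2.1, by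
        show p.2.1 * p.2.1 ∈ IV G
        rw [show p.2.1 * p.2.1 = p.1.1 from p.2.2]
        exact p.1.2⟩
      left_inv := fun x => rfl
      right_inv := by
        rintro ⟨⟨t, ht⟩, x, hx⟩
        obtain rfl : x * x = t := hx
        rfl }
  haveI : Fintype ↥(IV G) := Fintype.ofFinite _
  rw [Nat.card_congr e, Nat.card_sigma, Finset.sum_congr rfl
    fun (t : ↥(IV G)) _ => (Nat.card_coe_set_eq _).trans (ncard_sqRoots h t.2),
    Finset.sum_const, Finset.card_univ, ← Nat.card_eq_fintype_card, Nat.card_coe_set_eq, smul_eq_mul]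

/-- The elements of odd order outside the identity are few. -/
theorem ncard_odd_lt {Y : Set G} (hY : ∀ y ∈ Y, y ≠ 1 ∧ Odd (orderOf y)) :
    Y.ncard < 51 * (IV G).ncard := by
  have d1 : Disjoint (IV G) (ord4 G) := Set.disjoint_left.2 fun x hx hx' => by
    refine ne_one_of_order (t := x * x) hx' ?_
    exact Invol.mul_self hx
  have d2 : Disjoint (IV G ∪ ord4 G) Y := Set.disjoint_left.2 fun x hx hy => by
    obtain ⟨hy1, hy2⟩ := hY x hy
    rcases hx with hx | hx
    · rw [show orderOf x = 2 from hx] at hy2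
      exact absurd hy2 (by decide)
    · refine ne_one_of_order (t := x * x) hx ?_
      refine Invol.eq_one_of_sq_of_odd ?_ (by rw [pow_two]; exact Invol.mul_self hx)
      exact hy2.of_dvd_nat (by rw [← pow_two]; exact orderOf_pow_dvd 2)
  have hone : (1 : G) ∉ IV G ∪ ord4 G ∪ Y := by
    rintro ((h1 | h1) | h1)
    · exact ne_one_of_order h1 rfl
    · exact ne_one_of_order (t := (1 : G) * 1) h1 (one_mul 1)
    · exact (hY 1 h1).1 rfl
  have e := Set.ncard_le_card (insert (1 : G) (IV G ∪ ord4 G ∪ Y))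
  rw [Set.ncard_insert_of_notMem hone, Set.ncard_union_eq d2, Set.ncard_union_eq d1, ncard_ord4 h,
    card_group h] at e
  omega

end Cfsg.Agent.CNSimple.L34
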