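import Cfsg.Agent.Lib.CNSimple.L34Basic
import Mathlib.GroupTheory.GroupAction.Quotient
import Mathlib.GroupTheory.Index

/-!
# Five points on a line, and two lines meet in at most one point
-/

set_option autoImplicit false
set_option linter.style.haveILetI false
set_option linter.unusedSectionVars false

namespace Cfsg.Agent.CNSimple.L34

universe u

variable {G : Type u} [Group G] [Finite G]

theorem inc_symm {A B : Subgroup G} (h : Inc A B) : Inc B A := by
  obtain ⟨a, h1, h2, h3⟩ := h
  exact ⟨a, h1, h3, h2⟩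

/-- The conjugate of `A` belonging to a coset of its normaliser. -/
def pt (A : Subgroup G) (x : G ⧸ Subgroup.normalizer (A : Set G)) : Subgroup G :=
  Quotient.liftOn' x (fun g => cj g A) fun a b hab => by
    rw [QuotientGroup.leftRel_apply] at hab
    show cj a A = cj b A
    exact (cj_eq_cj.2 hab).symm

@[simp] theorem pt_mk (A : Subgroup G) (g : G) :
    pt A (g : G ⧸ Subgroup.normalizer (A : Set G)) = cj g A := rfl

theorem pt_smul (A : Subgroup G) (g : G) (x : G ⧸ Subgroup.normalizer (A : Set G)) :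
    pt A (g • x) = cj g (pt A x) := by
  induction x using QuotientGroup.induction_on with
  | _ a => rw [MulAction.Quotient.smul_mk, smul_eq_mul, pt_mk, pt_mk, cj_cj]

theorem pt_inj (A : Subgroup G) : Function.Injective (pt A) := by
  intro x y e
  induction x using QuotientGroup.induction_on with
  | _ a =>
    induction y using QuotientGroup.induction_on with
    | _ b =>
      rw [pt_mk, pt_mk] at e
      exact QuotientGroup.eq.2 (cj_eq_cj.1 e.symm)

theorem pt_surj (A : Subgroup G) (g : G) : ∃ x, pt A x = cj g A := ⟨_, pt_mk A g⟩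

theorem pt_exists (A : Subgroup G) (x : G ⧸ Subgroup.normalizer (A : Set G)) :
    ∃ g, pt A x = cj g A := by
  induction x using QuotientGroup.induction_on with
  | _ a => exact ⟨a, pt_mk A a⟩

variable {S : Sylow 2 G} {V W : Subgroup G} (h : L34Hyp S V W)
include h

theorem inf_normalizer :
    Subgroup.normalizer (V : Set G) ⊓ Subgroup.normalizer (W : Set G) =
      Subgroup.normalizer ((S : Subgroup G) : Set G) := by
  refine le_antisymm ?_ (le_inf h.NS_le_V h.NS_le_W)
  intro g hg
  obtain ⟨h1, h2⟩ := Subgroup.mem_inf.1 hg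
  rw [← cj_eq_self, ← sup_eq_S h]
  show cj g (V ⊔ W) = V ⊔ W
  rw [cj, Subgroup.map_sup]
  exact congrArg₂ (· ⊔ ·) (cj_eq_self.2 h1) (cj_eq_self.2 h2)

/-- Incident pairs are conjugate to `(V, W)`. -/
theorem inc_pair {a b : G} (hI : Inc (cj a V) (cj b W)) :
    ∃ c : G, cj a V = cj c V ∧ cj b W = cj c W := by
  have hI' : Inc V (cj (a⁻¹ * b) W) := by
    have := inc_cj a⁻¹ hI
    rwa [cj_cj, cj_cj, inv_mul_cancel, cj_one] at this
  obtain ⟨n, hn, e⟩ := inc_norm h hI'
  refine ⟨a * n, ?_, ?_⟩
  · rw [← cj_cj, cj_eq_self.2 hn]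
  · rw [← cj_cj, ← e, cj_cj, mul_inv_cancel_left]

theorem card_points_base :
    Nat.card {x : G ⧸ Subgroup.normalizer (V : Set G) // Inc (pt V x) W} = 5 := by
  set N := Subgroup.normalizer (W : Set G) with hNdef
  set x₀ : G ⧸ Subgroup.normalizer (V : Set G) := ((1 : G) : G ⧸ Subgroup.normalizer (V : Set G))
    with hx₀
  have hset : {x : G ⧸ Subgroup.normalizer (V : Set G) | Inc (pt V x) W} = MulAction.orbit N x₀ := by
    ext x
    constructor
    · intro hx
      obtain ⟨g, hg⟩ := pt_exists V x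
      have hx' : Inc W (cj g V) := hg ▸ inc_symm hx
      obtain ⟨n, hn, e⟩ := inc_norm (symm h) hx'
      refine ⟨⟨n, hn⟩, pt_inj V ?_⟩
      show pt V (n • x₀) = pt V x
      rw [pt_smul, hx₀, pt_mk, cj_one, hg, e]
    · rintro ⟨⟨n, hn⟩, rfl⟩
      show Inc (pt V (n • x₀)) W
      rw [pt_smul, hx₀, pt_mk, cj_one]
      have := inc_cj n (inc_base h)
      rwa [cj_eq_self.2 hn] at this
  have hstab : MulAction.stabilizer N x₀ = (Subgroup.normalizer (V : Set G)).subgroupOf N := by
    ext ⟨n, hn⟩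
    rw [MulAction.mem_stabilizer_iff, Subgroup.mem_subgroupOf]
    show n • x₀ = x₀ ↔ _
    rw [hx₀, MulAction.Quotient.smul_mk, smul_eq_mul, mul_one, QuotientGroup.eq, mul_one, inv_mem_iff]
  have h1 := Subgroup.card_mul_index (MulAction.stabilizer N x₀)
  rw [MulAction.index_stabilizer, ← hset, hstab] at h1
  have h2 : Nat.card ((Subgroup.normalizer (V : Set G)).subgroupOf N) = 192 := by
    rw [← Subgroup.inf_subgroupOf_right,
      Nat.card_congr (Subgroup.subgroupOfEquivOfLe inf_le_right).toEquiv, hNdef, inf_normalizer h,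
      h.card_NS]
  rw [h2, show Nat.card N = 960 from h.card_NW] at h1
  show Nat.card {x : G ⧸ Subgroup.normalizer (V : Set G) | Inc (pt V x) W} = 5
  rw [Nat.card_coe_set_eq]
  omega

/-- Five points on a line. -/
theorem card_points (k : G) :
    Nat.card {x : G ⧸ Subgroup.normalizer (V : Set G) // Inc (pt V x) (cj k W)} = 5 := by
  rw [← card_points_base h]
  refine Nat.card_congr (Equiv.subtypeEquiv (MulAction.toPerm k⁻¹) fun x => ⟨fun hx => ?_, fun hx => ?_⟩)
  · have := inc_cj k⁻¹ hx
    rwa [cj_cj, inv_mul_cancel, cj_one, ← pt_smul] at this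
  · have := inc_cj k hx
    rwa [MulAction.toPerm_apply, pt_smul, cj_cj, mul_inv_cancel, cj_one] at this

/-- Two lines on a point have no further common point: base form. -/
theorem noDigon_base {g k : G} (hP : cj g V ≠ V) (hW : cj k W ≠ W) (hVk : Inc V (cj k W))
    (h1 : Inc (cj g V) W) (h2 : Inc (cj g V) (cj k W)) : False := by
  obtain ⟨n, hn, e⟩ := inc_norm h hVk
  rw [e] at hW h2
  have hstab : ∀ a ∈ V, cj a (cj g V) = cj g V → a = 1 := by
    intro a ha hfix
    have haW : a ∈ W := stab_mem h ha hP h1 hfix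
    have hP' : cj (n⁻¹ * g) V ≠ V := fun e' => hP (by
      have := congrArg (cj n) e'
      rwa [cj_cj, mul_inv_cancel_left, cj_eq_self.2 hn] at this)
    have ha' : n⁻¹ * a * n ∈ V := by
      rw [← mem_cj, cj_eq_self.2 hn]; exact ha
    have hI' : Inc (cj (n⁻¹ * g) V) W := by
      have := inc_cj n⁻¹ h2
      rwa [cj_cj, cj_cj, inv_mul_cancel, cj_one] at this
    have hfix' : cj (n⁻¹ * a * n) (cj (n⁻¹ * g) V) = cj (n⁻¹ * g) V := by
      rw [cj_cj, show n⁻¹ * a * n * (n⁻¹ * g) = n⁻¹ * (a * g) by group, ← cj_cj, ← cj_cj a, hfix, cj_cj]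
    have haW' : a ∈ cj n W := mem_cj.2 (stab_mem h ha' hP' hI' hfix')
    by_contra ha1
    refine hW ((unique (symm h) ha1 (g := n) (g' := 1) haW' ?_).trans (cj_one W))
    rwa [cj_one]
  have hle : Nat.card V ≤
      Nat.card {x : G ⧸ Subgroup.normalizer (V : Set G) // Inc (pt V x) W} := by
    refine Nat.card_le_card_of_injective
      (fun a : V => ⟨(((a : G) * g : G) : G ⧸ Subgroup.normalizer (V : Set G)), ?_⟩) ?_
    · have := inc_cj (a : G) h1
      rw [cj_cj, cj_eq_self.2 (V_le_NW h a.2)] at this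
      exact this
    · intro a b e
      have e' : cj ((a : G) * g) V = cj ((b : G) * g) V :=
        congrArg (pt V) (congrArg Subtype.val e :)
      rw [← cj_cj, ← cj_cj (b : G)] at e'
      refine Subtype.ext (inv_mul_eq_one.1 (hstab _ (mul_mem (inv_mem a.2) b.2) ?_))
      rw [← cj_cj, ← e', cj_cj, inv_mul_cancel, cj_one]
  rw [h.card_V, card_points_base h] at hle
  omega

/-- Two distinct points lie on at most one line. -/
theorem noDigon {a b k l : G} (hP : cj a V ≠ cj b V) (h1 : Inc (cj a V) (cj k W))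
    (h2 : Inc (cj b V) (cj k W)) (h3 : Inc (cj a V) (cj l W)) (h4 : Inc (cj b V) (cj l W)) :
    cj k W = cj l W := by
  by_contra hne
  obtain ⟨c, hc1, hc2⟩ := inc_pair h h1
  refine noDigon_base h (g := c⁻¹ * b) (k := c⁻¹ * l) (fun e => hP ?_) (fun e => hne ?_) ?_ ?_ ?_
  · have := congrArg (cj c) e
    rw [cj_cj, mul_inv_cancel_left] at this
    rw [hc1, this]
  · have := congrArg (cj c) e
    rw [cj_cj, mul_inv_cancel_left] at this
    rw [hc2, this]
  · have := inc_cj c⁻¹ h3
    rwa [hc1, cj_cj, cj_cj, inv_mul_cancel, cj_one] at this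
  · have := inc_cj c⁻¹ h2
    rwa [hc2, cj_cj, cj_cj, inv_mul_cancel, cj_one] at this
  · have := inc_cj c⁻¹ h4
    rwa [cj_cj, cj_cj] at this

end Cfsg.Agent.CNSimple.L34
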