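import Cfsg.Agent.Lib.CNSimple.L34Elem
import Mathlib.GroupTheory.FixedPointFree
import Mathlib.GroupTheory.GroupAction.Quotient

/-!
# Elements of odd order inverted by involutions
-/

set_option autoImplicit false
set_option linter.style.haveILetI false
set_option linter.unusedSectionVars false

namespace Cfsg.Agent.CNSimple.L34

universe u

variable {G : Type u} [Group G] [Finite G]

/-- The nontrivial elements of odd order inverted by an involution. -/
def Yset (G : Type u) [Group G] : Set G :=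
  {y | y ≠ 1 ∧ Odd (orderOf y) ∧ ∃ t, orderOf t = 2 ∧ t * y * t = y⁻¹}

/-- The centraliser. -/
abbrev C0 (y : G) : Subgroup G := Subgroup.centralizer ({y} : Set G)

/-- The order of the centraliser. -/
noncomputable def kf (y : G) : ℕ := Nat.card (C0 y)

/-- The inverting involutions. -/
def Ifib (y : G) : Set G := {s | orderOf s = 2 ∧ s * y * s = y⁻¹}

theorem mem_C0 {y c : G} : c ∈ C0 y ↔ c * y = y * c := Subgroup.mem_centralizer_singleton_iff

theorem self_mem_C0 (y : G) : y ∈ C0 y := mem_C0.2 rfl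

theorem conj_Y {g y : G} (hy : y ∈ Yset G) : g * y * g⁻¹ ∈ Yset G := by
  obtain ⟨h1, h2, t, ht, hty⟩ := hy
  refine ⟨fun e => h1 (conj_eq_one_iff.1 e), by rwa [order_conj], g * t * g⁻¹, by rwa [order_conj], ?_⟩
  rw [show g * t * g⁻¹ * (g * y * g⁻¹) * (g * t * g⁻¹) = g * (t * y * t) * g⁻¹ by group, hty]
  group

theorem inv_swap {t y : G} (ht : orderOf t = 2) (hty : t * y * t = y⁻¹) : t * y⁻¹ * t = y := by
  rw [← hty, show t * (t * y * t) * t = t * t * y * (t * t) by group, Invol.mul_self ht, one_mul, mul_one]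

/-- A free action has group order dividing the number of points. -/
theorem free_dvd {A T : Type*} [Group A] [Finite A] [MulAction A T] [Finite T]
    (hT : ∀ (a : A) (t : T), a • t = t → a = 1) : Nat.card A ∣ Nat.card T := by
  classical
  haveI := Fintype.ofFinite (MulAction.orbitRel.Quotient A T)
  rw [Nat.card_congr (MulAction.selfEquivSigmaOrbitsQuotientStabilizer A T), Nat.card_sigma]
  refine Finset.dvd_sum fun w _ => ?_
  rw [show MulAction.stabilizer A w.out = ⊥ from
      (Subgroup.eq_bot_iff_forall _).2 fun a ha => hT a _ ha,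
    ← Subgroup.index_eq_card, Subgroup.index_bot]

variable {S : Sylow 2 G} {V W : Subgroup G} (h : L34Hyp S V W)
include h

theorem odd_kf {y : G} (hy : y ∈ Yset G) : Odd (kf y) := by
  rw [← Nat.not_even_iff_odd]
  intro he
  obtain ⟨a, ha, hao⟩ := Invol.exists_invol he
  have hyC : y ∈ Subgroup.centralizer ({a} : Set G) :=
    Subgroup.mem_centralizer_singleton_iff.2 (mem_C0.1 ha).symm
  obtain ⟨j, hj⟩ := IsPGroup.iff_orderOf.1 (h.cit a hao) ⟨y, hyC⟩
  rw [Subgroup.orderOf_mk] at hj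
  rcases j with _ | j
  · rw [pow_zero, orderOf_eq_one_iff] at hj
    exact hy.1 hj
  · exact Nat.not_even_iff_odd.2 hy.2.1 ⟨2 ^ j, by rw [hj, pow_succ]; omega⟩

theorem odd_order_C0 {y c : G} (hy : y ∈ Yset G) (hc : c ∈ C0 y) : Odd (orderOf c) :=
  (odd_kf h hy).of_dvd_nat (Subgroup.orderOf_dvd_natCard _ hc)

theorem eq_one_of_fix {y t c : G} (hy : y ∈ Yset G) (ht : orderOf t = 2) (hc : c ∈ C0 y)
    (hct : c * t = t * c) : c = 1 := by
  obtain ⟨j, hj⟩ := IsPGroup.iff_orderOf.1 (h.cit t ht)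
    ⟨c, Subgroup.mem_centralizer_singleton_iff.2 hct⟩
  rw [Subgroup.orderOf_mk] at hj
  have hodd := odd_order_C0 h hy hc
  rw [hj] at hodd
  rcases j with _ | j
  · rwa [pow_zero, orderOf_eq_one_iff] at hj
  · exact absurd hodd (Nat.not_odd_iff_even.2 ⟨2 ^ j, by rw [pow_succ]; omega⟩)

theorem inv_all {y t c : G} (hy : y ∈ Yset G) (ht : orderOf t = 2) (hty : t * y * t = y⁻¹)
    (hc : c ∈ C0 y) : t * c * t = c⁻¹ := by
  have hmem : ∀ x ∈ C0 y, t * x * t ∈ C0 y := fun x hx => by
    rw [mem_C0] at hx ⊢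
    have hx' : x * y⁻¹ = y⁻¹ * x := (Commute.inv_right (show Commute x y from hx)).eq
    have e : t * x * t * (t * y⁻¹ * t) = t * y⁻¹ * t * (t * x * t) := by
      rw [show t * x * t * (t * y⁻¹ * t) = t * (x * (t * t) * y⁻¹) * t by group, Invol.mul_self ht,
        mul_one, hx', show t * y⁻¹ * t * (t * x * t) = t * (y⁻¹ * (t * t) * x) * t by group,
        Invol.mul_self ht, mul_one]
    rwa [inv_swap ht hty] at e
  let φ : C0 y →* C0 y :=
    { toFun := fun x => ⟨t * x * t, hmem x x.2⟩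
      map_one' := Subtype.ext (by simp [Invol.mul_self ht])
      map_mul' := fun a b => Subtype.ext (by
        simp only [Subgroup.coe_mul]
        rw [show t * (a : G) * t * (t * (b : G) * t) = t * (a : G) * (t * t) * (b : G) * t by group,
          Invol.mul_self ht]; group) }
  have hfp : MonoidHom.FixedPointFree φ := fun x hx => Subtype.ext (eq_one_of_fix h hy ht x.2 (by
    have hxt : t * (x : G) * t = x := congrArg Subtype.val hx
    conv_lhs => rw [← hxt, mul_assoc, Invol.mul_self ht, mul_one]))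
  have hinv : Function.Involutive φ := fun x => Subtype.ext (by
    show t * (t * (x : G) * t) * t = x
    rw [show t * (t * (x : G) * t) * t = t * t * (x : G) * (t * t) by group, Invol.mul_self ht,
      one_mul, mul_one])
  exact congrArg Subtype.val (congrFun (hfp.coe_eq_inv_of_involutive hinv) ⟨c, hc⟩)

theorem comm_C0 {y a b : G} (hy : y ∈ Yset G) (ha : a ∈ C0 y) (hb : b ∈ C0 y) : a * b = b * a := by
  obtain ⟨t, ht, hty⟩ := hy.2.2
  refine inv_injective ?_
  rw [← inv_all h hy ht hty (mul_mem ha hb), ← inv_all h hy ht hty (mul_mem hb ha)]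
  calc t * (a * b) * t = (t * a * t) * (t * b * t) := by
        rw [show t * a * t * (t * b * t) = t * a * (t * t) * b * t by group, Invol.mul_self ht]; group
    _ = (b * a)⁻¹ := by rw [inv_all h hy ht hty ha, inv_all h hy ht hty hb]; group
    _ = t * (b * a) * t := (inv_all h hy ht hty (mul_mem hb ha)).symm

theorem mem_Y {y x : G} (hy : y ∈ Yset G) (hx : x ∈ C0 y) (hx1 : x ≠ 1) : x ∈ Yset G := by
  obtain ⟨t, ht, hty⟩ := hy.2.2
  exact ⟨hx1, odd_order_C0 h hy hx, t, ht, inv_all h hy ht hty hx⟩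

theorem C0_eq {y x : G} (hy : y ∈ Yset G) (hx : x ∈ C0 y) (hx1 : x ≠ 1) : C0 x = C0 y := by
  have hyx : y ∈ C0 x := mem_C0.2 (mem_C0.1 hx).symm
  refine le_antisymm (fun c hc => ?_) fun c hc => mem_C0.2 (comm_C0 h hy hc hx)
  exact mem_C0.2 (comm_C0 h (mem_Y h hy hx hx1) hc hyx)

theorem card_Ifib {y : G} (hy : y ∈ Yset G) : Nat.card ↥(Ifib y) = kf y := by
  obtain ⟨t, ht, hty⟩ := hy.2.2
  refine (Nat.card_congr ?_).symm
  refine
    { toFun := fun c => ⟨t * c, ?_⟩
      invFun := fun s => ⟨t * s.1, ?_⟩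
      left_inv := fun c => Subtype.ext (by
        show t * (t * (c : G)) = c
        rw [← mul_assoc, Invol.mul_self ht, one_mul])
      right_inv := fun s => Subtype.ext (by
        show t * (t * s.1) = s.1
        rw [← mul_assoc, Invol.mul_self ht, one_mul]) }
  · have hc := inv_all h hy ht hty c.2
    refine ⟨Invol.order_two_of_sq (by rw [← mul_assoc, hc, inv_mul_cancel]) fun e => ?_, ?_⟩
    · have : (c : G) = t := by
        rw [← inv_eq_of_mul_eq_one_right e, Invol.inv_self ht]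
      have ho := odd_order_C0 h hy c.2
      rw [this, ht] at ho
      exact absurd ho (by decide)
    · rw [show t * (c : G) * y * (t * c) = t * ((c : G) * y) * t * c by group, mem_C0.1 c.2,
        show t * (y * (c : G)) * t * c = (t * y * t) * (t⁻¹ * c * t * c) by group, hty,
        Invol.inv_self ht, hc, inv_mul_cancel, mul_one]
  · obtain ⟨hs, hsy⟩ := s.2
    rw [mem_C0]
    have e1 : s.1 * y = y⁻¹ * s.1 := by
      rw [← hsy, mul_assoc _ s.1 s.1, Invol.mul_self hs, mul_one]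
    rw [mul_assoc, e1, ← mul_assoc, show t * y⁻¹ = t * y⁻¹ * (t * t) by rw [Invol.mul_self ht, mul_one],
      show t * y⁻¹ * (t * t) * s.1 = t * y⁻¹ * t * (t * s.1) by group, inv_swap ht hty]

theorem card_pairs :
    Nat.card (Σ y : ↥(Yset G), ↥(Ifib (y : G))) = (IV G).ncard * ((IV G).ncard - 123) := by
  have e : (Σ y : ↥(Yset G), ↥(Ifib (y : G))) ≃ Σ s : ↥(IV G), ↥(Tz (s : G)) :=
    { toFun := fun p => ⟨⟨p.2.1, p.2.2.1⟩, p.2.1 * p.1.1, by
        have hs := p.2.2.1
        have hy := p.1.2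
        refine ⟨Invol.order_two_of_sq ?_ fun e => ?_, ?_, ?_⟩
        · rw [← mul_assoc, p.2.2.2, inv_mul_cancel]
        · have ho := hy.2.1
          rw [← inv_eq_of_mul_eq_one_right e, Invol.inv_self hs, hs] at ho
          exact absurd ho (by decide)
        · show Odd (orderOf (p.2.1 * (p.2.1 * p.1.1)))
          rw [← mul_assoc, Invol.mul_self hs, one_mul]
          exact hy.2.1
        · show p.2.1 * (p.2.1 * p.1.1) ≠ 1
          rw [← mul_assoc, Invol.mul_self hs, one_mul]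
          exact hy.1⟩
      invFun := fun p => ⟨⟨p.1.1 * p.2.1, p.2.2.2.2, p.2.2.2.1, p.1.1, p.1.2, by
          rw [← mul_assoc, Invol.mul_self p.1.2, one_mul, mul_inv_rev, Invol.inv_self p.1.2,
            Invol.inv_self p.2.2.1]⟩, p.1.1, p.1.2, by
          show p.1.1 * (p.1.1 * p.2.1) * p.1.1 = (p.1.1 * p.2.1)⁻¹
          rw [← mul_assoc, Invol.mul_self p.1.2, one_mul, mul_inv_rev, Invol.inv_self p.1.2,
            Invol.inv_self p.2.2.1]⟩
      left_inv := by
        rintro ⟨⟨y, hy⟩, s, hs⟩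
        have e : s * (s * y) = y := by rw [← mul_assoc, Invol.mul_self hs.1, one_mul]
        exact Sigma.subtype_ext (Subtype.ext e) rfl
      right_inv := by
        rintro ⟨⟨s, hs⟩, u, hu⟩
        refine Sigma.subtype_ext rfl ?_
        show s * (s * u) = u
        rw [← mul_assoc, Invol.mul_self hs, one_mul] }
  haveI : Fintype ↥(IV G) := Fintype.ofFinite _
  rw [Nat.card_congr e, Nat.card_sigma, Finset.sum_congr rfl fun (s : ↥(IV G)) _ =>
      show Nat.card ↥(Tz (s : G)) = (IV G).ncard - 123 by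
        have := ncard_Tz h s.2
        rw [Nat.card_coe_set_eq]; omega,
    Finset.sum_const, Finset.card_univ, ← Nat.card_eq_fintype_card, Nat.card_coe_set_eq, smul_eq_mul]

/-- The normaliser of a centraliser. -/
theorem normalizer_card {y : G} (hy : y ∈ Yset G) :
    ∃ w : ℕ, (w = 2 ∨ w = 4 ∨ w = 8) ∧ w ∣ kf y - 1 ∧
      Nat.card (Subgroup.normalizer (C0 y : Set G)) = kf y * w := by
  obtain ⟨t, ht, hty⟩ := hy.2.2
  set K := C0 y with hK
  set N := Subgroup.normalizer (K : Set G) with hN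
  have htN : t ∈ N := by
    refine Subgroup.mem_normalizer_iff.2 fun c => ⟨fun hc => ?_, fun hc => ?_⟩
    · rw [Invol.inv_self ht, inv_all h hy ht hty hc]
      exact inv_mem hc
    · have := inv_all h hy ht hty hc
      rw [Invol.inv_self ht, show t * (t * c * t) * t = t * t * c * (t * t) by group, Invol.mul_self ht,
        one_mul, mul_one] at this
      rw [this]
      exact inv_mem (by rwa [Invol.inv_self ht] at hc)
  set H := N ⊓ Subgroup.centralizer ({t} : Set G) with hH
  have htH : t ∈ H := ⟨htN, Subgroup.mem_centralizer_singleton_iff.2 rfl⟩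
  have hHfix : ∀ a ∈ H, a ∈ K → a = 1 := fun a ha haK =>
    eq_one_of_fix h hy ht haK (Subgroup.mem_centralizer_singleton_iff.1 ha.2)
  have hfree : ∀ a ∈ H, ∀ x ∈ K, x ≠ 1 → a * x * a⁻¹ = x → a = 1 := by
    intro a ha x hx hx1 e
    refine hHfix a ha ?_
    rw [hK, ← C0_eq h hy hx hx1, mem_C0]
    exact mul_inv_eq_iff_eq_mul.1 e
  have hprod : Nat.card N = Nat.card K * Nat.card H := by
    rw [← Nat.card_prod]
    refine (Nat.card_congr (Equiv.ofBijective
      (fun p : K × H => (⟨p.1 * p.2, mul_mem (Subgroup.le_normalizer p.1.2) p.2.2.1⟩ : N)) ⟨?_, ?_⟩)).symm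
    · intro p p' e
      have e' : (p.1 : G) * p.2 = p'.1 * p'.2 := congrArg Subtype.val e
      have h1 : (p'.1 : G)⁻¹ * p.1 = p'.2 * (p.2 : G)⁻¹ := by
        rw [eq_mul_inv_iff_mul_eq, mul_assoc, e', inv_mul_cancel_left]
      have h2 := hHfix _ (h1 ▸ mul_mem p'.2.2 (inv_mem p.2.2)) (mul_mem (inv_mem p'.1.2) p.1.2)
      refine Prod.ext (Subtype.ext (inv_mul_eq_one.1 h2).symm) (Subtype.ext ?_)
      exact (mul_inv_eq_one.1 (h1.symm.trans h2)).symm
    · rintro ⟨n, hn⟩
      have hs : n * t * n⁻¹ ∈ Ifib y := by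
        refine ⟨(order_conj n t).trans ht, ?_⟩
        have hy' : n⁻¹ * y * n ∈ K := by
          have := (Subgroup.mem_normalizer_iff.1 (inv_mem hn) y).1 (self_mem_C0 y)
          rwa [inv_inv] at this
        rw [show n * t * n⁻¹ * y * (n * t * n⁻¹) = n * (t * (n⁻¹ * y * n) * t) * n⁻¹ by group,
          inv_all h hy ht hty hy']
        group
      obtain ⟨c, hc, hce⟩ : ∃ c ∈ K, n * t * n⁻¹ = t * c := by
        refine ⟨t * (n * t * n⁻¹), ?_, by rw [← mul_assoc, Invol.mul_self ht, one_mul]⟩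
        rw [hK, mem_C0]
        obtain ⟨hs1, hs2⟩ := hs
        generalize n * t * n⁻¹ = s at hs1 hs2
        have e1 : s * y = y⁻¹ * s := by rw [← hs2, mul_assoc _ s s, Invol.mul_self hs1, mul_one]
        rw [mul_assoc, e1, ← mul_assoc,
          show t * y⁻¹ = t * y⁻¹ * (t * t) by rw [Invol.mul_self ht, mul_one],
          show t * y⁻¹ * (t * t) * s = t * y⁻¹ * t * (t * s) by group, inv_swap ht hty]
      obtain ⟨j, hj⟩ := Invol.exists_sqrt (odd_order_C0 h hy hc)
      obtain ⟨d, hd, hdc⟩ : ∃ d ∈ K, d⁻¹ * d⁻¹ = c :=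
        ⟨(c ^ j)⁻¹, inv_mem (pow_mem hc j), by rw [inv_inv, ← pow_two]; exact hj⟩
      have hconj : d * t * d⁻¹ = n * t * n⁻¹ := by
        rw [hce, ← hdc, show d * t * d⁻¹ = t * ((t⁻¹ * d * t) * d⁻¹) by group, Invol.inv_self ht,
          inv_all h hy ht hty hd]
      have hdn : d⁻¹ * n ∈ N := mul_mem (inv_mem (Subgroup.le_normalizer (H := K) hd)) hn
      refine ⟨(⟨d, hd⟩, ⟨d⁻¹ * n, hdn,
        Subgroup.mem_centralizer_singleton_iff.2 ?_⟩), Subtype.ext (mul_inv_cancel_left d n)⟩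
      calc d⁻¹ * n * t = d⁻¹ * (n * t * n⁻¹) * n := by group
        _ = d⁻¹ * (d * t * d⁻¹) * n := by rw [hconj]
        _ = t * (d⁻¹ * n) := by group
  refine ⟨Nat.card H, ?_, ?_, hprod⟩
  · obtain ⟨g, hg, hgS⟩ := cent_invol h ht
    have hHS : H ≤ cj g (S : Subgroup G) := hgS ▸ inf_le_right
    have hone : ∀ a ∈ H, a * a = 1 → a = 1 ∨ a = t := by
      intro a ha e
      by_cases ha1 : a = 1
      · exact Or.inl ha1
      right
      have hao := Invol.order_two_of_sq e ha1
      have hainv : a * y * a = y⁻¹ := by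
        have hay : a * y * a ∈ K := by
          have := (Subgroup.mem_normalizer_iff.1 ha.1 y).1 (self_mem_C0 y)
          rwa [Invol.inv_self hao] at this
        have h1 : a * (y * (a * y * a)) * a = y * (a * y * a) := by
          rw [show a * (y * (a * y * a)) * a = a * y * a * y * (a * a) by group, Invol.mul_self hao,
            mul_one, comm_C0 h hy hay (self_mem_C0 y)]
        by_contra hne
        have hx1 : y * (a * y * a) ≠ 1 := fun e' => hne (inv_eq_of_mul_eq_one_right e').symm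
        exact ha1 (hfree a ha _ (mul_mem (self_mem_C0 y) hay) hx1 (by rwa [Invol.inv_self hao]))
      have hat : a * t ∈ K := by
        rw [hK, mem_C0, mul_assoc,
          show t * y = t * y * (t * t) by rw [Invol.mul_self ht, mul_one],
          show a * (t * y * (t * t)) = a * (t * y * t) * t by group, hty]
        rw [show a * y⁻¹ = a * y⁻¹ * (a * a) by rw [Invol.mul_self hao, mul_one],
          show a * y⁻¹ * (a * a) * t = a * y⁻¹ * a * (a * t) by group, inv_swap hao hainv]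
      have := hHfix _ (mul_mem ha htH) hat
      rw [← inv_eq_of_mul_eq_one_right this, Invol.inv_self hao]
    have hV2 : Nat.card (H ⊓ cj g V : Subgroup G) ≤ 2 := by
      rw [← ncard_coe]
      refine (Set.ncard_le_ncard (t := {1, t}) (fun a ha => ?_)).trans
        ((Set.ncard_insert_le _ _).trans (by rw [Set.ncard_singleton]))
      refine hone a ha.1 ?_
      obtain ⟨b, hb, rfl⟩ := ha.2
      show g * b * g⁻¹ * (g * b * g⁻¹) = 1
      rw [show g * b * g⁻¹ * (g * b * g⁻¹) = g * (b * b) * g⁻¹ by group, h.elem_V.1 b hb]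
      group
    have hVS : cj g V ≤ cj g (S : Subgroup G) := cj_mono h.V_le
    have h4 : (cj g V).relIndex (cj g (S : Subgroup G)) = 4 := by
      have e := ((cj g V).subgroupOf (cj g (S : Subgroup G))).card_mul_index
      rw [Nat.card_congr (Subgroup.subgroupOfEquivOfLe hVS).toEquiv, card_cj, card_cj, h.card_V,
        h.card_S] at e
      show ((cj g V).subgroupOf (cj g (S : Subgroup G))).index = 4
      omega
    have h8 : Nat.card H ≤ 8 := by
      have e := ((cj g V).subgroupOf H).card_mul_index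
      rw [← Subgroup.inf_subgroupOf_left, Nat.card_congr (Subgroup.subgroupOfEquivOfLe inf_le_left).toEquiv,
        Subgroup.inf_subgroupOf_left] at e
      rw [← e]
      calc Nat.card (H ⊓ cj g V : Subgroup G) * ((cj g V).subgroupOf H).index
          ≤ 2 * ((cj g V).relIndex (cj g (S : Subgroup G))) :=
            Nat.mul_le_mul hV2 (Subgroup.relIndex_le_of_le_right hHS Subgroup.index_ne_zero_of_finite)
        _ = 8 := by rw [h4]
    have hdvd : Nat.card H ∣ 2 ^ 6 := by
      have := Subgroup.card_dvd_of_le hHS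
      rwa [card_cj, h.card_S] at this
    obtain ⟨j, hj, e⟩ := (Nat.dvd_prime_pow Nat.prime_two).1 hdvd
    have h2 := Subgroup.orderOf_dvd_natCard H htH
    rw [ht, e] at h2
    rw [e] at h8 ⊢
    interval_cases j <;> omega
  · let X := {x : K // x ≠ 1}
    letI : MulAction H X :=
      { smul := fun a x => ⟨⟨(a : G) * (x.1 : G) * (a : G)⁻¹,
          (Subgroup.mem_normalizer_iff.1 a.2.1 _).1 x.1.2⟩, fun e => x.2 (Subtype.ext
            (conj_eq_one_iff.1 (congrArg Subtype.val e)))⟩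
        one_smul := fun x => Subtype.ext (Subtype.ext (by
          show ((1 : H) : G) * (x.1 : G) * ((1 : H) : G)⁻¹ = x.1
          simp))
        mul_smul := fun a b x => Subtype.ext (Subtype.ext (by
          show ((a * b : H) : G) * (x.1 : G) * ((a * b : H) : G)⁻¹ =
            (a : G) * ((b : G) * (x.1 : G) * (b : G)⁻¹) * (a : G)⁻¹
          push_cast
          group)) }
    have hX : Nat.card X = kf y - 1 := by
      haveI := Fintype.ofFinite K
      classical
      rw [Nat.card_eq_fintype_card, Fintype.card_subtype_compl, Fintype.card_subtype_eq,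
        ← Nat.card_eq_fintype_card]
      rfl
    rw [← hX]
    refine free_dvd fun a x e => Subtype.ext (hfree a a.2 x.1 x.1.2 (fun e' => x.2 (Subtype.ext e')) ?_)
    exact congrArg (fun z : X => ((z.1 : K) : G)) e

/-- Hall: a Sylow subgroup for a prime dividing the order lies in the centraliser. -/
theorem exists_sylow {y : G} (hy : y ∈ Yset G) {p : ℕ} (hp : p.Prime) (hd : p ∣ kf y) :
    ∃ Q : Sylow p G, (Q : Subgroup G) ≤ C0 y := by
  haveI : Fact p.Prime := ⟨hp⟩
  obtain ⟨x, hx⟩ := exists_prime_orderOf_dvd_card' (G := C0 y) p hd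
  have hx1 : (x : G) ≠ 1 := fun e => by
    rw [show x = 1 from Subtype.ext e, orderOf_one] at hx
    exact hp.ne_one hx.symm
  obtain ⟨Q, hQ⟩ := (IsPGroup.of_card (n := 1) (by
    rw [Nat.card_zpowers, Subgroup.orderOf_coe, hx, pow_one]) :
      IsPGroup p (Subgroup.zpowers (x : G))).exists_le_sylow
  have hxQ : (x : G) ∈ (Q : Subgroup G) := hQ (Subgroup.mem_zpowers _)
  haveI : Nontrivial (Q : Subgroup G) :=
    ⟨⟨⟨x, hxQ⟩, 1, fun e => hx1 (congrArg Subtype.val e)⟩⟩
  haveI := Q.isPGroup'.center_nontrivial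
  obtain ⟨c, hc1⟩ := exists_ne (1 : Subgroup.center (Q : Subgroup G))
  have hcQ : ∀ q ∈ (Q : Subgroup G), q * ((c : (Q : Subgroup G)) : G) = (c : (Q : Subgroup G)) * q :=
    fun q hq => congrArg Subtype.val (Subgroup.mem_center_iff.1 c.2 ⟨q, hq⟩)
  have hc1' : ((c : (Q : Subgroup G)) : G) ≠ 1 := fun e => hc1 (Subtype.ext (Subtype.ext e))
  have hcK : ((c : (Q : Subgroup G)) : G) ∈ C0 y := by
    rw [← C0_eq h hy x.2 hx1, mem_C0]
    exact (hcQ x hxQ).symm
  refine ⟨Q, fun q hq => ?_⟩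
  rw [← C0_eq h hy hcK hc1', mem_C0]
  exact hcQ q hq

theorem dvd_invol {y : G} (hy : y ∈ Yset G) : kf y ∣ (IV G).ncard := by
  have h1 : kf y ∣ (IV G).ncard * 2 ^ 6 := by
    rw [show (IV G).ncard * 2 ^ 6 = Nat.card G from (card_group h).symm]
    exact Subgroup.card_subgroup_dvd_card _
  exact (Nat.Coprime.pow_right 6 (Nat.coprime_two_right.2 (odd_kf h hy))).dvd_of_dvd_mul_right h1

theorem coprime_index {y : G} (hy : y ∈ Yset G) : (kf y).Coprime (C0 y).index := by
  refine Nat.coprime_of_dvd fun p hp h1 h2 => ?_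
  haveI : Fact p.Prime := ⟨hp⟩
  obtain ⟨Q, hQ⟩ := exists_sylow h hy hp h1
  exact Q.not_dvd_index (h2.trans (Subgroup.index_dvd_of_le hQ))

/-- Centralisers of non-coprime orders are conjugate. -/
theorem conj_of_common {y y' : G} (hy : y ∈ Yset G) (hy' : y' ∈ Yset G) {p : ℕ} (hp : p.Prime)
    (hd : p ∣ kf y) (hd' : p ∣ kf y') : ∃ g : G, C0 y' = cj g (C0 y) := by
  haveI : Fact p.Prime := ⟨hp⟩
  obtain ⟨Q, hQ⟩ := exists_sylow h hy hp hd
  obtain ⟨Q', hQ'⟩ := exists_sylow h hy' hp hd'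
  obtain ⟨g, rfl⟩ := MulAction.exists_smul_eq G Q Q'
  obtain ⟨x, hx⟩ := exists_prime_orderOf_dvd_card' (G := (Q : Subgroup G)) p
    (Q.dvd_card_of_dvd_card (hd.trans (Subgroup.card_subgroup_dvd_card _)))
  have hx1 : (x : G) ≠ 1 := fun e => by
    rw [show x = 1 from Subtype.ext e, orderOf_one] at hx
    exact hp.ne_one hx.symm
  have hxK' : g * (x : G) * g⁻¹ ∈ C0 y' := hQ' (by
    rw [Sylow.coe_subgroup_smul]
    exact ⟨x, x.2, rfl⟩)
  refine ⟨g, ?_⟩
  rw [← C0_eq h hy' hxK' fun e => hx1 (conj_eq_one_iff.1 e), ← C0_eq h hy (hQ x.2) hx1]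
  exact centralizer_conj g (x : G)

/-- Centralisers of one order: the number of their elements. -/
theorem ncard_class {y₀ : G} (hy₀ : y₀ ∈ Yset G) :
    {y ∈ Yset G | kf y = kf y₀}.ncard =
      (Subgroup.normalizer (C0 y₀ : Set G)).index * (kf y₀ - 1) := by
  set N := Subgroup.normalizer (C0 y₀ : Set G) with hN
  have hk : 1 < kf y₀ := by
    haveI : Nontrivial (C0 y₀) :=
      ⟨⟨⟨y₀, self_mem_C0 y₀⟩, 1, fun e => hy₀.1 (congrArg Subtype.val e)⟩⟩
    exact Finite.one_lt_card
  have hX : Nat.card ↥((C0 y₀ : Set G) \ {1}) = kf y₀ - 1 := by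
    rw [Nat.card_coe_set_eq, Set.ncard_sdiff_singleton_of_mem (one_mem _), ncard_coe]
    rfl
  rw [← Nat.card_coe_set_eq, Subgroup.index_eq_card, ← hX, ← Nat.card_prod]
  have hc : ∀ q : G ⧸ N, ∀ x : ↥((C0 y₀ : Set G) \ {1}),
      q.out * x.1 * q.out⁻¹ ∈ Yset G ∧ C0 (q.out * x.1 * q.out⁻¹) = cj q.out (C0 y₀) := by
    intro q x
    refine ⟨conj_Y (mem_Y h hy₀ x.2.1 x.2.2), ?_⟩
    exact (centralizer_conj _ _).trans (congrArg (cj q.out) (C0_eq h hy₀ x.2.1 x.2.2))
  refine (Nat.card_congr (Equiv.ofBijective (fun p : (G ⧸ N) × ↥((C0 y₀ : Set G) \ {1}) =>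
    (⟨p.1.out * p.2.1 * p.1.out⁻¹, (hc p.1 p.2).1, ?_⟩ : ↥{y ∈ Yset G | kf y = kf y₀})) ⟨?_, ?_⟩)).symm
  · show Nat.card (C0 _) = Nat.card (C0 y₀)
    rw [(hc p.1 p.2).2, card_cj]
  · intro p p' e
    have e' : p.1.out * p.2.1 * p.1.out⁻¹ = p'.1.out * p'.2.1 * p'.1.out⁻¹ := congrArg Subtype.val e
    have h1 := (hc p.1 p.2).2
    rw [e', (hc p'.1 p'.2).2, cj_eq_cj] at h1
    have hq : p.1 = p'.1 := by
      rw [← QuotientGroup.out_eq' p.1, ← QuotientGroup.out_eq' p'.1, QuotientGroup.eq]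
      exact h1
    rw [hq, mul_left_inj, mul_right_inj] at e'
    exact Prod.ext hq (Subtype.ext e')
  · rintro ⟨y, hy, hky⟩
    obtain ⟨p, hp, hpd⟩ := Nat.exists_prime_and_dvd (ne_of_gt hk)
    obtain ⟨g, hg⟩ := conj_of_common h hy₀ hy hp hpd (hky ▸ hpd)
    obtain ⟨q, hq⟩ : ∃ q : G ⧸ N, q = (g : G ⧸ N) := ⟨_, rfl⟩
    have hgq : cj g (C0 y₀) = cj q.out (C0 y₀) := by
      rw [cj_eq_cj, ← hN, ← QuotientGroup.eq, QuotientGroup.out_eq', hq]
    have hm : q.out⁻¹ * y * q.out ∈ C0 y₀ := by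
      rw [← mem_cj, ← hgq, ← hg]; exact self_mem_C0 y
    refine ⟨(q, ⟨q.out⁻¹ * y * q.out, hm, fun e => hy.1 ?_⟩), Subtype.ext ?_⟩
    · calc y = q.out * (q.out⁻¹ * y * q.out) * q.out⁻¹ := by group
        _ = 1 := by rw [Set.mem_singleton_iff.1 e]; group
    · show q.out * (q.out⁻¹ * y * q.out) * q.out⁻¹ = y
      group

end Cfsg.Agent.CNSimple.L34
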