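import Cfsg.Agent.Lib.CNSimple.Almost

/-!
# Local subgroups with their Sylow `2`-subgroups and largest normal `2`-subgroups
-/

set_option autoImplicit false
set_option linter.style.haveILetI false
set_option linter.unusedSectionVars false

namespace Cfsg.Agent.CNSimple

open Cfsg.Agent.Invol

universe u

variable {G : Type u} [Group G] [Finite G]

/-- The elements of order at most two of the centre of a subgroup. -/
def omegaZ (X : Subgroup G) : Subgroup G where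
  carrier := {x | x ∈ X ∧ x * x = 1 ∧ ∀ a ∈ X, x * a = a * x}
  one_mem' := ⟨X.one_mem, one_mul 1, fun a _ => by rw [one_mul, mul_one]⟩
  mul_mem' := by
    rintro x y ⟨hx, hx2, hxc⟩ ⟨hy, hy2, hyc⟩
    refine ⟨X.mul_mem hx hy, ?_, fun a ha => ?_⟩
    · rw [show x * y * (x * y) = x * (y * x) * y by group, hyc x hx,
        show x * (x * y) * y = x * x * (y * y) by group, hx2, hy2, one_mul]
    · rw [mul_assoc, hyc a ha, ← mul_assoc, hxc a ha, mul_assoc]
  inv_mem' := by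
    rintro x ⟨hx, hx2, hxc⟩
    rw [inv_eq_of_mul_eq_one_right hx2]
    exact ⟨hx, hx2, hxc⟩

theorem omegaZ_le (X : Subgroup G) : omegaZ X ≤ X := fun _ h => h.1

theorem omegaZ_elem (X : Subgroup G) : Elem (omegaZ X) :=
  ⟨fun _ h => h.2.1, fun _ ha b hb => ha.2.2 b hb.1⟩

theorem omegaZ_central {X : Subgroup G} {v a : G} (hv : v ∈ omegaZ X) (ha : a ∈ X) : v * a = a * v :=
  hv.2.2 a ha

theorem normalizer_le_omegaZ (X : Subgroup G) :
    Subgroup.normalizer (X : Set G) ≤ Subgroup.normalizer (omegaZ X : Set G) := by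
  intro g hg
  have key : ∀ h ∈ Subgroup.normalizer (X : Set G), ∀ v ∈ omegaZ X, h * v * h⁻¹ ∈ omegaZ X := by
    intro h hh v hv
    refine ⟨(Subgroup.mem_normalizer_iff.1 hh v).1 hv.1, ?_, fun a ha => ?_⟩
    · rw [show h * v * h⁻¹ * (h * v * h⁻¹) = h * (v * v) * h⁻¹ by group, hv.2.1, mul_one, mul_inv_cancel]
    · have := hv.2.2 (h⁻¹ * a * h) (by
        have := (Subgroup.mem_normalizer_iff.1 (inv_mem hh) a).1 ha
        rwa [inv_inv] at this)
      calc h * v * h⁻¹ * a = h * (v * (h⁻¹ * a * h)) * h⁻¹ := by group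
        _ = a * (h * v * h⁻¹) := by rw [this]; group
  refine Subgroup.mem_normalizer_iff.2 fun v => ⟨key g hg v, fun hv => ?_⟩
  have := key _ (inv_mem hg) _ hv
  rwa [inv_inv, show g⁻¹ * (g * v * g⁻¹) * g = v by group] at this

/-- Elementary abelian subgroups of largest order. -/
def MaxElem (T A : Subgroup G) : Prop :=
  Elem A ∧ A ≤ T ∧ ∀ B : Subgroup G, Elem B → B ≤ T → Nat.card B ≤ Nat.card A

/-- `T` has an elementary abelian subgroup of largest order not contained in `X`. -/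
def Offender (T X : Subgroup G) : Prop := ∃ A, MaxElem T A ∧ ¬ A ≤ X

/-- A subgroup with a Sylow `2`-subgroup and a non-trivial largest normal `2`-subgroup. -/
structure Loc (L T X : Subgroup G) : Prop where
  T_pGroup : IsPGroup 2 T
  T_le : T ≤ L
  T_max : ∀ R : Subgroup G, R ≤ L → IsPGroup 2 R → T ≤ R → R = T
  X_le : X ≤ T
  X_norm : L ≤ Subgroup.normalizer (X : Set G)
  X_ne : X ≠ ⊥
  X_max : ∀ N : Subgroup G, N ≤ L → IsPGroup 2 N → L ≤ Subgroup.normalizer (N : Set G) → N ≤ X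

theorem Loc.exists_loc {L T R : Subgroup G} (hT : IsPGroup 2 T) (hTL : T ≤ L)
    (hTmax : ∀ P : Subgroup G, P ≤ L → IsPGroup 2 P → T ≤ P → P = T) (hR : IsPGroup 2 R) (hRL : R ≤ L)
    (hR1 : R ≠ ⊥) (hRn : L ≤ Subgroup.normalizer (R : Set G)) : ∃ X, Loc L T X ∧ R ≤ X := by
  haveI : Fact (Nat.Prime 2) := ⟨Nat.prime_two⟩
  set X := (Cfsg.pCore 2 L).map L.subtype with hX
  have hXp : IsPGroup 2 X := LEBasic.pCoreMap_isPGroup L
  have hXn : L ≤ Subgroup.normalizer (X : Set G) := by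
    intro g hg
    have := Subgroup.le_normalizer_map L.subtype (H := Cfsg.pCore 2 L)
    refine this ⟨⟨g, hg⟩, ?_, rfl⟩
    rw [Subgroup.normalizer_eq_top]; exact Subgroup.mem_top _
  have hmax : ∀ N : Subgroup G, N ≤ L → IsPGroup 2 N → L ≤ Subgroup.normalizer (N : Set G) → N ≤ X :=
    fun N hN hp hn => LEBasic.le_pCoreMap hN hn hp
  refine ⟨X, ⟨hT, hTL, hTmax, ?_, hXn, fun e => hR1 (le_bot_iff.1 (e ▸ hmax R hRL hR hRn)), hmax⟩,
    hmax R hRL hR hRn⟩
  have hXL : X ≤ L := Subgroup.map_subtype_le _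
  rw [← hTmax (T ⊔ X) (sup_le hTL hXL) (IsPGroup.to_sup_of_normal_right' hT hXp (hTL.trans hXn)) le_sup_left]
  exact le_sup_right

namespace Loc

variable {L T X : Subgroup G} (h : Loc L T X)
include h

theorem X_pGroup : IsPGroup 2 X := h.T_pGroup.to_le h.X_le

theorem X_le_L : X ≤ L := h.X_le.trans h.T_le

theorem isO2 : IsO2 (X.subgroupOf L) := by
  refine ⟨(Subgroup.normal_subgroupOf_iff_le_normalizer h.X_le_L).2 h.X_norm,
    h.X_pGroup.comap_subtype, fun N hN hp => ?_⟩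
  haveI := hN
  have hle := h.X_max (N.map L.subtype) (Subgroup.map_subtype_le N) (hp.map _) (fun g hg => by
    refine Subgroup.le_normalizer_map L.subtype ⟨⟨g, hg⟩, ?_, rfl⟩
    rw [Subgroup.normalizer_eq_top]; exact Subgroup.mem_top _)
  exact fun a ha => hle ⟨a, ha, rfl⟩

theorem V_le : omegaZ X ≤ X := omegaZ_le X

theorem V_pGroup : IsPGroup 2 (omegaZ X) := h.X_pGroup.to_le h.V_le

theorem V_norm : L ≤ Subgroup.normalizer (omegaZ X : Set G) := h.X_norm.trans (normalizer_le_omegaZ X)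

theorem V_ne : omegaZ X ≠ ⊥ := by
  haveI : Fact (Nat.Prime 2) := ⟨Nat.prime_two⟩
  obtain ⟨⟨w, hwX, hwc⟩, hw1⟩ :=
    Subgroup.ne_bot_iff_exists_ne_one.1 (CN.exists_center_inf h.X_pGroup h.X_ne)
  obtain ⟨k, hk⟩ := order_two_pow h.X_pGroup hwX
  obtain ⟨j, hj⟩ := exists_pow_invol (fun e => hw1 (Subtype.ext e)) hk
  refine fun e => ne_one hj (Subgroup.mem_bot.1 (e ▸ (⟨pow_mem hwX j, mul_self hj, fun a ha =>
    ((show Commute a w from hwc a ha).pow_right j).eq.symm⟩ : w ^ j ∈ omegaZ X)))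

theorem conj_V {g v : G} (hg : g ∈ L) (hv : v ∈ omegaZ X) : g * v * g⁻¹ ∈ omegaZ X :=
  (Subgroup.mem_normalizer_iff.1 (h.V_norm hg) v).1 hv

theorem exists_fixed {U : Subgroup G} (hU : U ≤ T) (hU1 : U ≠ ⊥)
    (hUn : T ≤ Subgroup.normalizer (U : Set G)) : ∃ z ∈ U, z ≠ 1 ∧ T ≤ Ct z := by
  haveI : Fact (Nat.Prime 2) := ⟨Nat.prime_two⟩
  haveI : (U.subgroupOf T).Normal := (Subgroup.normal_subgroupOf_iff_le_normalizer hU).2 hUn
  haveI : Group.IsNilpotent T := h.T_pGroup.isNilpotent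
  obtain ⟨⟨⟨z, hzT⟩, hzU, hzc⟩, hz1⟩ := Subgroup.ne_bot_iff_exists_ne_one.1
    (SolvStruct.inf_center_ne_bot (G := T) (N := U.subgroupOf T) (fun e => hU1 (by
      rw [Subgroup.subgroupOf_eq_bot] at e
      exact disjoint_self.1 (e.mono_right hU))))
  exact ⟨z, hzU, fun e => hz1 (Subtype.ext (Subtype.ext e)), fun t ht =>
    mem_Ct.2 (congrArg Subtype.val (Subgroup.mem_center_iff.1 hzc ⟨t, ht⟩))⟩

variable (hc : CIT G)
include hc

theorem cent {g : G} (hg : g ∈ L) (hgV : ∀ v ∈ omegaZ X, g * v = v * g) : g ∈ X := by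
  haveI : ((omegaZ X).subgroupOf L).Normal :=
    (Subgroup.normal_subgroupOf_iff_le_normalizer (h.V_le.trans h.X_le_L)).2 h.V_norm
  have hV1 : (omegaZ X).subgroupOf L ≠ ⊥ := fun e => h.V_ne (by
    rw [Subgroup.subgroupOf_eq_bot] at e
    exact disjoint_self.1 (e.mono_right (h.V_le.trans h.X_le_L)))
  have := h.isO2.centralizer_le (hc.subgroup L) (V := (omegaZ X).subgroupOf L)
    h.V_pGroup.comap_subtype hV1 (x := ⟨g, hg⟩) (Subgroup.mem_centralizer_iff.2 fun v hv =>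
      Subtype.ext (hgV _ hv).symm)
  exact this

theorem exists_inverted {s₀ : G} (hs : s₀ ∈ L) (hsX : s₀ ∉ X) (hsq : s₀ * s₀ ∈ X) :
    ∃ s y : G, orderOf s = 2 ∧ s ∈ L ∧ y ∈ L ∧ s₀⁻¹ * s ∈ X ∧ s ∉ X ∧ (orderOf y).Prime ∧
      Odd (orderOf y) ∧ s * y * s⁻¹ = y⁻¹ := by
  obtain ⟨s, y, h1, h2, h3, h4, h5, h6⟩ := h.isO2.exists_inverted (hc.subgroup L)
    (s₀ := ⟨s₀, hs⟩) (fun e => hsX e) hsq
  exact ⟨s, y, by rwa [Subgroup.orderOf_coe], s.2, y.2, h2, h3, by rwa [Subgroup.orderOf_coe],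
    by rwa [Subgroup.orderOf_coe], congrArg Subtype.val h6⟩

theorem sqrt {s₀ : G} (hs : s₀ ∈ L) (hsX : s₀ ∉ X) (hsq : s₀ * s₀ ∈ X) :
    Nat.card (omegaZ X ⊓ Ct s₀ : Subgroup G) * Nat.card (omegaZ X ⊓ Ct s₀ : Subgroup G) ≤
      Nat.card (omegaZ X) := by
  obtain ⟨s, y, hso, hsL, hyL, hsx, -, hyp, hyo, hsy⟩ := h.exists_inverted hc hs hsX hsq
  have he : omegaZ X ⊓ Ct s₀ = omegaZ X ⊓ Ct s := by
    ext v
    simp only [Subgroup.mem_inf, mem_Ct]
    refine and_congr_right fun hv => ?_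
    have hx := omegaZ_central hv hsx
    constructor
    · intro hv'
      calc v * s = v * s₀ * (s₀⁻¹ * s) := by group
        _ = s₀ * (v * (s₀⁻¹ * s)) := by rw [hv', mul_assoc]
        _ = s₀ * (s₀⁻¹ * s * v) := by rw [hx]
        _ = s * v := by group
    · intro hv'
      refine mul_right_cancel (b := s₀⁻¹ * s) ?_
      calc v * s₀ * (s₀⁻¹ * s) = v * s := by group
        _ = s₀ * (s₀⁻¹ * s * v) := by rw [hv']; group
        _ = s₀ * v * (s₀⁻¹ * s) := by rw [← hx, mul_assoc]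
  rw [he]
  exact sqrt_bound hc h.V_pGroup hso hyo (fun e => hyp.ne_one (by rw [e, orderOf_one])) hsy (h.V_norm hyL)

end Loc

end Cfsg.Agent.CNSimple
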