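import Cfsg.Agent.Lib.CNSimple.Loc
import Cfsg.Agent.Lib.ZassAbelian.Bound

/-!
# Locals in which an elementary abelian subgroup of largest order is not in the largest normal
`2`-subgroup: the natural module
-/

set_option autoImplicit false
set_option linter.style.haveILetI false
set_option linter.unusedSectionVars false

namespace Cfsg.Agent.CNSimple

open Cfsg.Agent.Invol MulAction

universe u

variable {G : Type u} [Group G] [Finite G]

/-- The dichotomy for smaller simple groups. -/
def IHyp (G : Type u) [Group G] : Prop :=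
  ∀ (H : Type u) [Group H] [Finite H], Nat.card H < Nat.card G → CIT H → IsSimpleGroup H →
    (∃ a b : H, a * b ≠ b * a) → (∃ K : Subgroup H, TIHyp K) ∨ SFourCfg H

/-- A local subgroup acting naturally on `omegaZ X`. -/
structure Natural (L T X : Subgroup G) (q : ℕ) : Prop where
  loc : Loc L T X
  two_le : 2 ≤ q
  card_V : Nat.card (omegaZ X) = q * q
  relIndex : X.relIndex T = q
  card_Z : Nat.card (omegaZ X ⊓ Subgroup.centralizer (T : Set G) : Subgroup G) = q
  trans : ∀ a ∈ omegaZ X, a ≠ 1 → ∀ b ∈ omegaZ X, b ≠ 1 → ∃ g ∈ L, g * a * g⁻¹ = b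
  three : ∃ y ∈ L, orderOf y = 3

theorem three_dvd_sq_sub_one {a : ℕ} : 3 ∣ 2 ^ a * 2 ^ a - 1 := by
  have h : 2 ^ a * 2 ^ a % 3 = 1 := by
    rw [← pow_add, ← two_mul, pow_mul, Nat.pow_mod]; norm_num
  omega

namespace TIHyp

variable {K : Subgroup G} (h : TIHyp K)
include h

theorem of_invol {a : G} (ha : orderOf a = 2) : TIHyp (Ct a) := by
  obtain ⟨z, hzK, hz, -⟩ := h.exists_central
  obtain ⟨g, hg⟩ := isConj_iff.1 (h.isConj hz ha)
  have e : Ct a = K.map (MulAut.conj g).toMonoidHom := by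
    rw [← h.Ct_invol hz hzK]
    ext x
    rw [conj_mem_map, mem_Ct, mem_Ct, ← hg]
    constructor
    · intro e'
      calc g⁻¹ * x * g * z = g⁻¹ * (x * (g * z * g⁻¹)) * g := by group
        _ = z * (g⁻¹ * x * g) := by rw [e']; group
    · intro e'
      calc x * (g * z * g⁻¹) = g * (g⁻¹ * x * g * z) * g⁻¹ := by group
        _ = g * z * g⁻¹ * x := by rw [e']; group
  rw [e]
  exact h.map (MulAut.conj g)

theorem index_K [IsSimpleGroup G] : K.index = (Nat.card K + 1) * h.m := by
  classical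
  haveI : Fintype (G ⧸ h.N) := Fintype.ofFinite _
  obtain ⟨v, hv, hvN⟩ := h.exists_invol_not_mem
  set x₀ : G ⧸ h.N := ((1 : G) : G ⧸ h.N) with hx₀
  set y₀ : G ⧸ h.N := v • x₀ with hy₀
  have hyx : y₀ ≠ x₀ := fun e => hvN (h.fix_base.1 e)
  have hN : h.N.index = Nat.card K + 1 := by
    have e : Nat.card K = Nat.card {w : G ⧸ h.N // w ≠ x₀} := by
      refine Nat.card_congr (Equiv.ofBijective
        (fun a : K => (⟨(a : G) • y₀, h.smul_ne_base (h.K_le_N a.2) hyx⟩ : {w : G ⧸ h.N // w ≠ x₀})) ⟨?_, ?_⟩)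
      · intro a b e'
        obtain ⟨c, -, hc⟩ := h.regular hyx (h.smul_ne_base (h.K_le_N b.2) hyx)
        exact (hc a (congrArg Subtype.val e')).trans (hc b rfl).symm
      · rintro ⟨w, hw⟩
        obtain ⟨c, hc, -⟩ := h.regular hyx hw
        exact ⟨c, Subtype.ext hc⟩
    rw [Subgroup.index_eq_card, e, Nat.card_eq_fintype_card, Nat.card_eq_fintype_card,
      Fintype.card_subtype_compl, Fintype.card_subtype_eq]
    have : 0 < Fintype.card (G ⧸ h.N) := Fintype.card_pos_iff.2 ⟨x₀⟩
    omega
  rw [← Subgroup.relIndex_mul_index h.K_le_N, hN]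
  have := h.relIndex_eq_m
  rw [mul_comm]
  exact congrArg _ this

end TIHyp

theorem card_dvd_invariant {W : Type u} [Group W] [Finite W] {Q : Type u} [Group Q] [Finite Q]
    (φ : Q →* MulAut W) (D : Subgroup Q) (hfree : ∀ d ∈ D, ∀ w : W, w ≠ 1 → φ d w = w → d = 1)
    (S : Set W) (hS : ∀ d ∈ D, ∀ w ∈ S, φ d w ∈ S) (h1 : (1 : W) ∉ S) :
    Nat.card D ∣ Nat.card S := by
  letI : MulAction D S :=
    { smul := fun d w => ⟨φ d w, hS d d.2 w w.2⟩
      one_smul := fun w => Subtype.ext (by
        show φ ((1 : D) : Q) (w : W) = w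
        rw [Subgroup.coe_one, map_one, MulAut.one_apply])
      mul_smul := fun c d w => Subtype.ext (by
        show φ ((c * d : D) : Q) (w : W) = φ c (φ d w)
        rw [Subgroup.coe_mul, map_mul, MulAut.mul_apply]) }
  refine ZassAb.card_dvd_of_free fun d w e => Subtype.ext ?_
  exact hfree d d.2 w (fun e1 => h1 (e1 ▸ w.2)) (congrArg Subtype.val e)

namespace Loc

variable {L T X : Subgroup G} (h : Loc L T X) (hc : CIT G)
include h hc

theorem Ct_eq_T {v : G} (hv : v ∈ omegaZ X) (hv1 : v ≠ 1) (hT : T ≤ Ct v) : L ⊓ Ct v = T := by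
  refine h.T_max _ inf_le_left ?_ (le_inf h.T_le hT)
  obtain ⟨k, hk⟩ := order_two_pow h.V_pGroup hv
  exact (hc.isPGroup hv1 hk).to_le inf_le_right

theorem odd_fix_false {y v : G} (hy : Odd (orderOf y)) (hv : v ∈ omegaZ X) (hv1 : v ≠ 1)
    (hyv : y * v * y⁻¹ = v) : y = 1 := by
  obtain ⟨k, hk⟩ := order_two_pow h.V_pGroup hv
  exact hc.odd_comm hv1 hk hy (mul_inv_eq_iff_eq_mul.1 hyv)

/-- The case of a single involution in each elementary subgroup of the quotient. -/
theorem natural_two (hTX : ¬ T ≤ X) (h4 : Nat.card (omegaZ X) ≤ 4) : Natural L T X 2 := by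
  classical
  haveI : Fact (Nat.Prime 2) := ⟨Nat.prime_two⟩
  have hVp := h.V_pGroup
  set V := omegaZ X with hV
  obtain ⟨t, htT, htX⟩ := SetLike.not_le_iff_exists.1 hTX
  have hVT : V ≤ T := h.V_le.trans h.X_le
  obtain ⟨z, hzV, hz1, hTz⟩ := h.exists_fixed hVT h.V_ne (h.T_le.trans h.V_norm)
  have hinvol : ∀ v ∈ V, v * v = 1 := fun v hv => (omegaZ_elem X).1 v hv
  -- an element of `V` moved by `t`
  obtain ⟨b, hbV, hbt⟩ : ∃ b ∈ V, t * b ≠ b * t := by
    by_contra hcon
    push Not at hcon
    exact htX (h.cent hc (h.T_le htT) hcon)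
  have hb1 : b ≠ 1 := fun e => hbt (by rw [e, mul_one, one_mul])
  have hbz : b ≠ z := fun e => hbt (by rw [e]; exact mem_Ct.1 (hTz htT))
  have hbz1 : b * z ≠ 1 := fun e => hbz (by rw [← inv_eq_of_mul_eq_one_left e, inv_eq_of_mul_eq_one_right (hinvol z hzV)])
  have hall : ∀ v ∈ V, v = 1 ∨ v = z ∨ v = b ∨ v = b * z := by
    intro v hv
    by_contra hcon
    push Not at hcon
    obtain ⟨c1, c2, c3, c4⟩ := hcon
    let f : Fin 5 → V := ![1, ⟨z, hzV⟩, ⟨b, hbV⟩, ⟨b * z, V.mul_mem hbV hzV⟩, ⟨v, hv⟩]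
    have hf : Function.Injective f := by
      have e1 : b * z ≠ z := fun e => hb1 (mul_right_cancel (e.trans (one_mul z).symm))
      have e2 : b * z ≠ b := fun e => hz1 (mul_left_cancel (e.trans (mul_one b).symm))
      intro i j e
      fin_cases i <;> fin_cases j <;>
        simp only [f, Fin.isValue, Matrix.cons_val_zero, Matrix.cons_val_one, Matrix.cons_val,
          Subtype.ext_iff, Subgroup.coe_one] at e ⊢ <;>
        first
          | rfl
          | exact absurd e hz1 | exact absurd e.symm hz1 | exact absurd e hb1 | exact absurd e.symm hb1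
          | exact absurd e hbz1 | exact absurd e.symm hbz1 | exact absurd e c1 | exact absurd e.symm c1
          | exact absurd e hbz | exact absurd e.symm hbz | exact absurd e e1 | exact absurd e.symm e1
          | exact absurd e c2 | exact absurd e.symm c2 | exact absurd e e2 | exact absurd e.symm e2
          | exact absurd e c3 | exact absurd e.symm c3 | exact absurd e c4 | exact absurd e.symm c4
    have := Nat.card_le_card_of_injective f hf
    simp at this
    omega
  have hcard : Nat.card V = 2 * 2 := by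
    obtain ⟨n, hn⟩ := IsPGroup.iff_card.1 hVp
    have h3 : 3 ≤ Nat.card V := by
      let f : Fin 3 → V := ![1, ⟨z, hzV⟩, ⟨b, hbV⟩]
      have hf : Function.Injective f := by
        intro i j e
        fin_cases i <;> fin_cases j <;>
          simp only [f, Fin.isValue, Matrix.cons_val_zero, Matrix.cons_val_one, Matrix.cons_val,
            Subtype.ext_iff, Subgroup.coe_one] at e ⊢ <;>
          first
            | rfl
            | exact absurd e hz1 | exact absurd e.symm hz1 | exact absurd e hb1 | exact absurd e.symm hb1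
            | exact absurd e hbz | exact absurd e.symm hbz
      simpa using Nat.card_le_card_of_injective f hf
    rw [hn] at h3 h4 ⊢
    rcases n with _ | _ | _ | n
    · simp at h3
    · simp at h3
    · norm_num
    · have : 2 ^ (n + 3) = 2 ^ n * 8 := by rw [pow_add]; norm_num
      have := Nat.one_le_two_pow (n := n)
      omega
  have hconj : ∀ g ∈ T, g * b * g⁻¹ = b ∨ g * b * g⁻¹ = b * z := by
    intro g hg
    rcases hall _ (h.conj_V (h.T_le hg) hbV) with e | e | e | e
    · exact absurd (conj_eq_one_iff.1 e) hb1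
    · refine absurd ?_ hbz
      have e' := mem_Ct.1 (hTz hg)
      calc b = g⁻¹ * (g * b * g⁻¹) * g := by group
        _ = g⁻¹ * (z * g) := by rw [e, mul_assoc]
        _ = z := by rw [← e', inv_mul_cancel_left]
    · exact Or.inl e
    · exact Or.inr e
  have hmemX : ∀ g ∈ T, g * b * g⁻¹ = b → g ∈ X := by
    intro g hg e
    refine h.cent hc (h.T_le hg) fun v hv => ?_
    have e1 : g * b = b * g := mul_inv_eq_iff_eq_mul.1 e
    have e2 : g * z = z * g := mem_Ct.1 (hTz hg)
    rcases hall v hv with rfl | rfl | rfl | rfl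
    · rw [mul_one, one_mul]
    · exact e2
    · exact e1
    · rw [← mul_assoc, e1, mul_assoc, e2, ← mul_assoc]
  have hidx : X.relIndex T = 2 := by
    have hle : X.relIndex T ≤ 2 := by
      let f : (T ⧸ X.subgroupOf T) → Bool := fun c => decide (((c.out : T) : G) * b * ((c.out : T) : G)⁻¹ = b)
      have hf : Function.Injective f := by
        intro c d e
        have e' : ((c.out : T) : G) * b * ((c.out : T) : G)⁻¹ = ((d.out : T) : G) * b * ((d.out : T) : G)⁻¹ := by
          simp only [f, decide_eq_decide] at e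
          rcases hconj _ (c.out : T).2 with h1 | h1 <;> rcases hconj _ (d.out : T).2 with h2 | h2
          · rw [h1, h2]
          · rw [h1, e.1 h1]
          · rw [h2, e.2 h2]
          · rw [h1, h2]
        rw [← QuotientGroup.out_eq' c, ← QuotientGroup.out_eq' d, QuotientGroup.eq, Subgroup.mem_subgroupOf]
        refine hmemX _ (mul_mem (inv_mem (c.out : T).2) (d.out : T).2) ?_
        push_cast
        calc (((c.out : T) : G)⁻¹ * ((d.out : T) : G)) * b * (((c.out : T) : G)⁻¹ * ((d.out : T) : G))⁻¹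
            = ((c.out : T) : G)⁻¹ * (((d.out : T) : G) * b * ((d.out : T) : G)⁻¹) * ((c.out : T) : G) := by group
          _ = b := by rw [← e']; group
      have := Nat.card_le_card_of_injective f hf
      rw [Nat.card_eq_fintype_card (α := Bool), Fintype.card_bool] at this
      exact this
    have hne : X.relIndex T ≠ 1 := fun e => hTX (Subgroup.relIndex_eq_one.1 e)
    have hne0 : X.relIndex T ≠ 0 := Subgroup.index_ne_zero_of_finite
    omega
  have hZ : Nat.card (V ⊓ Subgroup.centralizer (T : Set G) : Subgroup G) = 2 := by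
    have e : ((V ⊓ Subgroup.centralizer (T : Set G) : Subgroup G) : Set G) = {1, z} := by
      ext v
      simp only [Subgroup.coe_inf, Set.mem_inter_iff, SetLike.mem_coe, Set.mem_insert_iff, Set.mem_singleton_iff]
      constructor
      · rintro ⟨hv, hvT⟩
        rcases hall v hv with rfl | rfl | rfl | rfl
        · exact Or.inl rfl
        · exact Or.inr rfl
        · exact absurd (hvT t htT) hbt
        · refine absurd ?_ hbt
          have e1 : t * (b * z) = b * z * t := hvT t htT
          have e2 : t * z = z * t := mem_Ct.1 (hTz htT)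
          rw [mul_assoc b z t, ← e2, ← mul_assoc, ← mul_assoc] at e1
          exact mul_right_cancel e1
      · rintro (rfl | rfl)
        · exact ⟨V.one_mem, Subgroup.one_mem _⟩
        · exact ⟨hzV, fun g hg => mem_Ct.1 (hTz hg)⟩
    calc Nat.card (V ⊓ Subgroup.centralizer (T : Set G) : Subgroup G)
        = Set.ncard ((V ⊓ Subgroup.centralizer (T : Set G) : Subgroup G) : Set G) :=
          Nat.card_coe_set_eq _
      _ = 2 := by rw [e, Set.ncard_pair (Ne.symm hz1)]
  -- an element of odd order permuting the three involutions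
  obtain ⟨s₀, hs₀, hs₀X, hs₀2⟩ : ∃ s ∈ T, s ∉ X ∧ s * s ∈ X := by
    refine ⟨t, htT, htX, hmemX _ (mul_mem htT htT) ?_⟩
    rcases hconj t htT with e | e
    · exact absurd (mul_inv_eq_iff_eq_mul.1 e) hbt
    · have e2 : t * z * t⁻¹ = z := by rw [mem_Ct.1 (hTz htT), mul_inv_cancel_right]
      rw [show t * t * b * (t * t)⁻¹ = t * (t * b * t⁻¹) * t⁻¹ by group, e,
        show t * (b * z) * t⁻¹ = t * b * t⁻¹ * (t * z * t⁻¹) by group, e, e2, mul_assoc, hinvol z hzV, mul_one]
  obtain ⟨s, y, -, -, hyL, -, -, hyp, hyo, -⟩ := h.exists_inverted hc (h.T_le hs₀) hs₀X hs₀2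
  have hy1 : y ≠ 1 := fun e => hyp.ne_one (by rw [e, orderOf_one])
  have hy2 : y * y ≠ 1 := fun e => hy1 <| orderOf_eq_one_iff.1 <|
    Nat.eq_one_of_dvd_coprimes (Nat.coprime_two_right.2 hyo) dvd_rfl
      (orderOf_dvd_of_pow_eq_one (by rw [pow_two, e]))
  have hy2o : Odd (orderOf (y * y)) := by
    rw [← pow_two, (Nat.coprime_two_right.2 hyo).orderOf_pow]; exact hyo
  have hmove : ∀ w : G, Odd (orderOf w) → w ≠ 1 → ∀ a ∈ V, a ≠ 1 → w * a * w⁻¹ ≠ a :=
    fun w hw hw1 a ha ha1 e => hw1 (h.odd_fix_false hc hw ha ha1 e)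
  have horbit : ∀ a ∈ V, a ≠ 1 → a = z ∨ a = y * z * y⁻¹ ∨ a = y * y * z * (y * y)⁻¹ := by
    intro a ha ha1
    have hyz := h.conj_V hyL hzV
    have hyyz := h.conj_V (L.mul_mem hyL hyL) hzV
    have d1 := hmove y hyo hy1 z hzV hz1
    have d2 := hmove _ hy2o hy2 z hzV hz1
    have d3 : y * y * z * (y * y)⁻¹ ≠ y * z * y⁻¹ := fun e => d1 (by
      calc y * z * y⁻¹ = y⁻¹ * (y * y * z * (y * y)⁻¹) * y := by group
        _ = z := by rw [e]; group)
    have n1 : y * z * y⁻¹ ≠ 1 := fun e => hz1 (conj_eq_one_iff.1 e)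
    have n2 : y * y * z * (y * y)⁻¹ ≠ 1 := fun e => hz1 (conj_eq_one_iff.1 e)
    rcases hall a ha with e | e | e | e
    · exact absurd e ha1
    · exact Or.inl e
    all_goals
      rcases hall _ hyz with f1 | f1 | f1 | f1 <;> rcases hall _ hyyz with f2 | f2 | f2 | f2
      all_goals first
        | exact absurd f1 n1 | exact absurd f1 d1 | exact absurd f2 n2 | exact absurd f2 d2
        | exact absurd (f2.trans f1.symm) d3
        | exact Or.inr (Or.inl (e.trans f1.symm)) | exact Or.inr (Or.inr (e.trans f2.symm))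
  have hto : ∀ a ∈ V, a ≠ 1 → ∃ g ∈ L, g * z * g⁻¹ = a := fun a ha ha1 => by
    rcases horbit a ha ha1 with e | e | e
    · exact ⟨1, L.one_mem, by rw [e]; group⟩
    · exact ⟨y, hyL, e.symm⟩
    · exact ⟨y * y, L.mul_mem hyL hyL, e.symm⟩
  refine ⟨h, le_rfl, hcard, hidx, hZ, fun a ha ha1 c hc' hc1 => ?_, ⟨y, hyL, ?_⟩⟩
  · obtain ⟨g, hg, rfl⟩ := hto a ha ha1
    obtain ⟨g', hg', rfl⟩ := hto c hc' hc1
    exact ⟨g' * g⁻¹, L.mul_mem hg' (L.inv_mem hg), by group⟩
  · haveI := Fact.mk Nat.prime_three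
    refine orderOf_eq_prime ?_ hy1
    refine h.odd_fix_false hc (hyo.of_dvd_nat (orderOf_pow_dvd 3)) hzV hz1 ?_
    have hy3 : y ^ 3 = y * (y * y) := by rw [pow_succ, pow_two, mul_assoc]
    have hmem := h.conj_V (L.mul_mem hyL (L.mul_mem hyL hyL)) hzV
    have n3 : y * (y * y) * z * (y * (y * y))⁻¹ ≠ 1 := fun e => hz1 (conj_eq_one_iff.1 e)
    rw [hy3]
    rcases horbit _ hmem n3 with e | e | e
    · exact e
    · exact absurd (show y * y * z * (y * y)⁻¹ = z by
        calc y * y * z * (y * y)⁻¹ = y⁻¹ * (y * (y * y) * z * (y * (y * y))⁻¹) * y := by group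
          _ = z := by rw [e]; group) (hmove _ hy2o hy2 z hzV hz1)
    · exact absurd (show y * z * y⁻¹ = z by
        calc y * z * y⁻¹ = (y * y)⁻¹ * (y * (y * y) * z * (y * (y * y))⁻¹) * (y * y) := by group
          _ = z := by rw [e]; group) (hmove _ hyo hy1 z hzV hz1)

end Loc

end Cfsg.Agent.CNSimple
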