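import Cfsg.Agent.Lib.CNSimple.Natural
import Cfsg.Agent.Lib.CentrallyLarge.Basic

/-!
# Offenders force the natural module
-/

set_option autoImplicit false
set_option linter.style.haveILetI false
set_option linter.unusedSectionVars false

namespace Cfsg.Agent.CNSimple

open scoped Pointwise
open Cfsg.Agent.Invol

universe u

variable {G : Type u} [Group G] [Finite G]

theorem pow_two_split {a b : ℕ} (hab : a < b) (hb : b ≤ 2 * a) (hd : 2 ^ a - 1 ∣ 2 ^ b - 2 ^ a) :
    b = 2 * a := by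
  have e : 2 ^ b - 2 ^ a = 2 ^ a * (2 ^ (b - a) - 1) := by
    rw [Nat.mul_sub_one, ← pow_add, Nat.add_sub_cancel' hab.le]
  rw [e] at hd
  have hcop : Nat.Coprime (2 ^ a - 1) (2 ^ a) := by
    refine Nat.Coprime.pow_right a (Nat.coprime_two_right.2 ?_)
    rw [Nat.odd_iff]
    have : 2 ^ a % 2 = 0 := by
      rw [Nat.pow_mod]; simp [show a ≠ 0 by omega]
    have := Nat.one_le_two_pow (n := a)
    omega
  have h1 := hcop.dvd_of_dvd_mul_left hd
  have h2 : 0 < 2 ^ (b - a) - 1 := by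
    have := Nat.one_lt_two_pow (n := b - a) (by omega)
    omega
  have h3 := Nat.le_of_dvd h2 h1
  have h4 : 2 ^ a ≤ 2 ^ (b - a) := by omega
  have := (Nat.pow_le_pow_iff_right (by norm_num : 1 < 2)).1 h4
  omega

theorem card_elem_two_pow {A : Subgroup G} (hA : IsPGroup 2 A) : ∃ n, Nat.card A = 2 ^ n := by
  haveI : Fact (Nat.Prime 2) := ⟨Nat.prime_two⟩
  exact IsPGroup.iff_card.1 hA

theorem Elem.isPGroup {A : Subgroup G} (hA : Elem A) : IsPGroup 2 A := fun a =>
  ⟨1, Subtype.ext (by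
    rw [pow_one, pow_two]
    exact hA.1 a a.2)⟩

namespace Loc

variable {L T X : Subgroup G} (h : Loc L T X)
include h

/-- An elementary abelian subgroup of largest order outside `X` forces the natural module. -/
theorem natural (hc : CIT G) (ih : IHyp G) (hL : Nat.card L < Nat.card G) (hoff : Offender T X) :
    ∃ q, Natural L T X q := by
  classical
  haveI : Fact (Nat.Prime 2) := ⟨Nat.prime_two⟩
  obtain ⟨A, ⟨hAel, hAT, hAmax⟩, hAX⟩ := hoff
  set V := omegaZ X with hVdef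
  have hAL : A ≤ L := hAT.trans h.T_le
  have hTX : ¬ T ≤ X := fun e => hAX (hAT.trans e)
  have hVT : V ≤ T := h.V_le.trans h.X_le
  haveI hX'n : (X.subgroupOf L).Normal := h.isO2.normal
  set π := QuotientGroup.mk' (X.subgroupOf L) with hπ
  have hπ1 : ∀ g : L, π g = 1 ↔ (g : G) ∈ X := fun g =>
    (QuotientGroup.eq_one_iff g).trans Subgroup.mem_subgroupOf
  let act : L →* MulAut V := (Subgroup.normalizerMonoidHom V).comp (Subgroup.inclusion h.V_norm)
  have hact : ∀ (g : L) (v : V), ((act g v : V) : G) = g * v * (g : G)⁻¹ := fun g v => rfl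
  let φ : L ⧸ X.subgroupOf L →* MulAut V := QuotientGroup.lift _ act fun g hg => by
    refine MulEquiv.ext fun v => Subtype.ext ?_
    rw [hact]
    show (g : G) * v * (g : G)⁻¹ = v
    rw [← omegaZ_central v.2 (Subgroup.mem_subgroupOf.1 hg), mul_inv_cancel_right]
  have hφ : ∀ (g : L) (v : V), ((φ (π g) v : V) : G) = g * v * (g : G)⁻¹ := hact
  have hcL : CIT L := hc.subgroup L
  have hcQ : CIT (L ⧸ X.subgroupOf L) := h.isO2.quotient_cit hcL
  have hfree : ∀ c : L ⧸ X.subgroupOf L, Odd (orderOf c) → ∀ v : V, v ≠ 1 → φ c v = v → c = 1 := by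
    intro c hco v hv1 e
    obtain ⟨g, rfl⟩ := QuotientGroup.mk'_surjective _ c
    have e' : (g : G) * v * (g : G)⁻¹ = v := (hφ g v).symm.trans (congrArg Subtype.val e)
    obtain ⟨k, hk⟩ := order_two_pow h.V_pGroup v.2
    obtain ⟨i, hi⟩ := order_two_pow (hc.isPGroup (fun e1 => hv1 (Subtype.ext e1)) hk)
      (mem_Ct.2 (mul_inv_eq_iff_eq_mul.1 e'))
    have hd : orderOf (π g) ∣ 2 ^ i := by
      rw [← hi, Subgroup.orderOf_coe]; exact orderOf_map_dvd π g
    exact orderOf_eq_one_iff.1 (Nat.eq_one_of_dvd_coprimes (coprime_two_of_odd hco i) dvd_rfl hd)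
  have hhalf : ∀ c : L ⧸ X.subgroupOf L, orderOf c = 2 →
      Nat.card {v : V // φ c v = v} * Nat.card {v : V // φ c v = v} ≤ Nat.card V := by
    intro c hco
    obtain ⟨g, rfl⟩ := QuotientGroup.mk'_surjective _ c
    have hgX : (g : G) ∉ X := fun e => ne_one hco ((hπ1 g).2 e)
    have hg2 : (g : G) * g ∈ X := (hπ1 (g * g)).1 (by rw [map_mul]; exact mul_self hco)
    have e : Nat.card {v : V // φ (π g) v = v} = Nat.card (V ⊓ Ct (g : G) : Subgroup G) :=
      Nat.card_congr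
        ⟨fun v => ⟨(v.1 : G), v.1.2, mem_Ct.2
          (mul_inv_eq_iff_eq_mul.1 ((hφ g v.1).symm.trans (congrArg Subtype.val v.2))).symm⟩,
        fun v => ⟨⟨v.1, v.2.1⟩, Subtype.ext ((hφ g _).trans (by
          show (g : G) * v.1 * (g : G)⁻¹ = v.1
          rw [← mem_Ct.1 v.2.2, mul_inv_cancel_right]))⟩, fun v => rfl, fun v => rfl⟩
    rw [e]
    exact h.sqrt hc g.2 hgX hg2
  have hQL : Nat.card (L ⧸ X.subgroupOf L) ≤ Nat.card L :=
    Nat.card_le_card_of_surjective π (QuotientGroup.mk'_surjective _)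
  have hVne : ∃ v ∈ V, v ≠ (1 : G) := by
    obtain ⟨⟨v, hv⟩, hv1⟩ := Subgroup.ne_bot_iff_exists_ne_one.1 h.V_ne
    exact ⟨v, hv, fun e => hv1 (Subtype.ext e)⟩
  -- the image of `A`
  let fA : A →* L ⧸ X.subgroupOf L := π.comp (Subgroup.inclusion hAL)
  have hkA : fA.ker = X.subgroupOf A := by
    ext a
    rw [MonoidHom.mem_ker, MonoidHom.comp_apply, hπ1, Subgroup.mem_subgroupOf]
    rfl
  set r := X.relIndex A with hr
  have hrA : Nat.card fA.range = r := by rw [← Subgroup.index_ker, hkA]; rfl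
  have hAbar : Elem fA.range := by
    refine ⟨?_, ?_⟩
    · rintro _ ⟨a, rfl⟩
      rw [← map_mul, show a * a = 1 from Subtype.ext (hAel.1 a a.2), map_one]
    · rintro _ ⟨a, rfl⟩ _ ⟨b, rfl⟩
      rw [← map_mul, ← map_mul, show a * b = b * a from Subtype.ext (hAel.2 a a.2 b b.2)]
  obtain ⟨a₀, ha₀, ha₀X⟩ := SetLike.not_le_iff_exists.1 hAX
  have hVA : Nat.card (V ⊓ A : Subgroup G) * Nat.card (V ⊓ A : Subgroup G) ≤ Nat.card V := by
    refine le_trans ?_ (h.sqrt hc (hAL ha₀) ha₀X (by rw [hAel.1 a₀ ha₀]; exact X.one_mem))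
    have hle : (V ⊓ A : Subgroup G) ≤ V ⊓ Ct a₀ := le_inf inf_le_left fun v hv =>
      mem_Ct.2 (hAel.2 v hv.2 a₀ ha₀)
    exact Nat.mul_le_mul (Subgroup.card_le_of_le hle) (Subgroup.card_le_of_le hle)
  have hineq : Nat.card V ≤ r * Nat.card (V ⊓ A : Subgroup G) := by
    set B := (A ⊓ X) ⊔ V with hB
    have hcomm : ∀ x ∈ A ⊓ X, ∀ v ∈ V, v * x = x * v := fun x hx v hv => omegaZ_central hv hx.2
    have hBel : Elem B := by
      have hVn : A ⊓ X ≤ Subgroup.normalizer (V : Set G) :=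
        inf_le_right.trans (h.X_le_L.trans h.V_norm)
      have hmem : ∀ b ∈ B, ∃ x ∈ A ⊓ X, ∃ v ∈ V, b = x * v := by
        intro b hb
        have : b ∈ ((A ⊓ X : Subgroup G) : Set G) * (V : Set G) := by
          rw [← Subgroup.coe_mul_of_left_le_normalizer_right (A ⊓ X) V hVn]; exact hb
        obtain ⟨x, hx, v, hv, e⟩ := Set.mem_mul.1 this
        exact ⟨x, hx, v, hv, e.symm⟩
      refine ⟨fun b hb => ?_, fun b hb c hc' => ?_⟩
      · obtain ⟨x, hx, v, hv, rfl⟩ := hmem b hb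
        rw [show x * v * (x * v) = x * (v * x) * v by group, hcomm x hx v hv,
          show x * (x * v) * v = (x * x) * (v * v) by group, hAel.1 x hx.1, (omegaZ_elem X).1 v hv, one_mul]
      · obtain ⟨x, hx, v, hv, rfl⟩ := hmem b hb
        obtain ⟨y, hy, w, hw, rfl⟩ := hmem c hc'
        calc x * v * (y * w) = x * (v * y) * w := by group
          _ = (x * y) * (v * w) := by rw [hcomm y hy v hv]; group
          _ = (y * x) * (w * v) := by rw [hAel.2 x hx.1 y hy.1, (omegaZ_elem X).2 v hv w hw]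
          _ = y * (x * w) * v := by group
          _ = y * w * (x * v) := by rw [← hcomm x hx w hw]; group
    have hBA := hAmax B hBel (sup_le (inf_le_left.trans hAT) hVT)
    have he : (A ⊓ X) ⊓ V = V ⊓ A :=
      le_antisymm (le_inf inf_le_right (inf_le_left.trans inf_le_left))
        (le_inf (le_inf inf_le_right (inf_le_left.trans h.V_le)) inf_le_left)
    have e1 : Nat.card B * Nat.card (V ⊓ A : Subgroup G) = Nat.card (A ⊓ X : Subgroup G) * Nat.card V := by
      rw [← he]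
      exact CLarge.card_of_coe_sup_eq (Subgroup.coe_mul_of_left_le_normalizer_right (A ⊓ X) V
        (inf_le_right.trans (h.X_le_L.trans h.V_norm)))
    have e4 : r * Nat.card (A ⊓ X : Subgroup G) = Nat.card A := by
      rw [hr, ← Subgroup.inf_relIndex_left A X,
        ← Nat.card_congr (Subgroup.subgroupOfEquivOfLe (inf_le_left : A ⊓ X ≤ A)).toEquiv, mul_comm]
      exact ((A ⊓ X).subgroupOf A).card_mul_index
    refine Nat.le_of_mul_le_mul_left ?_ (Nat.card_pos (α := (A ⊓ X : Subgroup G)))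
    calc Nat.card (A ⊓ X : Subgroup G) * Nat.card V = Nat.card B * Nat.card (V ⊓ A : Subgroup G) := e1.symm
      _ ≤ Nat.card A * Nat.card (V ⊓ A : Subgroup G) := Nat.mul_le_mul_right _ hBA
      _ = Nat.card (A ⊓ X : Subgroup G) * (r * Nat.card (V ⊓ A : Subgroup G)) := by rw [← e4]; ring
  have hVr : Nat.card V ≤ r * r := by
    have hpos : 0 < Nat.card V := Nat.card_pos
    have h1 := Nat.mul_le_mul hineq hineq
    have h2 : r * Nat.card (V ⊓ A : Subgroup G) * (r * Nat.card (V ⊓ A : Subgroup G)) ≤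
        r * r * Nat.card V := by
      calc r * Nat.card (V ⊓ A : Subgroup G) * (r * Nat.card (V ⊓ A : Subgroup G))
          = r * r * (Nat.card (V ⊓ A : Subgroup G) * Nat.card (V ⊓ A : Subgroup G)) := by ring
        _ ≤ _ := Nat.mul_le_mul_left _ hVA
    exact Nat.le_of_mul_le_mul_right (h1.trans h2) hpos
  rcases o2_trivial hcQ h.isO2.quotient_o2 (fun M hM hnc => ih M (lt_of_le_of_lt
      ((Subgroup.card_le_card_group M).trans hQL) hL) (hcQ.subgroup M) hM hnc) with
    hone | hcfg | ⟨hsimp, K₀, hK₀⟩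
  · -- at most one involution
    refine ⟨2, h.natural_two hc hTX (hVr.trans ?_)⟩
    have hr2 : r ≤ 2 := by
      rw [← hrA]
      by_contra hgt
      haveI : Fintype fA.range := Fintype.ofFinite _
      obtain ⟨x, y, z, hxy, hxz, hyz⟩ := Fintype.two_lt_card_iff.1
        (by rw [← Nat.card_eq_fintype_card]; omega : 2 < Fintype.card fA.range)
      have key : ∀ s t : fA.range, s ≠ 1 → t ≠ 1 → s = t := fun s t hs ht => Subtype.ext
        (hone _ _ (order_two_of_sq (hAbar.1 _ s.2) fun e => hs (Subtype.ext e))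
          (order_two_of_sq (hAbar.1 _ t.2) fun e => ht (Subtype.ext e)) (hAbar.2 _ s.2 _ t.2))
      by_cases hx : x = 1
      · exact hyz (key y z (fun e => hxy (hx.trans e.symm)) (fun e => hxz (hx.trans e.symm)))
      · by_cases hy : y = 1
        · exact hxz (key x z hx (fun e => hyz (hy.trans e.symm)))
        · exact hxy (key x y hx hy)
    nlinarith
  · exfalso
    letI : CommGroup V := { (inferInstance : Group V) with
      mul_comm := fun a b => Subtype.ext ((omegaZ_elem X).2 a a.2 b b.2) }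
    haveI : Nontrivial V := by
      obtain ⟨v, hv, hv1⟩ := hVne
      exact ⟨⟨⟨v, hv⟩, 1, fun e => hv1 (congrArg Subtype.val e)⟩⟩
    refine SFourCfg.module_false (fun a => Subtype.ext ((omegaZ_elem X).1 a a.2)) φ ?_ hhalf hcfg
    intro g hg a e
    by_contra ha
    have := hfree g (hg ▸ ⟨1, rfl⟩) a ha e
    rw [this, orderOf_one] at hg
    omega
  -- the simple quotient
  haveI := hsimp
  set T' := T.subgroupOf L with hT'
  set Tb := T'.map π with hTb
  have hTbp : IsPGroup 2 Tb := (h.T_pGroup.comap_subtype).map π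
  have hkerT : (X.subgroupOf L) ≤ T' := fun x hx => h.X_le hx
  have hcomapT : Tb.comap π = T' := by
    rw [hTb, Subgroup.comap_map_eq, hπ, QuotientGroup.ker_mk', sup_eq_left.2 hkerT]
  set a₁ : L ⧸ X.subgroupOf L := π ⟨a₀, hAL ha₀⟩ with ha₁
  have ha₁1 : a₁ ≠ 1 := fun e => ha₀X ((hπ1 _).1 e)
  have hTb1 : Tb ≠ ⊥ := fun e => ha₁1 (Subgroup.mem_bot.1
    (e ▸ Subgroup.mem_map_of_mem π (show (⟨a₀, hAL ha₀⟩ : L) ∈ T' from hAT ha₀)))
  obtain ⟨⟨w, hwT, hwc⟩, hw1⟩ :=
    Subgroup.ne_bot_iff_exists_ne_one.1 (CN.exists_center_inf hTbp hTb1)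
  obtain ⟨k, hk⟩ := order_two_pow hTbp hwT
  obtain ⟨j, hj⟩ := exists_pow_invol (fun e => hw1 (Subtype.ext e)) hk
  have hTbCt : Tb = Ct (w ^ j) := by
    have hle : Tb ≤ Ct (w ^ j) := fun t ht =>
      mem_Ct.2 ((show Commute t w from hwc t ht).pow_right j).eq
    refine le_antisymm hle ?_
    have hp : IsPGroup 2 ((Ct (w ^ j)).comap π) := (hcQ _ hj).comap_of_ker_isPGroup π (by
      rw [hπ, QuotientGroup.ker_mk']; exact h.X_pGroup.comap_subtype)
    have hle' : T ≤ ((Ct (w ^ j)).comap π).map L.subtype := fun t ht =>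
      ⟨⟨t, h.T_le ht⟩, Subgroup.mem_comap.2 (hle (Subgroup.mem_map_of_mem π ht)), rfl⟩
    have e := h.T_max _ (Subgroup.map_subtype_le _) (hp.map L.subtype) hle'
    intro x hx
    obtain ⟨g, rfl⟩ := QuotientGroup.mk'_surjective _ x
    refine Subgroup.mem_map_of_mem π (?_ : g ∈ T')
    rw [hT', Subgroup.mem_subgroupOf, ← e]
    exact ⟨g, hx, rfl⟩
  have hK : TIHyp Tb := hTbCt ▸ hK₀.of_invol hj
  have hlift : ∀ g : L, π g ∈ hK.N → ∀ t ∈ T, (g : G) * t * (g : G)⁻¹ ∈ T := by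
    intro g hg t ht
    have h1 := hK.conj_K hg (Subgroup.mem_map_of_mem π (show (⟨t, h.T_le ht⟩ : L) ∈ T' from ht))
    rw [← map_inv, ← map_mul, ← map_mul, ← Subgroup.mem_comap, hcomapT] at h1
    exact h1
  set U := V ⊓ Subgroup.centralizer (T : Set G) with hU
  have hUinv : ∀ g : L, π g ∈ hK.N → ∀ v ∈ U, (g : G) * v * (g : G)⁻¹ ∈ U := by
    intro g hg v hv
    refine ⟨h.conj_V g.2 hv.1, fun t ht => ?_⟩
    have ht' : (g : G)⁻¹ * t * g ∈ T := by
      have := hlift g⁻¹ (by rw [map_inv]; exact inv_mem hg) t ht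
      rwa [Subgroup.coe_inv, inv_inv] at this
    have e := hv.2 _ ht'
    calc t * (g * v * (g : G)⁻¹) = g * ((g : G)⁻¹ * t * g * v) * (g : G)⁻¹ := by group
      _ = g * v * (g : G)⁻¹ * t := by rw [e]; group
  obtain ⟨u, hu, huN⟩ := hK.exists_invol_not_mem
  set q := hK.m + 1 with hq
  have hrq : r ≤ q := hrA ▸ hK.elem_le hAbar
  have hoddD : ∀ d ∈ hK.D u, Odd (orderOf d) := fun d hd => by
    have := Subgroup.orderOf_dvd_natCard _ hd
    rw [hK.card_D hu huN] at this
    exact hK.odd_m.of_dvd_nat this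
  have hDfree : ∀ d ∈ hK.D u, ∀ v : V, v ≠ 1 → φ d v = v → d = 1 :=
    fun d hd v hv e => hfree d (hoddD d hd) v hv e
  -- fixed points of `T`
  obtain ⟨z, hzV, hz1, hTz⟩ := h.exists_fixed hVT h.V_ne (h.T_le.trans h.V_norm)
  have hzU : z ∈ U := ⟨hzV, fun t ht => mem_Ct.1 (hTz ht)⟩
  have hUq : q ≤ Nat.card U := by
    have hd := card_dvd_invariant φ (hK.D u) hDfree {v : V | (v : G) ∈ U ∧ v ≠ 1} (fun d hd v hv => by
      obtain ⟨g, rfl⟩ := QuotientGroup.mk'_surjective _ d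
      refine ⟨by rw [hφ]; exact hUinv g hd.1 v hv.1, fun e => hv.2 ?_⟩
      exact (MulEquiv.map_eq_one_iff _).1 e) (fun e => e.2 rfl)
    rw [hK.card_D hu huN] at hd
    have hcard : Nat.card {v : V | (v : G) ∈ U ∧ v ≠ 1} + 1 = Nat.card U := by
      haveI : Fintype U := Fintype.ofFinite _
      have e : Nat.card {v : V | (v : G) ∈ U ∧ v ≠ 1} = Nat.card {v : U // v ≠ 1} :=
        Nat.card_congr ⟨fun v => ⟨⟨(v.1 : G), v.2.1⟩, fun e => v.2.2 (Subtype.ext (congrArg Subtype.val e :))⟩,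
          fun v => ⟨⟨(v.1 : G), v.1.2.1⟩, v.1.2, fun e => v.2 (Subtype.ext (congrArg (fun a : V => (a : G)) e))⟩,
          fun v => rfl, fun v => rfl⟩
      rw [e, Nat.card_eq_fintype_card, Fintype.card_subtype_compl, Fintype.card_subtype_eq,
        Nat.sub_add_cancel Fintype.card_pos, Nat.card_eq_fintype_card]
    have hpos : 0 < Nat.card {v : V | (v : G) ∈ U ∧ v ≠ 1} := by
      haveI : Nonempty {v : V | (v : G) ∈ U ∧ v ≠ 1} :=
        ⟨⟨⟨z, hzV⟩, hzU, fun e => hz1 (congrArg Subtype.val e)⟩⟩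
      exact Nat.card_pos
    have := Nat.le_of_dvd hpos hd
    omega
  have hUle : Nat.card U * Nat.card U ≤ Nat.card V := by
    refine le_trans ?_ (h.sqrt hc (hAL ha₀) ha₀X (by rw [hAel.1 a₀ ha₀]; exact X.one_mem))
    have hle : U ≤ V ⊓ Ct a₀ := le_inf inf_le_left fun v hv =>
      mem_Ct.2 (hv.2 a₀ (hAT ha₀)).symm
    exact Nat.mul_le_mul (Subgroup.card_le_of_le hle) (Subgroup.card_le_of_le hle)
  have hUeq : Nat.card U = q := by nlinarith
  have hVeq : Nat.card V = q * q := by nlinarith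
  have hreq : r = q := by nlinarith
  obtain ⟨α, hα⟩ := card_elem_two_pow (h.V_pGroup.to_le (inf_le_left : U ≤ V))
  have hq2 : 2 ≤ q := by
    rw [← hUeq]
    exact Subgroup.one_lt_card_iff_ne_bot U |>.2 fun e => hz1 (Subgroup.mem_bot.1 (e ▸ hzU))
  -- elements moved by `T` within a coset of `U`
  let W : Subgroup G :=
    { carrier := {v | v ∈ V ∧ ∀ t ∈ T, t * v * t⁻¹ * v⁻¹ ∈ U}
      one_mem' := ⟨V.one_mem, fun t _ => by simp⟩
      mul_mem' := fun {v w} hv hw => ⟨V.mul_mem hv.1 hw.1, fun t ht => by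
        have hcv : t * w * t⁻¹ * w⁻¹ * v⁻¹ = v⁻¹ * (t * w * t⁻¹ * w⁻¹) :=
          (omegaZ_elem X).2 _ (hw.2 t ht).1 _ (V.inv_mem hv.1)
        have e : t * (v * w) * t⁻¹ * (v * w)⁻¹ = t * v * t⁻¹ * v⁻¹ * (t * w * t⁻¹ * w⁻¹) :=
          calc t * (v * w) * t⁻¹ * (v * w)⁻¹ = t * v * t⁻¹ * (t * w * t⁻¹ * w⁻¹ * v⁻¹) := by group
            _ = _ := by rw [hcv, ← mul_assoc]
        rw [e]; exact U.mul_mem (hv.2 t ht) (hw.2 t ht)⟩
      inv_mem' := fun {v} hv => by
        rw [show v⁻¹ = v from inv_eq_of_mul_eq_one_right ((omegaZ_elem X).1 v hv.1)]; exact hv }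
  have hUW : U ≤ W := fun v hv => ⟨hv.1, fun t ht => by
    rw [hv.2 t ht, mul_inv_cancel_right, mul_inv_cancel]; exact U.one_mem⟩
  obtain ⟨w₀, hw₀, hw₀U⟩ : ∃ w ∈ W, w ∉ U := by
    have hUT : T ≤ Subgroup.normalizer (U : Set G) := fun t ht => Subgroup.mem_normalizer_iff.2 fun v =>
      ⟨fun hv => by rw [hv.2 t ht, mul_inv_cancel_right]; exact hv, fun hv => by
        have e : v = t⁻¹ * (t * v * t⁻¹) * t := by group
        rw [e, mul_assoc _ _ t, ← hv.2 t ht, inv_mul_cancel_left]; exact hv⟩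
    haveI : (U.subgroupOf T).Normal :=
      (Subgroup.normal_subgroupOf_iff_le_normalizer (inf_le_left.trans hVT)).2 hUT
    haveI : (V.subgroupOf T).Normal :=
      (Subgroup.normal_subgroupOf_iff_le_normalizer hVT).2 (h.T_le.trans h.V_norm)
    haveI : Group.IsNilpotent T := h.T_pGroup.isNilpotent
    set M := (V.subgroupOf T).map (QuotientGroup.mk' (U.subgroupOf T)) with hM
    haveI : M.Normal := Subgroup.Normal.map inferInstance _ (QuotientGroup.mk'_surjective _)
    have hM1 : M ≠ ⊥ := by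
      intro e
      rw [hM, Subgroup.map_eq_bot_iff, QuotientGroup.ker_mk'] at e
      have hle : V ≤ U := fun v hv => e (x := ⟨v, hVT hv⟩) hv
      have := Subgroup.card_le_of_le hle
      rw [hVeq, hUeq] at this
      nlinarith
    obtain ⟨⟨c, hcM, hcc⟩, hc1⟩ := Subgroup.ne_bot_iff_exists_ne_one.1
      (SolvStruct.inf_center_ne_bot (N := M) hM1)
    obtain ⟨v, hv, rfl⟩ := hcM
    refine ⟨v, ⟨hv, fun t ht => ?_⟩, fun e => hc1 (Subtype.ext ((QuotientGroup.eq_one_iff v).2 e))⟩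
    have e := Subgroup.mem_center_iff.1 hcc (QuotientGroup.mk' _ ⟨t, ht⟩)
    exact (CN.commute_mod_iff (N := U.subgroupOf T) (x := (⟨t, ht⟩ : T)) (y := v)).1 e
  have hWV : ∀ v ∈ V, v ∈ W := by
    have hWle : W ≤ V := fun v hv => hv.1
    obtain ⟨β, hβ⟩ := card_elem_two_pow (h.V_pGroup.to_le hWle)
    have hlt : Nat.card U < Nat.card W := by
      refine lt_of_le_of_ne (Subgroup.card_le_of_le hUW) fun e => hw₀U ?_
      exact (Subgroup.eq_of_le_of_card_ge hUW e.ge) ▸ hw₀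
    have hd := card_dvd_invariant φ (hK.D u) hDfree {v : V | (v : G) ∈ W ∧ (v : G) ∉ U}
      (fun d hd v hv => by
        obtain ⟨g, rfl⟩ := QuotientGroup.mk'_surjective _ d
        refine ⟨⟨(φ (π g) v).2, fun t ht => ?_⟩, fun e => hv.2 ?_⟩
        · rw [hφ]
          have ht' : (g : G)⁻¹ * t * g ∈ T := by
            have := hlift g⁻¹ (by rw [map_inv]; exact inv_mem hd.1) t ht
            rwa [Subgroup.coe_inv, inv_inv] at this
          have := hUinv g hd.1 _ (hv.1.2 _ ht')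
          convert this using 1
          group
        · rw [hφ] at e
          have := hUinv g⁻¹ (by rw [map_inv]; exact inv_mem hd.1) _ e
          rwa [Subgroup.coe_inv, inv_inv, show (g : G)⁻¹ * (g * v * (g : G)⁻¹) * g = v by group] at this)
      (fun e => e.2 U.one_mem)
    rw [hK.card_D hu huN] at hd
    have e : Nat.card {v : V | (v : G) ∈ W ∧ (v : G) ∉ U} = Nat.card W - Nat.card U := by
      haveI : Fintype W := Fintype.ofFinite _
      have e1 : Nat.card {v : V | (v : G) ∈ W ∧ (v : G) ∉ U} = Nat.card {v : W // v ∉ U.subgroupOf W} :=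
        Nat.card_congr ⟨fun v => ⟨⟨(v.1 : G), v.2.1⟩, v.2.2⟩,
          fun v => ⟨⟨(v.1 : G), hWle v.1.2⟩, v.1.2, v.2⟩, fun v => rfl, fun v => rfl⟩
      rw [e1, Nat.card_eq_fintype_card, Fintype.card_subtype_compl, ← Nat.card_eq_fintype_card,
        ← Nat.card_eq_fintype_card]
      congr 1
      exact Nat.card_congr (Subgroup.subgroupOfEquivOfLe hUW).toEquiv
    have hle : Nat.card W ≤ Nat.card V := Subgroup.card_le_of_le hWle
    rw [hα, hβ] at hlt
    rw [e, hα, hβ, show hK.m = 2 ^ α - 1 by have : q = 2 ^ α := hUeq.symm.trans hα; omega] at hd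
    rw [hβ, hVeq, ← hUeq, hα, ← pow_add] at hle
    have hb := pow_two_split ((Nat.pow_lt_pow_iff_right (by norm_num)).1 hlt)
      (by have := (Nat.pow_le_pow_iff_right (by norm_num : 1 < 2)).1 hle; omega) hd
    have : W = V := Subgroup.eq_of_le_of_card_ge hWle (by
      rw [hβ, hVeq, ← hUeq, hα, ← pow_add, hb, two_mul])
    exact fun v hv => this.symm ▸ hv
  -- `T` modulo `X` is elementary abelian
  have hsq : ∀ t ∈ T, t * t ∈ X := by
    intro t ht
    refine h.cent hc (L.mul_mem (h.T_le ht) (h.T_le ht)) fun v hv => ?_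
    obtain ⟨c, hcdef⟩ : ∃ c, c = t * v * t⁻¹ * v⁻¹ := ⟨_, rfl⟩
    have hcU : c ∈ U := hcdef ▸ (hWV v hv).2 t ht
    have hcc : c * c = 1 := (omegaZ_elem X).1 c hcU.1
    have e1 : t * v * t⁻¹ = c * v := by rw [hcdef]; group
    have e2 : t * c * t⁻¹ = c := by rw [hcU.2 t ht, mul_inv_cancel_right]
    calc t * t * v = t * (t * v * t⁻¹) * t⁻¹ * (t * t) := by group
      _ = t * (c * v) * t⁻¹ * (t * t) := by rw [e1]
      _ = (t * c * t⁻¹) * (t * v * t⁻¹) * (t * t) := by group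
      _ = (c * c) * v * (t * t) := by rw [e2, e1]; group
      _ = v * (t * t) := by rw [hcc, one_mul]
  have hTbel : Elem Tb := by
    have hsq' : ∀ x ∈ Tb, x * x = 1 := by
      rintro _ ⟨t, ht, rfl⟩
      rw [← map_mul]; exact (hπ1 _).2 (hsq t ht)
    refine ⟨hsq', fun a ha b hb => ?_⟩
    have e := hsq' _ (mul_mem ha hb)
    calc a * b = (a * b)⁻¹ := (inv_eq_of_mul_eq_one_right e).symm
      _ = b * a := by rw [mul_inv_rev, inv_eq_of_mul_eq_one_right (hsq' a ha),
          inv_eq_of_mul_eq_one_right (hsq' b hb)]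
  have hTbq : Nat.card Tb = q := by
    refine le_antisymm (hK.elem_le hTbel) ?_
    rw [← hreq, ← hrA]
    refine Subgroup.card_le_of_le ?_
    rintro _ ⟨a, rfl⟩
    exact Subgroup.mem_map_of_mem π (show (Subgroup.inclusion hAL a) ∈ T' from hAT a.2)
  have hrel : X.relIndex T = q := by
    let fT : T →* L ⧸ X.subgroupOf L := π.comp (Subgroup.inclusion h.T_le)
    have hk : fT.ker = X.subgroupOf T := by
      ext a
      rw [MonoidHom.mem_ker, MonoidHom.comp_apply, hπ1, Subgroup.mem_subgroupOf]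
      rfl
    have hr' : fT.range = Tb := by
      ext x
      constructor
      · rintro ⟨a, rfl⟩; exact Subgroup.mem_map_of_mem π (show Subgroup.inclusion h.T_le a ∈ T' from a.2)
      · rintro ⟨a, ha, rfl⟩; exact ⟨⟨a, ha⟩, rfl⟩
    have := Subgroup.index_ker fT
    rw [hk, hr', hTbq] at this
    exact this
  -- transitivity
  have hidx : T'.index = q * q - 1 := by
    have e1 : Tb.index = T'.index :=
      Subgroup.index_map_eq T' (QuotientGroup.mk'_surjective _) (by rw [QuotientGroup.ker_mk']; exact hkerT)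
    rw [← e1, hK.index_K, hTbq, show hK.m = q - 1 by omega]
    have hring : (q + 1) * (q - 1) + 1 = q * q := by
      obtain ⟨c, hc'⟩ : ∃ c, q = c + 1 := ⟨q - 1, by omega⟩
      rw [hc', Nat.add_sub_cancel]; ring
    omega
  have hCz := h.Ct_eq_T hc hzV hz1 hTz
  have hto : ∀ a ∈ V, a ≠ 1 → ∃ g ∈ L, g * z * g⁻¹ = a := by
    haveI : Fintype V := Fintype.ofFinite _
    let f : L ⧸ T' → {v : V // v ≠ 1} := fun c =>
      ⟨⟨(c.out : L) * z * ((c.out : L) : G)⁻¹, h.conj_V (c.out : L).2 hzV⟩,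
        fun e => hz1 (conj_eq_one_iff.1 (congrArg Subtype.val e))⟩
    have hf : Function.Injective f := by
      intro c d e
      have e' : ((c.out : L) : G) * z * ((c.out : L) : G)⁻¹ = ((d.out : L) : G) * z * ((d.out : L) : G)⁻¹ :=
        congrArg (fun v : {v : V // v ≠ 1} => ((v.1 : V) : G)) e
      rw [← QuotientGroup.out_eq' c, ← QuotientGroup.out_eq' d, QuotientGroup.eq]
      refine Subgroup.mem_subgroupOf.2 (hCz.le ?_)
      refine ⟨(c.out⁻¹ * d.out : L).2, mem_Ct.2 ?_⟩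
      push_cast
      calc ((c.out : L) : G)⁻¹ * ((d.out : L) : G) * z
          = ((c.out : L) : G)⁻¹ * (((d.out : L) : G) * z * ((d.out : L) : G)⁻¹) * ((d.out : L) : G) := by group
        _ = z * (((c.out : L) : G)⁻¹ * ((d.out : L) : G)) := by rw [← e']; group
    have hb := (Nat.bijective_iff_injective_and_card f).2 ⟨hf, by
      rw [← Subgroup.index_eq_card, hidx, Nat.card_eq_fintype_card (α := {v : V // v ≠ 1}),
        Fintype.card_subtype_compl, Fintype.card_subtype_eq, ← Nat.card_eq_fintype_card, hVeq]⟩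
    intro a ha ha1
    obtain ⟨c, hc'⟩ := hb.2 ⟨⟨a, ha⟩, fun e => ha1 (congrArg Subtype.val e)⟩
    exact ⟨(c.out : L), (c.out : L).2, congrArg (fun v : {v : V // v ≠ 1} => ((v.1 : V) : G)) hc'⟩
  refine ⟨q, h, hq2, hVeq, hrel, hUeq, fun a ha ha1 b hb hb1 => ?_, ?_⟩
  · obtain ⟨g, hg, rfl⟩ := hto a ha ha1
    obtain ⟨g', hg', rfl⟩ := hto b hb hb1
    exact ⟨g' * g⁻¹, L.mul_mem hg' (L.inv_mem hg), by group⟩
  · have h3 : 3 ∣ Nat.card L := by
      refine dvd_trans ?_ (Subgroup.index_dvd_card T')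
      rw [hidx, ← hUeq, hα]
      exact three_dvd_sq_sub_one
    haveI := Fact.mk Nat.prime_three
    obtain ⟨y, hy⟩ := exists_prime_orderOf_dvd_card' (G := L) 3 h3
    exact ⟨y, y.2, by rwa [Subgroup.orderOf_coe]⟩

end Loc

end Cfsg.Agent.CNSimple
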