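import Cfsg.Agent.Lib.CNSimple.Quot
import Cfsg.Agent.Lib.CNSimple.Exist

/-!
# Two natural locals with a common Sylow `2`-subgroup
-/

set_option autoImplicit false
set_option linter.style.haveILetI false
set_option linter.unusedSectionVars false

namespace Cfsg.Agent.CNSimple

open Cfsg.Agent.Invol

universe u

variable {G : Type u} [Group G] [Finite G]

theorem omegaZ_ne_bot {X : Subgroup G} (hX : IsPGroup 2 X) (hX1 : X ≠ ⊥) : omegaZ X ≠ ⊥ := by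
  haveI : Fact (Nat.Prime 2) := ⟨Nat.prime_two⟩
  obtain ⟨⟨w, hwX, hwc⟩, hw1⟩ :=
    Subgroup.ne_bot_iff_exists_ne_one.1 (CN.exists_center_inf hX hX1)
  obtain ⟨k, hk⟩ := order_two_pow hX hwX
  obtain ⟨j, hj⟩ := exists_pow_invol (fun e => hw1 (Subtype.ext e)) hk
  exact fun e => ne_one hj (Subgroup.mem_bot.1 (e ▸ (⟨pow_mem hwX j, mul_self hj, fun a ha =>
    ((show Commute a w from hwc a ha).pow_right j).eq.symm⟩ : w ^ j ∈ omegaZ X)))

theorem card_eq_mul_relIndex {A B : Subgroup G} (h : A ≤ B) :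
    Nat.card B = Nat.card A * A.relIndex B := by
  rw [← Subgroup.relIndex_bot_left A, Subgroup.relIndex_mul_relIndex ⊥ A B bot_le h,
    Subgroup.relIndex_bot_left]

theorem omegaZ_map_conj (X : Subgroup G) (g : G) :
    omegaZ (X.map (MulAut.conj g).toMonoidHom) = (omegaZ X).map (MulAut.conj g).toMonoidHom := by
  ext x
  rw [conj_mem_map]
  show (x ∈ X.map (MulAut.conj g).toMonoidHom ∧ x * x = 1 ∧ ∀ a ∈ X.map (MulAut.conj g).toMonoidHom,
    x * a = a * x) ↔ (g⁻¹ * x * g ∈ X ∧ g⁻¹ * x * g * (g⁻¹ * x * g) = 1 ∧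
      ∀ a ∈ X, g⁻¹ * x * g * a = a * (g⁻¹ * x * g))
  rw [conj_mem_map]
  refine and_congr Iff.rfl (and_congr ?_ ?_)
  · rw [show g⁻¹ * x * g * (g⁻¹ * x * g) = g⁻¹ * (x * x) * g⁻¹⁻¹ by group]
    exact ⟨fun e => by rw [e]; group, fun e => conj_eq_one_iff.1 e⟩
  · constructor
    · intro h a ha
      have := h (g * a * g⁻¹) ⟨a, ha, rfl⟩
      calc g⁻¹ * x * g * a = g⁻¹ * (x * (g * a * g⁻¹)) * g := by group
        _ = a * (g⁻¹ * x * g) := by rw [this]; group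
    · rintro h _ ⟨a, ha, rfl⟩
      show x * (g * a * g⁻¹) = g * a * g⁻¹ * x
      calc x * (g * a * g⁻¹) = g * (g⁻¹ * x * g * a) * g⁻¹ := by group
        _ = g * a * g⁻¹ * x := by rw [h a ha]; group

theorem Loc.map_conj {L T X : Subgroup G} (h : Loc L T X) (g : G) :
    Loc (L.map (MulAut.conj g).toMonoidHom) (T.map (MulAut.conj g).toMonoidHom)
      (X.map (MulAut.conj g).toMonoidHom) := by
  have hinj := (MulAut.conj g).injective
  have hback : ∀ {A : Subgroup G}, (A.map (MulAut.conj g⁻¹).toMonoidHom).map (MulAut.conj g).toMonoidHom = A := by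
    intro A
    ext x
    rw [conj_mem_map, conj_mem_map]
    simp [mul_assoc]
  have hle : ∀ {A B : Subgroup G}, A ≤ B.map (MulAut.conj g).toMonoidHom →
      A.map (MulAut.conj g⁻¹).toMonoidHom ≤ B := by
    rintro A B hAB _ ⟨a, ha, rfl⟩
    simpa [mul_assoc] using conj_mem_map.1 (hAB ha)
  refine ⟨h.T_pGroup.map _, Subgroup.map_mono h.T_le, fun R hR hRp hTR => ?_, Subgroup.map_mono h.X_le,
    (Subgroup.map_mono h.X_norm).trans (Subgroup.le_normalizer_map _),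
    fun e => h.X_ne ((Subgroup.map_eq_bot_iff_of_injective _ hinj).1 e), fun N hN hNp hNn => ?_⟩
  · have h1 := h.T_max (R.map (MulAut.conj g⁻¹).toMonoidHom) (hle hR) (hRp.map _) (fun t ht =>
      ⟨g * t * g⁻¹, hTR ⟨t, ht, rfl⟩, by simp [mul_assoc]⟩)
    rw [← h1, hback]
  · have h1 := h.X_max (N.map (MulAut.conj g⁻¹).toMonoidHom) (hle hN) (hNp.map _) (fun l hl =>
      (Subgroup.le_normalizer_map _) ⟨g * l * g⁻¹, hNn ⟨l, hl, rfl⟩, by simp [mul_assoc]⟩)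
    have := Subgroup.map_mono (f := (MulAut.conj g).toMonoidHom) h1
    rwa [hback] at this

theorem Natural.map_conj {L T X : Subgroup G} {q : ℕ} (n : Natural L T X q) (g : G) :
    Natural (L.map (MulAut.conj g).toMonoidHom) (T.map (MulAut.conj g).toMonoidHom)
      (X.map (MulAut.conj g).toMonoidHom) q := by
  have hinj := (MulAut.conj g).injective
  refine ⟨n.loc.map_conj g, n.two_le, ?_, ?_, ?_, ?_, ?_⟩
  · rw [omegaZ_map_conj, Subgroup.card_map_of_injective hinj, n.card_V]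
  · have h1 := card_eq_mul_relIndex (Subgroup.map_mono (f := (MulAut.conj g).toMonoidHom) n.loc.X_le)
    rw [Subgroup.card_map_of_injective hinj, Subgroup.card_map_of_injective hinj,
      card_eq_mul_relIndex n.loc.X_le, n.relIndex] at h1
    exact (Nat.eq_of_mul_eq_mul_left Nat.card_pos h1).symm
  · have e : omegaZ (X.map (MulAut.conj g).toMonoidHom) ⊓
        Subgroup.centralizer ((T.map (MulAut.conj g).toMonoidHom : Subgroup G) : Set G) =
        (omegaZ X ⊓ Subgroup.centralizer (T : Set G)).map (MulAut.conj g).toMonoidHom := by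
      rw [omegaZ_map_conj]
      ext x
      rw [conj_mem_map, Subgroup.mem_inf, Subgroup.mem_inf, conj_mem_map]
      refine and_congr Iff.rfl ⟨fun h t ht => ?_, ?_⟩
      · have := h _ ⟨t, ht, rfl⟩
        calc t * (g⁻¹ * x * g) = g⁻¹ * (g * t * g⁻¹ * x) * g := by group
          _ = g⁻¹ * x * g * t := by rw [show g * t * g⁻¹ * x = x * (g * t * g⁻¹) from this]; group
      · rintro h _ ⟨t, ht, rfl⟩
        show g * t * g⁻¹ * x = x * (g * t * g⁻¹)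
        calc g * t * g⁻¹ * x = g * (t * (g⁻¹ * x * g)) * g⁻¹ := by group
          _ = x * (g * t * g⁻¹) := by rw [h t ht]; group
    rw [e, Subgroup.card_map_of_injective hinj, n.card_Z]
  · rw [omegaZ_map_conj]
    rintro _ ⟨a, ha, rfl⟩ ha1 _ ⟨b, hb, rfl⟩ hb1
    obtain ⟨l, hl, rfl⟩ := n.trans a ha (fun e => ha1 (by rw [e, map_one])) b hb (fun e => hb1 (by rw [e, map_one]))
    exact ⟨(MulAut.conj g).toMonoidHom l, Subgroup.mem_map_of_mem _ hl, by rw [map_mul, map_mul, map_inv]⟩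
  · obtain ⟨y, hy, hy3⟩ := n.three
    exact ⟨(MulAut.conj g).toMonoidHom y, Subgroup.mem_map_of_mem _ hy, by
      rw [orderOf_injective _ hinj, hy3]⟩

/-- A `2`-group generated by two elementary subgroups of order `q²` containing every involution. -/
structure VW (T V W : Subgroup G) (q : ℕ) : Prop where
  card_T : Nat.card T = q * q * q
  card_V : Nat.card V = q * q
  card_W : Nat.card W = q * q
  elem_V : Elem V
  elem_W : Elem W
  V_le : V ≤ T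
  W_le : W ≤ T
  sup_eq : V ⊔ W = T
  inf_eq : V ⊓ W = omegaZ T
  card_inf : Nat.card (V ⊓ W : Subgroup G) = q
  invol : ∀ t ∈ T, t * t = 1 → t ∈ V ∨ t ∈ W
  cent_V : ∀ t ∈ T, ∀ v ∈ V, v ∉ omegaZ T → v * t = t * v → t ∈ V
  cent_W : ∀ t ∈ T, ∀ v ∈ W, v ∉ omegaZ T → v * t = t * v → t ∈ W

namespace Natural

variable {L₁ L₂ T X₁ X₂ : Subgroup G} {q₁ q₂ : ℕ}

theorem q_eq (hc : CIT G) (n₁ : Natural L₁ T X₁ q₁) (n₂ : Natural L₂ T X₂ q₂) : q₁ = q₂ := by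
  rw [← n₁.card_Z, ← n₂.card_Z, show omegaZ X₁ ⊓ _ = _ from n₁.zT_eq hc,
    show omegaZ X₂ ⊓ _ = _ from n₂.zT_eq hc]

/-- Conjugation by an element of order three mapping a subgroup into itself. -/
theorem mem_normalizer_of_conj_le {D : Subgroup G} {y : G} (h : ∀ r ∈ D, y * r * y⁻¹ ∈ D) :
    y ∈ Subgroup.normalizer (D : Set G) := by
  rw [Subgroup.mem_normalizer_iff_map_conj_eq]
  exact Subgroup.eq_of_le_of_card_ge (by rintro _ ⟨r, hr, rfl⟩; exact h r hr)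
    (Subgroup.card_map_of_injective (MulEquiv.injective _)).ge

/-- Two different modules do not both lie in both largest normal `2`-subgroups. -/
theorem not_le [IsSimpleGroup G] (hc : CIT G) (ih : IHyp G) {q : ℕ} (n₁ : Natural L₁ T X₁ q)
    (n₂ : Natural L₂ T X₂ q) (hne : omegaZ X₁ ≠ omegaZ X₂) : ¬ omegaZ X₂ ≤ X₁ := by
  classical
  haveI : Fact (Nat.Prime 2) := ⟨Nat.prime_two⟩
  intro hV21
  have hV12 : omegaZ X₁ ≤ X₂ := fun v hv =>
    n₂.loc.cent hc (n₂.loc.T_le (n₁.V_le_T hv)) fun w hw => omegaZ_central hv (hV21 hw)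
  set D₀ := X₁ ⊓ X₂ with hD₀
  obtain ⟨y₁, hy₁L, hy₁, hy₁T⟩ := n₁.exists_three hc
  obtain ⟨y₂, hy₂L, hy₂, hy₂T⟩ := n₂.exists_three hc
  have f₁ := n₁.fpf_three hc n₁.loc.X_pGroup hy₁ (n₁.loc.X_norm hy₁L)
  have f₂ := n₂.fpf_three hc n₂.loc.X_pGroup hy₂ (n₂.loc.X_norm hy₂L)
  have hy₁D : y₁ ∈ Subgroup.normalizer (D₀ : Set G) := mem_normalizer_of_conj_le fun r hr =>
    ⟨f₁.conj r hr.1, n₂.loc.cent hc (n₂.loc.T_le (n₁.loc.X_le (f₁.conj r hr.1))) fun w hw =>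
      (f₁.commute_invariant' (hV21 hw) hr.1 (omegaZ_central hw hr.2)).symm.eq⟩
  have hy₂D : y₂ ∈ Subgroup.normalizer (D₀ : Set G) := mem_normalizer_of_conj_le fun r hr =>
    ⟨n₁.loc.cent hc (n₁.loc.T_le (n₂.loc.X_le (f₂.conj r hr.2))) fun w hw =>
      (f₂.commute_invariant' (hV12 hw) hr.2 (omegaZ_central hw hr.1)).symm.eq, f₂.conj r hr.2⟩
  set R := Subgroup.normalizer (D₀ : Set G) with hR
  have hTR : T ≤ R := by
    intro t ht
    refine mem_normalizer_of_conj_le fun r hr => ⟨?_, ?_⟩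
    · exact (Subgroup.mem_normalizer_iff.1 (n₁.loc.X_norm (n₁.loc.T_le ht)) r).1 hr.1
    · exact (Subgroup.mem_normalizer_iff.1 (n₂.loc.X_norm (n₂.loc.T_le ht)) r).1 hr.2
  have hD₀p : IsPGroup 2 D₀ := n₁.loc.X_pGroup.to_le inf_le_left
  have hD₀1 : D₀ ≠ ⊥ := fun e => n₁.loc.V_ne (le_bot_iff.1 (e ▸ le_inf n₁.loc.V_le hV12))
  have hns : ¬ IsPGroup 2 G := fun h => by
    obtain ⟨k, hk⟩ := IsPGroup.iff_orderOf.1 h y₁
    rw [hy₁] at hk
    have := (Nat.prime_dvd_prime_iff_eq Nat.prime_three Nat.prime_two).1 (Nat.prime_three.dvd_of_dvd_pow hk.dvd)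
    omega
  have hRlt := normalizer_card_lt hns hD₀p hD₀1
  -- a Sylow subgroup of `R` containing `T`
  obtain ⟨U, hU⟩ := (n₁.loc.T_pGroup.comap_subtype (K := R)).exists_le_sylow
  set TR := (U : Subgroup R).map R.subtype with hTRdef
  have hTTR : T ≤ TR := fun t ht => ⟨⟨t, hTR ht⟩, hU (Subgroup.mem_subgroupOf.2 ht), rfl⟩
  have hTRle : TR ≤ R := Subgroup.map_subtype_le _
  have hTRmax : ∀ P : Subgroup G, P ≤ R → IsPGroup 2 P → TR ≤ P → P = TR := by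
    intro P hPR hP hle
    have h1 : P.subgroupOf R = (U : Subgroup R) := U.3 hP.comap_subtype fun x hx =>
      Subgroup.mem_subgroupOf.2 (hle ⟨x, hx, rfl⟩)
    rw [hTRdef, ← h1, Subgroup.map_subgroupOf_eq_of_le hPR]
  obtain ⟨XR, hXR, hD₀XR⟩ := Loc.exists_loc (U.isPGroup'.map _) hTRle hTRmax hD₀p
    Subgroup.le_normalizer hD₀1 le_rfl
  haveI hnorm : (XR.subgroupOf R).Normal := hXR.isO2.normal
  have hXRT : XR ⊓ T ≤ D₀ := by
    have key : ∀ {L X : Subgroup G} {y : G} (n : Natural L T X q), y ∈ L → y ∈ R →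
        y ∉ Subgroup.normalizer (T : Set G) → XR ⊓ T ≤ X := by
      intro L X y n hyL hyR hyT
      have hTP : T ≤ Subgroup.normalizer ((XR ⊓ L : Subgroup G) : Set G) := fun t ht =>
        mem_normalizer_of_conj_le fun r hr => ⟨(Subgroup.mem_normalizer_iff.1 (hXR.X_norm (hTR ht)) r).1 hr.1,
          L.mul_mem (L.mul_mem (n.loc.T_le ht) hr.2) (L.inv_mem (n.loc.T_le ht))⟩
      have hPT : XR ⊓ L ≤ T := by
        rw [← n.loc.T_max (T ⊔ (XR ⊓ L)) (sup_le n.loc.T_le inf_le_right)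
          (IsPGroup.to_sup_of_normal_right' n.loc.T_pGroup (hXR.X_pGroup.to_le inf_le_left) hTP) le_sup_left]
        exact le_sup_right
      intro t ht
      refine n.inter_le hc hyL hyT ht.2 (hPT ⟨?_, L.mul_mem (L.mul_mem (L.inv_mem hyL) (n.loc.T_le ht.2)) hyL⟩)
      have := (Subgroup.mem_normalizer_iff.1 (inv_mem (hXR.X_norm hyR)) t).1 ht.1
      rwa [inv_inv] at this
    exact le_inf (key n₁ hy₁L hy₁D hy₁T) (key n₂ hy₂L hy₂D hy₂T)
  -- an element of `X₁` of order two modulo `XR`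
  obtain ⟨a, haX₁, haX₂⟩ : ∃ a ∈ X₁, a ∉ X₂ := by
    by_contra hcon
    push Not at hcon
    refine hne (congrArg omegaZ (Subgroup.eq_of_le_of_card_ge hcon ?_))
    have h1 := card_eq_mul_relIndex n₁.loc.X_le
    have h2 := card_eq_mul_relIndex n₂.loc.X_le
    rw [n₁.relIndex] at h1
    rw [n₂.relIndex, h1] at h2
    exact (Nat.eq_of_mul_eq_mul_right (by have := n₁.two_le; omega) h2).ge
  have haXR : a ∉ XR := fun e => haX₂ (hXRT ⟨e, n₁.loc.X_le haX₁⟩).2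
  obtain ⟨k, hk⟩ := order_two_pow n₁.loc.X_pGroup haX₁
  have hex : ∃ j, a ^ 2 ^ j ∈ XR := ⟨k, by rw [← hk, pow_orderOf_eq_one]; exact XR.one_mem⟩
  have h0 : 0 < Nat.find hex := by
    rcases Nat.eq_zero_or_pos (Nat.find hex) with h0 | h0
    · exact absurd (by simpa [h0] using Nat.find_spec hex) haXR
    · exact h0
  set x := a ^ 2 ^ (Nat.find hex - 1) with hxdef
  have hx : x ∈ X₁ := pow_mem haX₁ _
  have hxXR : x ∉ XR := Nat.find_min hex (by omega)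
  have hx2 : x * x ∈ XR := by
    rw [hxdef, ← pow_add, ← two_mul, ← pow_succ', show Nat.find hex - 1 + 1 = Nat.find hex by omega]
    exact Nat.find_spec hex
  set π := QuotientGroup.mk' (XR.subgroupOf R) with hπ
  have hπ1 : ∀ g : R, π g = 1 ↔ (g : G) ∈ XR := fun g =>
    (QuotientGroup.eq_one_iff g).trans Subgroup.mem_subgroupOf
  set xb := π ⟨x, hTR (n₁.loc.X_le hx)⟩ with hxb
  set yb := π ⟨y₁, hy₁D⟩ with hyb
  have hxbo : orderOf xb = 2 := order_two_of_sq (by rw [hxb, ← map_mul]; exact (hπ1 _).2 hx2)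
    fun e => hxXR ((hπ1 _).1 e)
  set Tb := (T.subgroupOf R).map π with hTb
  have hmemTb : ∀ t (ht : t ∈ T), π ⟨t, hTR ht⟩ ∈ Tb := fun t ht => ⟨_, Subgroup.mem_subgroupOf.2 ht, rfl⟩
  have hTbp : IsPGroup 2 Tb := (n₁.loc.T_pGroup.comap_subtype).map _
  have hxT : xb ∈ Tb := hmemTb x (n₁.loc.X_le hx)
  have hyxT : yb * xb * yb⁻¹ ∈ Tb := by
    rw [hyb, hxb, ← map_inv, ← map_mul, ← map_mul]
    exact hmemTb _ (n₁.loc.X_le (f₁.conj x hx))
  obtain ⟨⟨c, hc'⟩, hc1⟩ := Subgroup.ne_bot_iff_exists_ne_one.1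
    (omegaZ_ne_bot hTbp (fun e => ne_one hxbo (Subgroup.mem_bot.1 (e ▸ hxT))))
  have hco : orderOf c = 2 := order_two_of_sq hc'.2.1 fun e => hc1 (Subtype.ext e)
  have hcQ : CIT (R ⧸ XR.subgroupOf R) := hXR.isO2.quotient_cit (hc.subgroup R)
  rcases hXR.quot_cases hc ih hRlt with hone | ⟨-, K, hK⟩
  · have e1 : xb = c := hone _ _ hxbo hco (hc'.2.2 xb hxT).symm
    have e2 : yb * xb * yb⁻¹ = c :=
      hone _ _ ((order_conj yb xb).trans hxbo) hco (hc'.2.2 _ hyxT).symm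
    have hd : y₁ * x * y₁⁻¹ * x⁻¹ ∈ XR := by
      have := (hπ1 (⟨y₁, hy₁D⟩ * ⟨x, hTR (n₁.loc.X_le hx)⟩ * ⟨y₁, hy₁D⟩⁻¹ * ⟨x, hTR (n₁.loc.X_le hx)⟩⁻¹)).1
        (by rw [map_mul, map_mul, map_mul, map_inv, map_inv, ← hxb, ← hyb, e2, e1, mul_inv_cancel])
      exact this
    have hd' : y₁ * x * y₁⁻¹ * x⁻¹ ∈ D₀ :=
      hXRT ⟨hd, n₁.loc.X_le (X₁.mul_mem (f₁.conj x hx) (X₁.inv_mem hx))⟩
    obtain ⟨r, hr, hrc⟩ := CN.exists_lift_commute (N := D₀) (x := y₁) (y := x) hy₁D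
      (fun r hr hyr => f₁.fixed r hr.1 hyr) hd'
    have h1 : r⁻¹ * x = 1 := f₁.fixed _ (X₁.mul_mem (X₁.inv_mem hr.1) hx) hrc
    exact hxXR (by rw [← inv_mul_eq_one.1 h1]; exact hD₀XR hr)
  · have hK' := hK.of_invol hco
    have hTbK : Tb ≤ Ct c := fun t ht => mem_Ct.2 (hc'.2.2 t ht).symm
    have hyN : yb ∈ Subgroup.normalizer ((Ct c : Subgroup (R ⧸ XR.subgroupOf R)) : Set (R ⧸ XR.subgroupOf R)) :=
      hK'.mem_N_of_meet (hTbK hxT) (ne_one hxbo) (hTbK hyxT)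
    have hKp : IsPGroup 2 (Ct c) := hcQ c hco
    set P := ((Ct c).comap π).map R.subtype with hP
    have hPp : IsPGroup 2 P := (hKp.comap_of_ker_isPGroup π (by
      rw [hπ, QuotientGroup.ker_mk']; exact hXR.X_pGroup.comap_subtype)).map _
    have hTP : T ≤ P := fun t ht => ⟨⟨t, hTR ht⟩, hTbK (hmemTb t ht), rfl⟩
    have hPL : P ⊓ L₁ = T :=
      n₁.loc.T_max _ inf_le_right (hPp.to_le inf_le_left) (le_inf hTP n₁.loc.T_le)
    refine hy₁T (mem_normalizer_of_conj_le fun t ht => hPL.le ⟨⟨⟨y₁, hy₁D⟩ * ⟨t, hTR ht⟩ * ⟨y₁, hy₁D⟩⁻¹,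
      ?_, rfl⟩, L₁.mul_mem (L₁.mul_mem hy₁L (n₁.loc.T_le ht)) (L₁.inv_mem hy₁L)⟩)
    show π _ ∈ Ct c
    rw [map_mul, map_mul, map_inv]
    exact (Subgroup.mem_normalizer_iff.1 hyN _).1 (hTbK (hmemTb t ht))

/-- Two different modules with the same Sylow subgroup generate it. -/
theorem pair [IsSimpleGroup G] (hc : CIT G) (ih : IHyp G) {q : ℕ} (n₁ : Natural L₁ T X₁ q)
    (n₂ : Natural L₂ T X₂ q) (hne : omegaZ X₁ ≠ omegaZ X₂) :
    X₁ = omegaZ X₁ ∧ X₂ = omegaZ X₂ ∧ VW T (omegaZ X₁) (omegaZ X₂) q := by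
  have hle₁ := not_le hc ih n₁ n₂ hne
  have hq : 2 ≤ q := n₁.two_le
  obtain ⟨s, hsV, hsX⟩ := SetLike.not_le_iff_exists.1 hle₁
  have hsT : s ∈ T := n₂.V_le_T hsV
  have hso : orderOf s = 2 := order_two_of_sq ((omegaZ_elem X₂).1 s hsV) fun e => hsX (e ▸ X₁.one_mem)
  have hbound := n₁.loc.sqrt_invol hc n₁.loc.X_pGroup n₁.loc.X_norm hso (n₁.loc.T_le hsT) hsX
  have hD : Nat.card (X₁ ⊓ X₂ : Subgroup G) ≤ Nat.card (X₁ ⊓ Ct s : Subgroup G) :=
    Subgroup.card_le_of_le (le_inf inf_le_left fun r hr => mem_Ct.2 (omegaZ_central hsV hr.2).symm)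
  have c₁ := card_eq_mul_relIndex n₁.loc.X_le
  have c₂ := card_eq_mul_relIndex n₂.loc.X_le
  rw [n₁.relIndex] at c₁
  rw [n₂.relIndex] at c₂
  have hidx : X₂.relIndex X₁ ≤ q :=
    n₂.relIndex ▸ Subgroup.relIndex_le_of_le_right n₁.loc.X_le (by rw [n₂.relIndex]; omega)
  have hsplit : Nat.card X₁ = Nat.card (X₁ ⊓ X₂ : Subgroup G) * X₂.relIndex X₁ := by
    rw [← Subgroup.inf_relIndex_right X₂ X₁, inf_comm X₁ X₂]
    exact card_eq_mul_relIndex inf_le_right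
  have hbig : Nat.card X₁ ≤ q * q := by
    have h1 : Nat.card X₁ ≤ Nat.card (X₁ ⊓ Ct s : Subgroup G) * q :=
      hsplit.le.trans (Nat.mul_le_mul hD hidx)
    have h0 : 0 < Nat.card X₁ := Nat.card_pos
    refine Nat.le_of_mul_le_mul_left ?_ h0
    calc Nat.card X₁ * Nat.card X₁
        ≤ Nat.card (X₁ ⊓ Ct s : Subgroup G) * q * (Nat.card (X₁ ⊓ Ct s : Subgroup G) * q) :=
          Nat.mul_le_mul h1 h1
      _ = Nat.card (X₁ ⊓ Ct s : Subgroup G) * Nat.card (X₁ ⊓ Ct s : Subgroup G) * (q * q) := by ring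
      _ ≤ Nat.card X₁ * (q * q) := Nat.mul_le_mul_right _ hbound
  have e₁ : omegaZ X₁ = X₁ := Subgroup.eq_of_le_of_card_ge n₁.loc.V_le (by rw [n₁.card_V]; exact hbig)
  have e₂ : omegaZ X₂ = X₂ := Subgroup.eq_of_le_of_card_ge n₂.loc.V_le (by
    rw [n₂.card_V, ← n₁.card_V, e₁]
    exact (Nat.eq_of_mul_eq_mul_right (by omega) (c₁.symm.trans c₂)).ge)
  have hz₁ : zT T X₁ = omegaZ T := n₁.zT_eq hc
  have hz₂ : zT T X₂ = omegaZ T := n₂.zT_eq hc
  have hinf : omegaZ X₁ ⊓ omegaZ X₂ = omegaZ T := by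
    refine le_antisymm (fun v hv => hz₁ ▸ ((n₁.fix_eq hc hsT hsX).le ⟨hv.1, mem_Ct.2
      (omegaZ_central hv.2 (n₂.loc.V_le hsV))⟩)) (le_inf (hz₁ ▸ inf_le_left) (hz₂ ▸ inf_le_left))
  have hcinf : Nat.card (omegaZ X₁ ⊓ omegaZ X₂ : Subgroup G) = q := by
    rw [hinf, ← hz₁]; exact n₁.card_Z
  have hnorm : omegaZ X₂ ≤ Subgroup.normalizer (omegaZ X₁ : Set G) :=
    n₂.V_le_T.trans (n₁.loc.T_le.trans n₁.loc.V_norm)
  have hsup : omegaZ X₁ ⊔ omegaZ X₂ = T := by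
    refine Subgroup.eq_of_le_of_card_ge (sup_le n₁.V_le_T n₂.V_le_T) ?_
    rw [card_eq_mul_relIndex (le_sup_left : omegaZ X₁ ≤ _ ⊔ omegaZ X₂), c₁, e₁]
    refine Nat.mul_le_mul_left _ (le_trans ?_ (Subgroup.relIndex_le_of_le_right
      (le_sup_right : omegaZ X₂ ≤ X₁ ⊔ omegaZ X₂) Subgroup.index_ne_zero_of_finite))
    have h1 : Nat.card (omegaZ X₂) = q * (omegaZ X₁).relIndex (omegaZ X₂) := by
      rw [← hcinf, ← Subgroup.inf_relIndex_right (omegaZ X₁) (omegaZ X₂)]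
      exact card_eq_mul_relIndex inf_le_right
    rw [n₂.card_V] at h1
    rw [← Nat.eq_of_mul_eq_mul_left (by omega) h1.symm, e₁]
  refine ⟨e₁.symm, e₂.symm, ?_, n₁.card_V, n₂.card_V, omegaZ_elem _, omegaZ_elem _, n₁.V_le_T, n₂.V_le_T,
    hsup, hinf, hcinf, fun t ht ht2 => ?_, fun t ht v hv hvZ hvt => ?_, fun t ht v hv hvZ hvt => ?_⟩
  · rw [c₁, ← e₁, n₁.card_V]
  · obtain ⟨v, hv, w, hw, rfl⟩ : ∃ v ∈ omegaZ X₁, ∃ w ∈ omegaZ X₂, v * w = t := by
      rw [← hsup, ← SetLike.mem_coe, Subgroup.coe_mul_of_right_le_normalizer_left _ _ hnorm] at ht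
      exact ht
    by_cases hvZ : v ∈ zT T X₁
    · exact Or.inr ((omegaZ X₂).mul_mem (by rw [hz₁, ← hz₂] at hvZ; exact hvZ.1) hw)
    · refine Or.inl ((omegaZ X₁).mul_mem hv ?_)
      rw [e₁]
      refine n₁.mem_X_of_comm hc (n₂.V_le_T hw) hv hvZ ?_
      exact (eq_inv_of_mul_eq_one_right ht2).trans (by
        rw [mul_inv_rev, inv_eq_of_mul_eq_one_right ((omegaZ_elem X₁).1 v hv),
          inv_eq_of_mul_eq_one_right ((omegaZ_elem X₂).1 w hw)])
  · rw [e₁]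
    exact n₁.mem_X_of_comm hc ht hv (fun e => hvZ (hz₁ ▸ e)) hvt
  · rw [e₂]
    exact n₂.mem_X_of_comm hc ht hv (fun e => hvZ (hz₂ ▸ e)) hvt

end Natural

end Cfsg.Agent.CNSimple
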