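import Cfsg.Agent.Lib.CNSimple.Local

/-!
# A configuration in the symmetric group of degree four which has no fixed-point-free module
-/

set_option autoImplicit false
set_option linter.style.haveILetI false
set_option linter.unusedSectionVars false

namespace Cfsg.Agent.CNSimple

open Cfsg.Agent.Invol

universe u v

/-- A dihedral group of order eight both of whose four-groups are normalised by elements of order
three permuting their involutions. -/
def SFourCfg (H : Type u) [Group H] : Prop :=
  ∃ c w x x' : H, orderOf c = 4 ∧ orderOf w = 2 ∧ w * c * w⁻¹ = c⁻¹ ∧ orderOf x = 3 ∧ orderOf x' = 3 ∧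
    x * (c * c) * x⁻¹ = w ∧ x * w * x⁻¹ = c * c * w ∧
    x' * (c * c) * x'⁻¹ = w * c ∧ x' * (w * c) * x'⁻¹ = c * c * (w * c)

theorem SFourCfg.map {H : Type u} [Group H] {Q : Type v} [Group Q] (f : H →* Q)
    (hf : Function.Injective f) (h : SFourCfg H) : SFourCfg Q := by
  obtain ⟨c, w, x, x', h1, h2, h3, h4, h5, h6, h7, h8, h9⟩ := h
  refine ⟨f c, f w, f x, f x', ?_, ?_, ?_, ?_, ?_, ?_, ?_, ?_, ?_⟩
  · rw [orderOf_injective f hf, h1]
  · rw [orderOf_injective f hf, h2]
  · rw [← map_mul, ← map_inv, ← map_mul, h3, map_inv]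
  · rw [orderOf_injective f hf, h4]
  · rw [orderOf_injective f hf, h5]
  · rw [← map_mul, ← map_inv, ← map_mul, ← map_mul, h6]
  · rw [← map_mul, ← map_inv, ← map_mul, h7, map_mul, map_mul]
  · rw [← map_mul, ← map_inv, ← map_mul, ← map_mul, h8, map_mul]
  · rw [← map_mul, ← map_inv, ← map_mul, ← map_mul, h9, map_mul, map_mul, map_mul]

section Module

variable {V : Type u} [CommGroup V] [Finite V] {Q : Type v} [Group Q]
  (hV : ∀ a : V, a * a = 1) (φ : Q →* MulAut V)
  (hfpf : ∀ g : Q, orderOf g = 3 → ∀ a : V, φ g a = a → a = 1)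
  (hhalf : ∀ s : Q, orderOf s = 2 →
    Nat.card {a : V // φ s a = a} * Nat.card {a : V // φ s a = a} ≤ Nat.card V)
include hV hfpf hhalf

theorem fix_subset {s w x : Q} (hs : orderOf s = 2) (hw : orderOf w = 2) (hx : orderOf x = 3)
    (hsw : s * w = w * s) (h1 : x * s * x⁻¹ = w) (h2 : x * w * x⁻¹ = s * w) {a : V}
    (ha : φ s a = a) : φ w a = a := by
  have hx3 : x ^ 3 = 1 := hx ▸ pow_orderOf_eq_one x
  have hx3' : x * x * x = 1 := by rw [← hx3, pow_succ, pow_two]
  have hxs : x * s = w * x := by rw [← h1]; group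
  have hxw : x * w = s * w * x := by rw [← h2]; group
  have hxsw : x * (s * w) = s * x := by
    rw [← mul_assoc, hxs, mul_assoc, hxw, ← mul_assoc, ← mul_assoc, ← hsw, mul_assoc s, mul_self hw,
      mul_one]
  have horb : ∀ g : Q, g ^ 3 = 1 → g ≠ 1 → ∀ b : V, b * φ g b * φ (g * g) b = 1 := by
    intro g hg hg1 b
    refine hfpf g (orderOf_eq_prime hg hg1) _ ?_
    have e3 : φ (g * (g * g)) b = b := by
      rw [show g * (g * g) = g ^ 3 by rw [pow_succ, pow_two, mul_assoc], hg, map_one, MulAut.one_apply]
    rw [map_mul, map_mul, ← MulAut.mul_apply, ← map_mul, ← MulAut.mul_apply, ← map_mul, e3]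
    rw [mul_comm _ b, ← mul_assoc]
  have hne : ∀ e : Q, e * e = 1 → e * x ≠ 1 := fun e he h => by
    have : x = e := by
      calc x = e * e * x := by rw [he, one_mul]
        _ = e := by rw [mul_assoc, h, mul_one]
    have h2 := hx3
    rw [this, pow_succ, pow_two, he, one_mul] at h2
    rw [this, h2, orderOf_one] at hx
    omega
  have hss := mul_self hs
  have hww := mul_self hw
  have hswsw : s * w * (s * w) = 1 := by
    rw [show s * w * (s * w) = s * (w * s) * w by group, ← hsw,
      show s * (s * w) * w = (s * s) * (w * w) by group, hss, hww, one_mul]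
  have q1 : s * x * (s * x) = s * w * (x * x) := by
    rw [show s * x * (s * x) = s * (x * s) * x by group, hxs]; group
  have q2 : w * x * (w * x) = s * (x * x) := by
    rw [show w * x * (w * x) = w * (x * w) * x by group, hxw,
      show w * (s * w * x) * x = w * s * w * (x * x) by group, ← hsw, mul_assoc s w w, hww, mul_one]
  have q3 : s * w * x * (s * w * x) = w * (x * x) := by
    rw [show s * w * x * (s * w * x) = s * w * (x * (s * w)) * x by group, hxsw,
      show s * w * (s * x) * x = s * (w * s) * (x * x) by group, ← hsw, ← mul_assoc s s w, hss, one_mul]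
  have c1 : (s * x) ^ 3 = 1 := by
    rw [pow_succ, pow_two, q1, show s * w * (x * x) * (s * x) = s * w * x * (x * s) * x by group, hxs,
      show s * w * x * (w * x) * x = s * w * (x * w) * x * x by group, hxw,
      show s * w * (s * w * x) * x * x = s * w * (s * w) * (x * x * x) by group, hswsw, hx3', one_mul]
  have c2 : (w * x) ^ 3 = 1 := by
    rw [pow_succ, pow_two, q2, show s * (x * x) * (w * x) = s * x * (x * w) * x by group, hxw,
      show s * x * (s * w * x) * x = s * (x * (s * w)) * x * x by group, hxsw,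
      show s * (s * x) * x * x = s * s * (x * x * x) by group, hss, hx3', one_mul]
  have c3 : (s * w * x) ^ 3 = 1 := by
    rw [pow_succ, pow_two, q3, show w * (x * x) * (s * w * x) = w * x * (x * (s * w)) * x by group, hxsw,
      show w * x * (s * x) * x = w * (x * s) * x * x by group, hxs,
      show w * (w * x) * x * x = w * w * (x * x * x) by group, hww, hx3', one_mul]
  set N : V → V := fun b => b * φ s b * φ w b * φ (s * w) b with hN
  have hNone : ∀ b : V, N b = 1 := by
    intro b
    have t0 := horb x hx3 (by simpa using hne 1 (one_mul 1)) b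
    have t1 := horb _ c1 (hne s hss) b
    have t2 := horb _ c2 (hne w hww) b
    have t3 := horb _ c3 (hne _ hswsw) b
    rw [q1] at t1
    rw [q2] at t2
    rw [q3] at t3
    have hprod : N (φ x b * φ (x * x) b) = 1 := by
      calc N (φ x b * φ (x * x) b)
          = (φ x b * φ (x * x) b) * (φ (s * x) b * φ (s * w * (x * x)) b) *
              (φ (w * x) b * φ (s * (x * x)) b) * (φ (s * w * x) b * φ (w * (x * x)) b) := by
            simp only [hN, map_mul, MulAut.mul_apply]
            simp only [mul_comm, mul_left_comm, mul_assoc]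
        _ = (b * φ x b * φ (x * x) b) * (b * φ (s * x) b * φ (s * w * (x * x)) b) *
              (b * φ (w * x) b * φ (s * (x * x)) b) * (b * φ (s * w * x) b * φ (w * (x * x)) b) *
              ((b * b) * (b * b))⁻¹ := by
            rw [eq_mul_inv_iff_mul_eq]
            ac_rfl
        _ = 1 := by rw [t0, t1, t2, t3, hV b]; simp
    have hb : φ x b * φ (x * x) b = b := by
      calc φ x b * φ (x * x) b = (b * b) * (φ x b * φ (x * x) b) := by rw [hV, one_mul]
        _ = b * (b * φ x b * φ (x * x) b) := by rw [mul_assoc, mul_assoc]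
        _ = b := by rw [t0, mul_one]
    rwa [hb] at hprod
  -- the fixed points are the commutators
  classical
  let f : V →* V :=
    { toFun := fun b => b * φ s b
      map_one' := by simp
      map_mul' := fun b c => by rw [map_mul]; ac_rfl }
  have hfs : ∀ b, φ s (f b) = f b := fun b => by
    show φ s (b * φ s b) = b * φ s b
    rw [map_mul, ← MulAut.mul_apply, ← map_mul, hss, map_one, MulAut.one_apply, mul_comm]
  have hker : ∀ b, f b = 1 ↔ φ s b = b := fun b => by
    show b * φ s b = 1 ↔ _
    exact ⟨fun h => by rw [← inv_eq_of_mul_eq_one_right h]; exact inv_eq_of_mul_eq_one_right (hV b),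
      fun h => by rw [h]; exact hV b⟩
  have hsurj : ∃ b, f b = a := by
    set F := {b : V // φ s b = b}
    have hk : Nat.card f.ker = Nat.card F :=
      Nat.card_congr (Equiv.subtypeEquivRight fun b => (MonoidHom.mem_ker).trans (hker b))
    have hmul : Nat.card f.ker * Nat.card f.range = Nat.card V := by
      rw [← Subgroup.index_ker, Subgroup.card_mul_index]
    let ι : f.range → F := fun b => ⟨b, by obtain ⟨c, hc⟩ := b.2; rw [← hc]; exact hfs c⟩
    have hι : Function.Injective ι := fun b c e => Subtype.ext (congrArg Subtype.val e :)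
    have hle : Nat.card F ≤ Nat.card f.range := by
      haveI : Nonempty F := ⟨⟨1, map_one _⟩⟩
      have h := (hhalf s hs).trans hmul.ge
      rw [hk] at h
      exact Nat.le_of_mul_le_mul_left h Nat.card_pos
    obtain ⟨⟨b, c, hc⟩, hb⟩ := (hι.bijective_of_nat_card_le hle).2 ⟨a, ha⟩
    exact ⟨c, hc.trans (congrArg Subtype.val hb :)⟩
  obtain ⟨b, rfl⟩ := hsurj
  show φ w (b * φ s b) = b * φ s b
  have hn := hNone b
  simp only [hN] at hn
  rw [hsw, map_mul φ w s, MulAut.mul_apply] at hn
  calc φ w (b * φ s b) = (b * φ s b) * (b * φ s b) * (φ w b * φ w (φ s b)) := by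
        rw [hV, one_mul, map_mul]
    _ = (b * φ s b) * (b * φ s b * φ w b * φ w (φ s b)) := by ac_rfl
    _ = b * φ s b := by rw [hn, mul_one]

/-- The configuration has no such module. -/
theorem SFourCfg.module_false [Nontrivial V] (h : SFourCfg Q) : False := by
  obtain ⟨c, w, x, x', hc, hw, hwc, hx, hx', h6, h7, h8, h9⟩ := h
  have hc4 : c * c * (c * c) = 1 := by
    rw [← pow_two, ← pow_two, ← pow_mul, show 2 * 2 = orderOf c by rw [hc], pow_orderOf_eq_one]
  have hs : orderOf (c * c) = 2 := order_two_of_sq hc4 fun e => by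
    have := Nat.le_of_dvd two_pos (orderOf_dvd_of_pow_eq_one (show c ^ 2 = 1 by rw [pow_two, e]))
    omega
  have hwcc : w * c = c⁻¹ * w := by rw [← hwc]; group
  have hsw : c * c * w = w * (c * c) := by
    calc c * c * w = (c * c)⁻¹ * w := by rw [inv_eq_of_mul_eq_one_right hc4]
      _ = c⁻¹ * (c⁻¹ * w) := by group
      _ = w * (c * c) := by rw [← hwcc, ← mul_assoc, ← hwcc, mul_assoc]
  have hu : orderOf (w * c) = 2 := order_two_of_sq
    (by
      rw [show w * c * (w * c) = w * c * w * c by group]
      calc w * c * w * c = w * c * w⁻¹ * c := by rw [inv_self hw]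
        _ = 1 := by rw [hwc, inv_mul_cancel])
    fun e => by
      have : c = w := (mul_eq_one_iff_inv_eq.1 e).symm.trans (inv_self hw)
      rw [this, hw] at hc
      omega
  have hsu : c * c * (w * c) = w * c * (c * c) := by
    rw [← mul_assoc, hsw]; group
  have hfix : ∀ a : V, φ (c * c) a = a → φ c a = a := fun a ha => by
    have e1 := fix_subset hV φ hfpf hhalf hs hw hx hsw h6 h7 ha
    have e2 := fix_subset hV φ hfpf hhalf hs hu hx' hsu h8 h9 ha
    rw [map_mul, MulAut.mul_apply] at e2
    exact (MulEquiv.injective (φ w)) (e2.trans e1.symm)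
  have hall : ∀ a : V, φ (c * c) a = a := by
    intro a
    set f1 := a * φ c a with hf1
    have hcc : ∀ b : V, φ c (φ c b) = φ (c * c) b := fun b => by rw [map_mul, MulAut.mul_apply]
    have hccc : ∀ b : V, φ (c * c) (φ (c * c) b) = b := fun b => by
      rw [← MulAut.mul_apply, ← map_mul, hc4, map_one, MulAut.one_apply]
    have h2 : φ c (a * φ (c * c) a) = a * φ (c * c) a :=
      hfix _ (by rw [map_mul, hccc, mul_comm])
    have hcom : φ (c * c) (φ c a) = φ c (φ (c * c) a) := by rw [← hcc, ← hcc]
    have h3 : φ (c * c) f1 = f1 := by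
      rw [map_mul] at h2
      rw [hf1, map_mul, hcom]
      calc φ (c * c) a * φ c (φ (c * c) a)
          = φ (c * c) a * ((φ c a * φ c a) * φ c (φ (c * c) a)) := by rw [hV, one_mul]
        _ = φ (c * c) a * (φ c a * (φ c a * φ c (φ (c * c) a))) := by rw [mul_assoc (φ c a)]
        _ = φ (c * c) a * (φ c a * (a * φ (c * c) a)) := by rw [h2]
        _ = a * φ c a * (φ (c * c) a * φ (c * c) a) := by ac_rfl
        _ = a * φ c a := by rw [hV, mul_one]
    have h4 := hfix _ h3
    rw [hf1, map_mul, hcc] at h4
    calc φ (c * c) a = (φ c a * φ c a) * φ (c * c) a := by rw [hV, one_mul]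
      _ = φ c a * (φ c a * φ (c * c) a) := by rw [mul_assoc]
      _ = φ c a * (a * φ c a) := by rw [h4]
      _ = a * (φ c a * φ c a) := by ac_rfl
      _ = a := by rw [hV, mul_one]
  have h := hhalf _ hs
  rw [Nat.card_congr (Equiv.subtypeUnivEquiv hall)] at h
  have h1 : 1 < Nat.card V := Finite.one_lt_card
  nlinarith

end Module

end Cfsg.Agent.CNSimple
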