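import Cfsg.Agent.Lib.CASimple.Main
import Cfsg.Agent.Lib.CN.Main
import Cfsg.Agent.Lib.Involutions.SwapCount
import Cfsg.Agent.Lib.Solvable.Coprime

/-!
# A nilpotent Hall subgroup of even order containing the centralisers of its elements

The group acts on the cosets of the normaliser; two-point stabilisers are abelian, inverted by
swapping involutions, of order the number of involutions of the subgroup.
-/

set_option autoImplicit false
set_option linter.style.haveILetI false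
set_option linter.unusedSectionVars false

namespace Cfsg.Agent.CNSimple

open Cfsg.Agent.Invol MulAction

universe u

variable {G : Type u} [Group G] [Finite G]

/-- The centraliser of an element. -/
abbrev Ct (x : G) : Subgroup G := Subgroup.centralizer ({x} : Set G)

theorem mem_Ct {x g : G} : g ∈ Ct x ↔ g * x = x * g := Subgroup.mem_centralizer_singleton_iff

theorem self_mem_Ct (x : G) : x ∈ Ct x := mem_Ct.2 rfl

theorem conj_mem_map {K : Subgroup G} {g x : G} :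
    x ∈ K.map (MulAut.conj g).toMonoidHom ↔ g⁻¹ * x * g ∈ K := Invol.mem_conj_map

/-- The standing hypothesis: a good subgroup of even order, not normal. -/
structure TIHyp (K : Subgroup G) : Prop where
  good : CN.Good K
  even : 2 ∣ Nat.card K
  ne_top : Subgroup.normalizer (K : Set G) ≠ ⊤

namespace TIHyp

variable {K : Subgroup G} (h : TIHyp K)
include h

/-- The normaliser. -/
abbrev N (_ : TIHyp K) : Subgroup G := Subgroup.normalizer (K : Set G)

theorem K_le_N : K ≤ h.N := Subgroup.le_normalizer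

theorem conj_K {g k : G} (hg : g ∈ h.N) (hk : k ∈ K) : g * k * g⁻¹ ∈ K :=
  (Subgroup.mem_normalizer_iff.1 hg k).1 hk

theorem mem_N_of_meet {g k : G} (hk : k ∈ K) (hk1 : k ≠ 1) (hg : g * k * g⁻¹ ∈ K) : g ∈ h.N := by
  rw [Subgroup.mem_normalizer_iff_map_conj_eq]
  exact (h.good.conj g).eq_of_meet h.good ⟨k, hk, rfl⟩ hg fun e => hk1 (conj_eq_one_iff.1 e)

theorem odd_relIndex : ¬ 2 ∣ K.relIndex h.N := by
  haveI : Fact (Nat.Prime 2) := ⟨Nat.prime_two⟩
  obtain ⟨T, hT⟩ := h.good.sylow 2 Nat.prime_two h.even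
  intro hd
  have h1 : K.relIndex h.N ∣ (T : Subgroup G).index :=
    (Dvd.intro _ (Subgroup.relIndex_mul_index h.K_le_N)).trans (Subgroup.index_dvd_of_le hT)
  exact T.not_dvd_index (hd.trans h1)

theorem invol_mem {t : G} (ht : orderOf t = 2) (htN : t ∈ h.N) : t ∈ K := by
  haveI : (K.subgroupOf h.N).Normal := Subgroup.normal_in_normalizer
  have hp := Subgroup.pow_index_mem (K.subgroupOf h.N) ⟨t, htN⟩
  obtain ⟨j, hj⟩ := Nat.odd_iff.2 (Nat.two_dvd_ne_zero.1 h.odd_relIndex)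
  rw [show (K.subgroupOf h.N).index = 2 * j + 1 from hj, Subgroup.mem_subgroupOf] at hp
  push_cast at hp
  rwa [pow_succ, pow_mul, pow_two, mul_self ht, one_pow, one_mul] at hp

theorem stronglyEmbedded : Cfsg.IsStronglyEmbedded h.N := by
  refine ⟨h.ne_top, (even_iff_two_dvd).2 (h.even.trans (Subgroup.card_dvd_of_le h.K_le_N)),
    fun g hg => ?_⟩
  rw [← Nat.not_even_iff_odd]
  intro he
  obtain ⟨s, hs, hso⟩ := exists_invol he
  obtain ⟨hs1, hs2⟩ := Subgroup.mem_inf.1 hs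
  rw [conj_mem_map] at hs2
  have ho : orderOf (g⁻¹ * s * g) = 2 := by
    rw [show g⁻¹ * s * g = g⁻¹ * s * g⁻¹⁻¹ by group, order_conj, hso]
  refine hg (h.mem_N_of_meet (h.invol_mem ho hs2) (ne_one ho) ?_)
  rw [show g * (g⁻¹ * s * g) * g⁻¹ = s by group]
  exact h.invol_mem hso hs1

theorem isConj {s t : G} (hs : orderOf s = 2) (ht : orderOf t = 2) : IsConj s t :=
  se_isConj h.stronglyEmbedded hs ht

theorem exists_central : ∃ z ∈ K, orderOf z = 2 ∧ K ≤ Ct z := by
  haveI : Fact (Nat.Prime 2) := ⟨Nat.prime_two⟩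
  haveI := h.good.nil
  obtain ⟨P⟩ : Nonempty (Sylow 2 K) := inferInstance
  haveI : (P : Subgroup K).Normal := inferInstance
  obtain ⟨⟨w, hwP, hwc⟩, hw1⟩ := Subgroup.ne_bot_iff_exists_ne_one.1
    (SolvStruct.inf_center_ne_bot (G := K) (N := (P : Subgroup K))
      (P.ne_bot_of_dvd_card h.even))
  obtain ⟨k, hk⟩ := IsPGroup.iff_orderOf.1 P.isPGroup' ⟨w, hwP⟩
  rw [Subgroup.orderOf_mk] at hk
  have hw1' : w ≠ 1 := fun e => hw1 (Subtype.ext e)
  rcases Nat.eq_zero_or_pos k with rfl | hkpos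
  · exact absurd (orderOf_eq_one_iff.1 (by rw [hk, pow_zero])) hw1'
  obtain ⟨z, hz, hzo⟩ : ∃ z ∈ Subgroup.zpowers w, orderOf z = 2 := by
    refine ⟨w ^ 2 ^ (k - 1), Subgroup.pow_mem _ (Subgroup.mem_zpowers w) _, ?_⟩
    rw [orderOf_pow' _ (by positivity), hk]
    rw [Nat.gcd_eq_right (pow_dvd_pow 2 (Nat.sub_le k 1)), Nat.pow_div (Nat.sub_le k 1) two_pos,
      show k - (k - 1) = 1 by omega, pow_one]
  refine ⟨(z : G), z.2, by rw [Subgroup.orderOf_coe, hzo], fun a ha => mem_Ct.2 ?_⟩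
  have hzc : z ∈ Subgroup.center K := (Subgroup.zpowers_le.2 hwc) hz
  exact congrArg Subtype.val (Subgroup.mem_center_iff.1 hzc ⟨a, ha⟩)

theorem Ct_invol {t : G} (ht : orderOf t = 2) (htK : t ∈ K) : Ct t = K := by
  refine le_antisymm (h.good.cent t htK (ne_one ht)) fun a ha => ?_
  obtain ⟨z, hzK, hz, hzc⟩ := h.exists_central
  obtain ⟨g, hg⟩ := isConj_iff.1 (h.isConj hz ht)
  have hgN := h.mem_N_of_meet hzK (ne_one hz) (hg ▸ htK)
  have h1 : g⁻¹ * a * g ∈ Ct z := hzc (by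
    have := h.conj_K (inv_mem hgN) ha
    rwa [inv_inv] at this)
  rw [mem_Ct] at h1 ⊢
  rw [← hg]
  calc a * (g * z * g⁻¹) = g * (g⁻¹ * a * g * z) * g⁻¹ := by group
    _ = g * z * g⁻¹ * a := by rw [h1]; group

/-- The involutions of `K`. -/
abbrev J (_ : TIHyp K) : Type u := {t : G // orderOf t = 2 ∧ t ∈ K}

/-- Their number. -/
noncomputable def m : ℕ := Nat.card h.J

theorem relIndex_eq_m : K.relIndex h.N = h.m := by
  obtain ⟨z, hzK, hz, -⟩ := h.exists_central
  have e := CASimple.card_orbit_conj h.N z {t | orderOf t = 2 ∧ t ∈ K}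
    (fun g hg => ⟨(order_conj g z).trans hz, h.conj_K hg hzK⟩) fun t ht => by
      obtain ⟨g, hg⟩ := isConj_iff.1 (h.isConj hz ht.1)
      exact ⟨g, h.mem_N_of_meet hzK (ne_one hz) (hg ▸ ht.2), hg⟩
  have e' : CASimple.C z = K := h.Ct_invol hz hzK
  exact (congrArg (fun H : Subgroup G => H.relIndex (Subgroup.normalizer (K : Set G))) e').symm.trans e.symm

theorem odd_m : Odd h.m :=
  Nat.odd_iff.2 (Nat.two_dvd_ne_zero.1 (h.relIndex_eq_m ▸ h.odd_relIndex))

theorem card_N : Nat.card h.N = Nat.card K * h.m := by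
  rw [← h.relIndex_eq_m, ← (K.subgroupOf h.N).card_mul_index,
    Nat.card_congr (Subgroup.subgroupOfEquivOfLe h.K_le_N).toEquiv]
  rfl

theorem card_invol : Nat.card {t : G // orderOf t = 2} = h.m * Nat.card (G ⧸ h.N) := by
  obtain ⟨z, hzK, hz, -⟩ := h.exists_central
  have e : Nat.card {t : G // orderOf t = 2} = (Ct z).relIndex ⊤ :=
    CASimple.card_orbit_conj ⊤ z {t | orderOf t = 2} (fun g _ => (order_conj g z).trans hz)
      fun t ht => by
        obtain ⟨g, hg⟩ := isConj_iff.1 (h.isConj hz ht)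
        exact ⟨g, Subgroup.mem_top g, hg⟩
  rw [e, Subgroup.relIndex_top_right, h.Ct_invol hz hzK, ← h.relIndex_eq_m,
    ← Subgroup.index_eq_card, Subgroup.relIndex_mul_index h.K_le_N]

/-- The intersection of the normaliser with a conjugate. -/
def D (u : G) : Subgroup G := h.N ⊓ h.N.map (MulAut.conj u).toMonoidHom

theorem mem_D {u d : G} (hu : orderOf u = 2) : d ∈ h.D u ↔ d ∈ h.N ∧ u * d * u ∈ h.N := by
  rw [D, Subgroup.mem_inf, conj_mem_map, inv_self hu]

theorem D_inf_K {u : G} (hu : orderOf u = 2) (huN : u ∉ h.N) {a : G} (ha : a ∈ K) (had : a ∈ h.D u) :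
    a = 1 := by
  set b := u * a * u with hb
  have hbN : b ∈ h.N := ((h.mem_D hu).1 had).2
  have key : ∀ c ∈ K, c ≠ 1 → u * c * u ∉ K := fun c hc hc1 e => huN (h.mem_N_of_meet hc hc1 (by
    rwa [inv_self hu]))
  set c := a * (b * a⁻¹ * b⁻¹) with hcdef
  have hcK : c ∈ K := mul_mem ha (h.conj_K hbN (inv_mem ha))
  have hucu : u * c * u = c⁻¹ := by
    rw [hcdef, hb, mul_inv_rev, mul_inv_rev, inv_self hu]
    simp only [mul_inv_rev, inv_inv, inv_self hu, mul_assoc]
    simp only [mul_self hu, mul_one, ← mul_assoc u u, one_mul]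
  have hc1 : c = 1 := by
    by_contra e
    exact key c hcK e (hucu ▸ inv_mem hcK)
  by_contra ha1
  refine key a ha ha1 (h.good.cent a ha ha1 (mem_Ct.2 ?_))
  have := congrArg (fun e => e * (b * a)) hc1
  simp only [hcdef, one_mul] at this
  rw [show a * (b * a⁻¹ * b⁻¹) * (b * a) = a * b by group] at this
  exact this.symm

/-- The injection of a two-point stabiliser into the stabiliser modulo the kernel. -/
def toQuot (u : G) (d : h.D u) : h.N ⧸ K.subgroupOf h.N := QuotientGroup.mk ⟨d, d.2.1⟩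

theorem toQuot_injective {u : G} (hu : orderOf u = 2) (huN : u ∉ h.N) :
    Function.Injective (h.toQuot u) := by
  intro d d' e
  rw [toQuot, toQuot, QuotientGroup.eq, Subgroup.mem_subgroupOf] at e
  push_cast at e
  exact Subtype.ext (inv_mul_eq_one.1 (h.D_inf_K hu huN e (mul_mem (inv_mem d.2) d'.2)))

theorem smul_base {g : G} : g • ((1 : G) : G ⧸ h.N) = (g : G ⧸ h.N) := by
  rw [MulAction.Quotient.smul_mk, smul_eq_mul, mul_one]

theorem fix_base {g : G} : g • ((1 : G) : G ⧸ h.N) = ((1 : G) : G ⧸ h.N) ↔ g ∈ h.N := by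
  rw [h.smul_base, QuotientGroup.eq, mul_one, inv_mem_iff]

theorem card_swap_le {y : G ⧸ h.N} (hy : y ≠ ((1 : G) : G ⧸ h.N)) :
    Nat.card {w : G // orderOf w = 2 ∧ (w : G ⧸ h.N) = y} ≤ h.m := by
  rcases isEmpty_or_nonempty {w : G // orderOf w = 2 ∧ (w : G ⧸ h.N) = y} with he | ⟨⟨u, hu, huy⟩⟩
  · simp
  have huN : u ∉ h.N := fun e => hy (by rw [← huy, ← h.smul_base]; exact h.fix_base.2 e)
  calc Nat.card {w : G // orderOf w = 2 ∧ (w : G ⧸ h.N) = y}
      ≤ Nat.card (h.D u) := by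
        refine Nat.card_le_card_of_injective (fun w => (⟨u * w.1, (h.mem_D hu).2 ⟨?_, ?_⟩⟩ : h.D u))
          fun a b e => Subtype.ext (mul_left_cancel (congrArg Subtype.val e :))
        · have e := QuotientGroup.eq.1 (huy.trans w.2.2.symm)
          rwa [inv_self hu] at e
        · have e := QuotientGroup.eq.1 (w.2.2.trans huy.symm)
          rw [inv_self w.2.1] at e
          rwa [← mul_assoc, mul_self hu, one_mul]
    _ ≤ Nat.card (h.N ⧸ K.subgroupOf h.N) :=
        Nat.card_le_card_of_injective _ (h.toQuot_injective hu huN)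
    _ = h.m := by rw [← h.relIndex_eq_m]; rfl

theorem card_swap {y : G ⧸ h.N} (hy : y ≠ ((1 : G) : G ⧸ h.N)) :
    Nat.card {w : G // orderOf w = 2 ∧ (w : G ⧸ h.N) = y} = h.m := by
  classical
  haveI : Fintype (G ⧸ h.N) := Fintype.ofFinite _
  set x₀ : G ⧸ h.N := ((1 : G) : G ⧸ h.N) with hx₀
  have hsum : Nat.card {w : G // orderOf w = 2} =
      ∑ z : G ⧸ h.N, Nat.card {w : G // orderOf w = 2 ∧ (w : G ⧸ h.N) = z} := by
    rw [← Nat.card_congr (Equiv.sigmaFiberEquiv fun w : {w : G // orderOf w = 2} => (w.1 : G ⧸ h.N)),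
      Nat.card_sigma]
    exact Finset.sum_congr rfl fun z _ => Nat.card_congr
      (Equiv.subtypeSubtypeEquivSubtypeInter (fun w => orderOf w = 2) fun w : G => (w : G ⧸ h.N) = z)
  have hfix : Nat.card {w : G // orderOf w = 2 ∧ (w : G ⧸ h.N) = x₀} = h.m :=
    Nat.card_congr (Equiv.subtypeEquivRight fun w => and_congr_right fun hw => by
      rw [hx₀, ← h.smul_base, h.fix_base]
      exact ⟨h.invol_mem hw, fun e => h.K_le_N e⟩)
  rw [h.card_invol, ← Finset.add_sum_erase _ _ (Finset.mem_univ x₀), hfix,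
    Nat.card_eq_fintype_card] at hsum
  refine (Finset.sum_eq_sum_iff_of_le
    (fun z hz => h.card_swap_le (Finset.mem_erase.1 hz).1)).1 ?_ y
    (Finset.mem_erase.2 ⟨hy, Finset.mem_univ y⟩)
  rw [Finset.sum_const, Finset.card_erase_of_mem (Finset.mem_univ x₀), Finset.card_univ, smul_eq_mul]
  obtain ⟨n, hn⟩ : ∃ n, Fintype.card (G ⧸ h.N) = n + 1 :=
    ⟨Fintype.card (G ⧸ h.N) - 1, by have := Fintype.card_pos_iff.2 ⟨x₀⟩; omega⟩
  rw [hn, mul_add, mul_one] at hsum
  rw [hn, Nat.add_sub_cancel, mul_comm n]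
  rw [hx₀] at hsum
  omega

theorem exists_swapper {y : G ⧸ h.N} (hy : y ≠ ((1 : G) : G ⧸ h.N)) :
    ∃ u : G, orderOf u = 2 ∧ u ∉ h.N ∧ u • ((1 : G) : G ⧸ h.N) = y := by
  obtain ⟨⟨u, hu, huy⟩⟩ : Nonempty {w : G // orderOf w = 2 ∧ (w : G ⧸ h.N) = y} :=
    (Nat.card_pos_iff.1 (by rw [h.card_swap hy]; exact h.odd_m.pos)).1
  have e : u • ((1 : G) : G ⧸ h.N) = y := h.smul_base.trans huy
  exact ⟨u, hu, fun hm => hy (e.symm.trans (h.fix_base.2 hm)), e⟩

theorem exists_invol_not_mem : ∃ u : G, orderOf u = 2 ∧ u ∉ h.N := by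
  obtain ⟨g, hg⟩ : ∃ g, g ∉ h.N := by
    by_contra hc
    push Not at hc
    exact h.ne_top ((Subgroup.eq_top_iff' _).2 hc)
  obtain ⟨u, hu, huN, -⟩ := h.exists_swapper (y := (g : G ⧸ h.N))
    fun e => hg (by simpa using QuotientGroup.eq.1 e)
  exact ⟨u, hu, huN⟩

variable {u : G} (hu : orderOf u = 2) (huN : u ∉ h.N)
include hu huN

/-- The bijection of the involutions of a coset with the two-point stabiliser. -/
theorem card_D_invert : Nat.card (h.D u) = h.m ∧ ∀ d ∈ h.D u, u * d * u = d⁻¹ := by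
  set y : G ⧸ h.N := (u : G ⧸ h.N) with hy
  have hyne : y ≠ ((1 : G) : G ⧸ h.N) := fun e => huN (by simpa using QuotientGroup.eq.1 e.symm)
  let f : {w : G // orderOf w = 2 ∧ (w : G ⧸ h.N) = y} → h.D u := fun w =>
    ⟨u * w.1, (h.mem_D hu).2 ⟨by
      have e := QuotientGroup.eq.1 w.2.2.symm
      rwa [inv_self hu] at e, by
      have e := QuotientGroup.eq.1 w.2.2
      rw [inv_self w.2.1] at e
      rwa [← mul_assoc, mul_self hu, one_mul]⟩⟩
  have hinj : Function.Injective f := fun a b e => Subtype.ext (mul_left_cancel (congrArg Subtype.val e :))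
  have hle : Nat.card (h.D u) ≤ h.m := by
    rw [← h.relIndex_eq_m]
    exact Nat.card_le_card_of_injective _ (h.toQuot_injective hu huN)
  have hge : h.m ≤ Nat.card (h.D u) := by
    rw [← h.card_swap hyne]; exact Nat.card_le_card_of_injective f hinj
  refine ⟨le_antisymm hle hge, fun d hd => ?_⟩
  obtain ⟨⟨w, hw, hwy⟩, hwd⟩ :=
    ((Nat.bijective_iff_injective_and_card f).2 ⟨hinj, by rw [h.card_swap hyne]; omega⟩).2 ⟨d, hd⟩
  have e : u * w = d := congrArg Subtype.val hwd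
  rw [← e, mul_inv_rev, inv_self hw, inv_self hu, ← mul_assoc, mul_self hu, one_mul]

theorem card_D : Nat.card (h.D u) = h.m := (h.card_D_invert hu huN).1

theorem invert {d : G} (hd : d ∈ h.D u) : u * d * u = d⁻¹ := (h.card_D_invert hu huN).2 d hd

theorem comm_D {c d : G} (hc : c ∈ h.D u) (hd : d ∈ h.D u) : c * d = d * c := by
  refine inv_injective ?_
  rw [← h.invert hu huN (mul_mem hc hd), ← h.invert hu huN (mul_mem hd hc)]
  calc u * (c * d) * u = (u * c * u) * (u * d * u) := by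
        rw [show u * c * u * (u * d * u) = u * c * (u * u) * d * u by group, mul_self hu]; group
    _ = (d * c)⁻¹ := by rw [h.invert hu huN hc, h.invert hu huN hd]; group
    _ = u * (d * c) * u := (h.invert hu huN (mul_mem hd hc)).symm

theorem sq_ne_one {d : G} (hd : d ∈ h.D u) (hd1 : d ≠ 1) : d * d ≠ 1 := fun e =>
  hd1 (h.D_inf_K hu huN (h.invol_mem (order_two_of_sq e hd1) hd.1) hd)

theorem N_eq_KD {n : G} (hn : n ∈ h.N) : ∃ k ∈ K, ∃ d ∈ h.D u, n = d * k := by
  have hb := (h.toQuot_injective hu huN).bijective_of_nat_card_le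
    (le_of_eq (by rw [h.card_D hu huN, ← h.relIndex_eq_m]; rfl))
  obtain ⟨d, hd⟩ := hb.2 (QuotientGroup.mk ⟨n, hn⟩)
  rw [toQuot, QuotientGroup.eq, Subgroup.mem_subgroupOf] at hd
  push_cast at hd
  exact ⟨(d : G)⁻¹ * n, hd, d, d.2, by group⟩

theorem D_cent_K {d k : G} (hd : d ∈ h.D u) (hk : k ∈ K) (hk1 : k ≠ 1) (hc : d * k = k * d) : d = 1 :=
  h.D_inf_K hu huN (h.good.cent k hk hk1 (mem_Ct.2 hc)) hd

theorem invol_not_comm {d : G} (hd : d ∈ h.D u) (hd1 : d ≠ 1) {s : G} (hs : orderOf s = 2) :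
    s * d ≠ d * s := by
  intro e
  obtain ⟨z, hzK, hz, -⟩ := h.exists_central
  obtain ⟨g, hg⟩ := isConj_iff.1 (h.isConj hz hs)
  have hdK : g⁻¹ * d * g ∈ K := by
    refine h.good.cent z hzK (ne_one hz) (mem_Ct.2 ?_)
    rw [← hg] at e
    calc g⁻¹ * d * g * z = g⁻¹ * (d * (g * z * g⁻¹)) * g := by group
      _ = z * (g⁻¹ * d * g) := by rw [← e]; group
  have hd' : g⁻¹ * d * g ≠ 1 := fun e' => hd1 ((conj_eq_one_iff (a := g⁻¹)).1 (by rwa [inv_inv]))
  have huN' : g⁻¹ * u * g ∈ h.N := by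
    refine h.mem_N_of_meet hdK hd' ?_
    rw [show g⁻¹ * u * g * (g⁻¹ * d * g) * (g⁻¹ * u * g)⁻¹ = g⁻¹ * (u * d * u⁻¹) * g by group,
      inv_self hu, h.invert hu huN hd]
    have := inv_mem hdK
    rwa [show (g⁻¹ * d * g)⁻¹ = g⁻¹ * d⁻¹ * g by group] at this
  have huK : g⁻¹ * u * g ∈ K :=
    h.invol_mem (by rw [show g⁻¹ * u * g = g⁻¹ * u * g⁻¹⁻¹ by group, order_conj, hu]) huN'
  have hodd : Odd (orderOf d) := by
    refine Odd.of_dvd_nat ?_ (Subgroup.orderOf_dvd_natCard _ hd)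
    rw [h.card_D hu huN]; exact h.odd_m
  have hcop : (orderOf (g⁻¹ * u * g)).Coprime (orderOf (g⁻¹ * d * g)) := by
    rw [show g⁻¹ * u * g = g⁻¹ * u * g⁻¹⁻¹ by group, show g⁻¹ * d * g = g⁻¹ * d * g⁻¹⁻¹ by group,
      order_conj, order_conj, hu]
    exact Nat.coprime_two_left.2 hodd
  have hcomm := (CN.commute_of_coprime h.good.nil huK hdK hcop).eq
  refine h.sq_ne_one hu huN hd hd1 ?_
  have e1 : u * d = d * u := by
    have := congrArg (fun x => g * x * g⁻¹) hcomm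
    calc u * d = g * (g⁻¹ * u * g * (g⁻¹ * d * g)) * g⁻¹ := by group
      _ = g * (g⁻¹ * d * g * (g⁻¹ * u * g)) * g⁻¹ := this
      _ = d * u := by group
  have e2 := h.invert hu huN hd
  rw [e1, mul_assoc, mul_self hu, mul_one] at e2
  exact mul_eq_one_iff_eq_inv.2 e2

theorem odd_Ct {d : G} (hd : d ∈ h.D u) (hd1 : d ≠ 1) : Odd (Nat.card (Ct d)) := by
  rw [← Nat.not_even_iff_odd]
  intro he
  obtain ⟨s, hs, hso⟩ := exists_invol he
  exact h.invol_not_comm hu huN hd hd1 hso (mem_Ct.1 hs)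

theorem Ct_inf_N {d : G} (hd : d ∈ h.D u) (hd1 : d ≠ 1) {x : G} (hx : x ∈ Ct d) (hxN : x ∈ h.N) :
    x ∈ h.D u := by
  obtain ⟨k, hk, e, he, rfl⟩ := h.N_eq_KD hu huN hxN
  by_cases hk1 : k = 1
  · rwa [hk1, mul_one]
  refine absurd (h.D_cent_K hu huN hd hk hk1 ?_) hd1
  have hx' : e * k * d = d * (e * k) := mem_Ct.1 hx
  rw [← mul_assoc d e k, h.comm_D hu huN hd he, mul_assoc, mul_assoc] at hx'
  exact (mul_left_cancel hx').symm

omit hu huN in
/-- Two fixed points of an element are interchanged by an involution inverting it. -/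
theorem exists_inverter {p q : G ⧸ h.N} (hpq : p ≠ q) {d : G} (hp : d • p = p) (hq : d • q = q) :
    ∃ w : G, orderOf w = 2 ∧ w • p = q ∧ w * d * w = d⁻¹ := by
  obtain ⟨g, rfl⟩ := QuotientGroup.mk_surjective p
  have hq' : g⁻¹ • q ≠ ((1 : G) : G ⧸ h.N) := fun e => hpq (by
    rw [← h.smul_base, ← e, smul_inv_smul])
  obtain ⟨w, hw, hwN, hwq⟩ := h.exists_swapper hq'
  refine ⟨g * w * g⁻¹, (order_conj g w).trans hw, ?_, ?_⟩
  · rw [mul_smul, mul_smul, ← h.smul_base (g := g), inv_smul_smul, hwq, smul_inv_smul]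
  · have hd' : g⁻¹ * d * g ∈ h.D w := by
      refine (h.mem_D hw).2 ⟨h.fix_base.1 ?_, h.fix_base.1 ?_⟩
      · rw [mul_smul, mul_smul, h.smul_base, hp, ← h.smul_base (g := g), inv_smul_smul]
      · rw [mul_smul, mul_smul, mul_smul, mul_smul, hwq, smul_inv_smul, hq, ← hwq, ← mul_smul,
          mul_self hw, one_smul]
    have e := h.invert hw hwN hd'
    calc g * w * g⁻¹ * d * (g * w * g⁻¹) = g * (w * (g⁻¹ * d * g) * w) * g⁻¹ := by group
      _ = d⁻¹ := by rw [e]; group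

theorem invert_Ct {d : G} (hd : d ∈ h.D u) (hd1 : d ≠ 1) {c : G} (hc : c ∈ Ct d) :
    u * c * u = c⁻¹ := by
  have hdu : u * d * u = d⁻¹ := h.invert hu huN hd
  have hdd : u * d⁻¹ * u = d := by
    rw [← hdu, show u * (u * d * u) * u = u * u * d * (u * u) by group, mul_self hu, one_mul, mul_one]
  have hmem : ∀ x ∈ Ct d, u * x * u ∈ Ct d := fun x hx => by
    rw [mem_Ct] at hx ⊢
    have hx' : x * d⁻¹ = d⁻¹ * x := (Commute.inv_right (show Commute x d from hx)).eq
    have e : u * x * u * (u * d⁻¹ * u) = u * d⁻¹ * u * (u * x * u) := by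
      rw [show u * x * u * (u * d⁻¹ * u) = u * (x * (u * u) * d⁻¹) * u by group, mul_self hu, mul_one, hx',
        show u * d⁻¹ * u * (u * x * u) = u * (d⁻¹ * (u * u) * x) * u by group, mul_self hu, mul_one]
    rwa [hdd] at e
  have hinv : ∀ x : G, u * (u * x * u) * u = x := fun x => by
    rw [show u * (u * x * u) * u = u * u * x * (u * u) by group, mul_self hu, one_mul, mul_one]
  let φ : Ct d →* Ct d :=
    { toFun := fun x => ⟨u * x * u, hmem x x.2⟩
      map_one' := Subtype.ext (by simp [mul_self hu])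
      map_mul' := fun x y => Subtype.ext (by
        simp only [Subgroup.coe_mul]
        rw [show u * (x : G) * u * (u * (y : G) * u) = u * (x : G) * (u * u) * (y : G) * u by group,
          mul_self hu]; group) }
  have hfp : MonoidHom.FixedPointFree φ := fun x hx => Subtype.ext (by
    have hxu : u * (x : G) * u = x := congrArg Subtype.val hx
    by_contra hx1
    obtain ⟨z, hzK, hz, -⟩ := h.exists_central
    obtain ⟨g, hg⟩ := isConj_iff.1 (h.isConj hz hu)
    have hxu' : (x : G) * u = u * x := by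
      conv_lhs => rw [← hxu, mul_assoc, mul_self hu, mul_one]
    have hxK : g⁻¹ * x * g ∈ K := by
      refine h.good.cent z hzK (ne_one hz) (mem_Ct.2 ?_)
      calc g⁻¹ * x * g * z = g⁻¹ * (x * (g * z * g⁻¹)) * g := by group
        _ = z * (g⁻¹ * x * g) := by rw [hg, hxu', ← hg]; group
    have hdK : g⁻¹ * d * g ∈ K := by
      refine h.good.cent _ hxK (fun e' => hx1 ((conj_eq_one_iff (a := g⁻¹)).1 (by rwa [inv_inv]))) (mem_Ct.2 ?_)
      calc g⁻¹ * d * g * (g⁻¹ * x * g) = g⁻¹ * (d * x) * g := by group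
        _ = g⁻¹ * x * g * (g⁻¹ * d * g) := by rw [← mem_Ct.1 x.2]; group
    refine h.invol_not_comm hu huN hd hd1 (s := g * z * g⁻¹) ((order_conj g z).trans hz) ?_
    have hzc := mem_Ct.1 ((h.Ct_invol hz hzK).symm ▸ hdK : g⁻¹ * d * g ∈ Ct z)
    calc g * z * g⁻¹ * d = g * (z * (g⁻¹ * d * g)) * g⁻¹ := by group
      _ = d * (g * z * g⁻¹) := by rw [← hzc]; group)
  have := congrFun (hfp.coe_eq_inv_of_involutive fun x => Subtype.ext (hinv x)) ⟨c, hc⟩
  exact congrArg Subtype.val this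

/-- An element of the two-point stabiliser fixes only two points. -/
theorem fix_two {d : G} (hd : d ∈ h.D u) (hd1 : d ≠ 1) {c : G ⧸ h.N} (hc : d • c = c) :
    c = ((1 : G) : G ⧸ h.N) ∨ c = u • ((1 : G) : G ⧸ h.N) := by
  set x₀ : G ⧸ h.N := ((1 : G) : G ⧸ h.N) with hx₀
  set y₀ : G ⧸ h.N := u • x₀ with hy₀
  by_contra hcon
  push Not at hcon
  obtain ⟨hcx, hcy⟩ := hcon
  have hdx : d • x₀ = x₀ := h.fix_base.2 hd.1
  have hdy : d • y₀ = y₀ := by
    have e : (u * d * u) • x₀ = x₀ := h.fix_base.2 ((h.mem_D hu).1 hd).2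
    rw [mul_smul, mul_smul] at e
    rw [← smul_left_cancel_iff u, e, hy₀, ← mul_smul, mul_self hu, one_smul]
  obtain ⟨w₁, hw₁, e₁, i₁⟩ := h.exists_inverter (Ne.symm hcx) hdx hc
  obtain ⟨w₂, hw₂, e₂, i₂⟩ := h.exists_inverter hcy hc hdy
  obtain ⟨b, hbdef⟩ : ∃ b, b = w₂ * w₁ := ⟨_, rfl⟩
  have hb : b ∈ Ct d := by
    rw [mem_Ct, hbdef]
    have a1 : w₁ * d = d⁻¹ * w₁ := by rw [← i₁, mul_assoc _ w₁ w₁, mul_self hw₁, mul_one]
    have a2 : w₂ * d⁻¹ = d * w₂ := by
      rw [← i₂, show w₂ * (w₂ * d * w₂) = w₂ * w₂ * d * w₂ by group, mul_self hw₂, one_mul]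
    rw [mul_assoc, a1, ← mul_assoc, a2, mul_assoc]
  have hbx : b • x₀ = y₀ := by rw [hbdef, mul_smul, e₁, e₂]
  have hinv := h.invert_Ct hu huN hd hd1 hb
  have hi2 : u * b * (u * b) = 1 := by rw [← mul_assoc, hinv, inv_mul_cancel]
  have hi1 : u * b ≠ 1 := fun e => by
    have hbu : b = u := (mul_eq_one_iff_inv_eq.1 e).symm.trans (inv_self hu)
    have he : Even (Nat.card (Ct d)) := even_of_invol_mem hu (hbu ▸ hb)
    exact Nat.not_even_iff_odd.2 (h.odd_Ct hu huN hd hd1) he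
  have hiN : u * b ∈ h.N := h.fix_base.1 (by
    rw [mul_smul, ← hx₀, hbx, hy₀, ← mul_smul, mul_self hu, one_smul])
  have hiK : u * b ∈ K := h.invol_mem (order_two_of_sq hi2 hi1) hiN
  have hinvd : u * b * d * (u * b)⁻¹ = d⁻¹ := by
    rw [show u * b * d * (u * b)⁻¹ = u * (b * d * b⁻¹) * u⁻¹ by group, mem_Ct.1 hb, mul_inv_cancel_right,
      inv_self hu, h.invert hu huN hd]
  have hdd : d⁻¹ * d⁻¹ ∈ K := by
    rw [show d⁻¹ * d⁻¹ = u * b * (d * (u * b)⁻¹ * d⁻¹) by rw [← mul_assoc, ← mul_assoc, hinvd]]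
    exact mul_mem hiK (h.conj_K hd.1 (inv_mem hiK))
  have := h.D_inf_K hu huN hdd (mul_mem (inv_mem hd) (inv_mem hd))
  refine h.sq_ne_one hu huN hd hd1 ?_
  rw [← inv_eq_one, mul_inv_rev, this]

end TIHyp

end Cfsg.Agent.CNSimple
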