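import Cfsg.Agent.Lib.CNSimple.Four
import Cfsg.Agent.Lib.TwoGroups.CentFour
import Cfsg.Agent.Lib.TwoGroups.Lifts
import Cfsg.Agent.Lib.SelfCentNC.PSL
import Cfsg.Agent.S0508
import Cfsg.Agent.S1213

/-!
# Modules of order four: dihedral Sylow subgroups
-/

set_option autoImplicit false
set_option linter.style.haveILetI false
set_option linter.unusedSectionVars false

namespace Cfsg.Agent.CNSimple

open Cfsg.Agent.Invol

universe u

variable {G : Type u} [Group G] [Finite G]

namespace Conf

variable {T V W : Subgroup G} (C : Conf T V W 2)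
include C

theorem exists_outside : ∃ v ∈ V, v ∉ omegaZ T := by
  by_contra hcon
  push Not at hcon
  have h := Subgroup.card_le_of_le (show V ≤ omegaZ T from hcon)
  rw [C.vw.card_V, ← C.vw.inf_eq, C.vw.card_inf] at h
  omega

theorem Z_two {a b : G} (ha : a ∈ omegaZ T) (ha1 : a ≠ 1) (hb : b ∈ omegaZ T) : b = 1 ∨ b = a := by
  by_contra hcon
  push Not at hcon
  let f : Fin 3 → omegaZ T := ![1, ⟨a, ha⟩, ⟨b, hb⟩]
  have hf : Function.Injective f := by
    intro i j e
    fin_cases i <;> fin_cases j <;>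
      simp only [f, Fin.isValue, Matrix.cons_val_zero, Matrix.cons_val_one, Matrix.cons_val,
        Subtype.ext_iff, Subgroup.coe_one] at e ⊢ <;>
      first
        | rfl
        | exact absurd e ha1 | exact absurd e.symm ha1 | exact absurd e hcon.1 | exact absurd e.symm hcon.1
        | exact absurd e hcon.2 | exact absurd e.symm hcon.2
  have := Nat.card_le_card_of_injective f hf
  rw [← C.vw.inf_eq, C.vw.card_inf] at this
  simp at this

/-- Two dihedral four-groups with automorphisms of order three. -/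
theorem sfour (hc : CIT G) : SFourCfg G := by
  classical
  obtain ⟨v, hv, hvZ⟩ := C.exists_outside
  obtain ⟨w, hw, hwZ⟩ := C.symm.exists_outside
  obtain ⟨hkey, hsq⟩ := C.normalizes
  set z := v * w * (v * w) with hz
  have hcT : v * w ∈ T := T.mul_mem (C.vw.V_le hv) (C.vw.W_le hw)
  have hzZ : z ∈ omegaZ T := C.vw.inf_eq ▸ hsq _ hcT
  have hz1 : z ≠ 1 := by
    intro e
    rcases C.vw.invol _ hcT e with h | h
    · refine hwZ (C.vw.inf_eq ▸ ⟨(Subgroup.mul_mem_cancel_left V hv).1 h, hw⟩)
    · exact hvZ (C.vw.inf_eq ▸ ⟨hv, (Subgroup.mul_mem_cancel_right W hw).1 h⟩)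
  have hvv : v * v = 1 := C.vw.elem_V.1 v hv
  have hww : w * w = 1 := C.vw.elem_W.1 w hw
  have hzz : z * z = 1 := hzZ.2.1
  have hco : orderOf (v * w) = 4 := by
    have h1 : (v * w) ^ (2 ^ 2) = 1 := by
      rw [show (v * w) ^ (2 ^ 2) = z * z by rw [hz, show (2 ^ 2 : ℕ) = 2 + 2 from rfl, pow_add, pow_two], hzz]
    obtain ⟨i, hi, e⟩ := (Nat.dvd_prime_pow Nat.prime_two).1 (orderOf_dvd_of_pow_eq_one h1)
    interval_cases i
    · exact absurd (by rw [hz, orderOf_eq_one_iff.1 (e.trans (pow_zero 2)), one_mul]) hz1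
    · exact absurd (mul_self (e.trans (pow_one 2))) hz1
    · exact e
  -- an element of order three sending `z` to `a`
  have hthree : ∀ {V W : Subgroup G}, Conf T V W 2 → z ∈ V → ∀ a ∈ V, a ∉ omegaZ T →
      ∃ x : G, orderOf x = 3 ∧ x * z * x⁻¹ = a ∧ x * a * x⁻¹ = z * a := by
    intro V W C hzV a ha haZ
    have ha1 : a ≠ 1 := fun e => haZ (e ▸ Subgroup.one_mem _)
    have hza : z * a ≠ 1 := fun e => haZ (by
      rw [← inv_eq_of_mul_eq_one_right e, inv_eq_of_mul_eq_one_right hzz]; exact hzZ)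
    have haz : a ≠ z := fun e => haZ (e ▸ hzZ)
    have hall : ∀ b ∈ V, b = 1 ∨ b = z ∨ b = a ∨ b = z * a := by
      intro b hb
      by_contra hcon
      push Not at hcon
      obtain ⟨c1, c2, c3, c4⟩ := hcon
      have e1 : z * a ≠ z := fun e => ha1 (mul_eq_left.1 e)
      have e2 : z * a ≠ a := fun e => hz1 (mul_eq_right.1 e)
      let f : Fin 5 → V := ![1, ⟨z, hzV⟩, ⟨a, ha⟩, ⟨z * a, V.mul_mem hzV ha⟩, ⟨b, hb⟩]
      have hf : Function.Injective f := by
        intro i j e
        fin_cases i <;> fin_cases j <;>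
          simp only [f, Fin.isValue, Matrix.cons_val_zero, Matrix.cons_val_one, Matrix.cons_val,
            Subtype.ext_iff, Subgroup.coe_one] at e ⊢ <;>
          first
            | rfl
            | exact absurd e hz1 | exact absurd e.symm hz1 | exact absurd e ha1 | exact absurd e.symm ha1
            | exact absurd e hza | exact absurd e.symm hza | exact absurd e c1 | exact absurd e.symm c1
            | exact absurd e c2 | exact absurd e.symm c2 | exact absurd e c3 | exact absurd e.symm c3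
            | exact absurd e c4 | exact absurd e.symm c4 | exact absurd e haz | exact absurd e.symm haz
            | exact absurd e e1 | exact absurd e.symm e1 | exact absurd e e2 | exact absurd e.symm e2
      have := Nat.card_le_card_of_injective f hf
      rw [C.vw.card_V] at this
      simp at this
    obtain ⟨y, hy, hy3⟩ := C.nV.three
    have hyy : y * y * y = 1 := by
      have := pow_orderOf_eq_one y; rw [hy3, pow_three] at this; rwa [mul_assoc]
    have hmem : ∀ b ∈ V, y * b * y⁻¹ ∈ V := fun b hb => (Subgroup.mem_normalizer_iff.1 hy b).1 hb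
    have hfree : ∀ b ∈ V, b ≠ 1 → y * b * y⁻¹ ≠ b := fun b hb hb1 e => by
      obtain ⟨k, hk⟩ := order_two_pow C.vw.elem_V.isPGroup hb
      have := hc.odd_comm hb1 hk (by rw [hy3]; decide) (mul_inv_eq_iff_eq_mul.1 e)
      rw [this, orderOf_one] at hy3
      omega
    rcases hall _ (hmem z hzV) with e | e | e | e
    · exact absurd (conj_eq_one_iff.1 e) hz1
    · exact absurd e (hfree z hzV hz1)
    · refine ⟨y, hy3, e, ?_⟩
      rcases hall _ (hmem a ha) with f | f | f | f
      · exact absurd (conj_eq_one_iff.1 f) ha1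
      · exfalso
        refine hfree z hzV hz1 ?_
        calc y * z * y⁻¹ = y * (y * a * y⁻¹) * y⁻¹ := by rw [f]
          _ = y * (y * (y * z * y⁻¹) * y⁻¹) * y⁻¹ := by rw [e]
          _ = (y * y * y) * z * (y * y * y)⁻¹ := by group
          _ = z := by rw [hyy]; group
      · exact absurd f (hfree a ha ha1)
      · exact f
    · -- the inverse works
      have hyi : y⁻¹ = y * y := inv_eq_of_mul_eq_one_right (by rw [← mul_assoc, hyy])
      have g1 : y * (z * a) * y⁻¹ = a := by
        rcases hall _ (hmem _ (V.mul_mem hzV ha)) with f | f | f | f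
        · exact absurd (conj_eq_one_iff.1 f) hza
        · exfalso
          refine hfree z hzV hz1 ?_
          calc y * z * y⁻¹ = y * (y * (z * a) * y⁻¹) * y⁻¹ := by rw [f]
            _ = y * (y * (y * z * y⁻¹) * y⁻¹) * y⁻¹ := by rw [e]
            _ = (y * y * y) * z * (y * y * y)⁻¹ := by group
            _ = z := by rw [hyy]; group
        · exact f
        · exact absurd f (hfree _ (V.mul_mem hzV ha) hza)
      refine ⟨y * y, ?_, ?_, ?_⟩
      · rw [← hyi, orderOf_inv, hy3]
      · calc y * y * z * (y * y)⁻¹ = y * (y * z * y⁻¹) * y⁻¹ := by group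
          _ = a := by rw [e, g1]
      · calc y * y * a * (y * y)⁻¹ = y * y * (y * (y * z * y⁻¹) * y⁻¹) * (y * y)⁻¹ := by rw [e, g1]
          _ = (y * y * y) * (y * z * y⁻¹) * (y * y * y)⁻¹ := by group
          _ = z * a := by rw [hyy, e]; group
  have hzVW : z ∈ V ⊓ W := C.vw.inf_eq ▸ hzZ
  obtain ⟨x, hx, hx1, hx2⟩ := hthree C hzVW.1 v hv hvZ
  obtain ⟨x', hx', hx1', hx2'⟩ := hthree C.symm hzVW.2 w hw hwZ
  have hvc : v * (v * w) = w := by rw [← mul_assoc, hvv, one_mul]
  refine ⟨v * w, v, x, x', hco, order_two_of_sq hvv fun e => hvZ (e ▸ Subgroup.one_mem _), ?_, hx, hx',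
    hx1, hx2, ?_, ?_⟩
  · rw [hvc, mul_inv_rev, inv_eq_of_mul_eq_one_right hww, inv_eq_of_mul_eq_one_right hvv]
  · rw [hvc]; exact hx1'
  · rw [hvc]; exact hx2'

end Conf

/-- `2`-groups as centralisers force the special values of `q`. -/
theorem isOddPSL_of_psl (hc : CIT G) (hev : 2 ∣ Nat.card G) {F : Type} [Field F] [Fintype F]
    (hodd : Odd (Fintype.card F)) (e : G ≃* Matrix.ProjectiveSpecialLinearGroup (Fin 2) F) : IsOddPSL G := by
  suffices h : Fintype.card F = 9 ∨ ((Fintype.card F).Prime ∧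
      ∃ k : ℕ, Fintype.card F = 2 ^ k + 1 ∨ Fintype.card F + 1 = 2 ^ k) from
    ⟨F, inferInstance, inferInstance, h, ⟨e⟩⟩
  obtain ⟨p, hp⟩ := CharP.exists F
  obtain ⟨n, hpp, hn⟩ := FiniteField.card F p
  have hp2 : p ≠ 2 := by
    rintro rfl
    rw [hn] at hodd
    exact absurd hodd (Nat.not_odd_iff_even.2 (even_iff_two_dvd.2 (dvd_pow_self 2 n.ne_zero)))
  have h2 : (2 : F) ≠ 0 := Ring.two_ne_zero (fun h => hp2 ((ringChar.eq F p).symm.trans h).symm.symm)
  haveI : Fact (Nat.Prime 2) := ⟨Nat.prime_two⟩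
  obtain ⟨t, ht⟩ := exists_prime_orderOf_dvd_card' (G := G) 2 hev
  have hx : e t * e t = 1 := by rw [← map_mul, mul_self ht, map_one]
  have hx1 : e t ≠ 1 := fun h => ne_one ht (e.injective (by rw [h, map_one]))
  obtain ⟨k, hk⟩ := IsPGroup.iff_card.1 (hc t ht)
  have hcard : Nat.card (Subgroup.centralizer ({e t} : Set (Matrix.ProjectiveSpecialLinearGroup (Fin 2) F))) =
      2 ^ k := by
    rw [← hk]
    refine Nat.card_congr ⟨fun c => ⟨e.symm c, Subgroup.mem_centralizer_singleton_iff.2 (e.injective ?_)⟩,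
      fun c => ⟨e c, Subgroup.mem_centralizer_singleton_iff.2 ?_⟩, fun c => Subtype.ext (e.apply_symm_apply _),
      fun c => Subtype.ext (e.symm_apply_apply _)⟩
    · rw [map_mul, map_mul, e.apply_symm_apply]
      exact Subgroup.mem_centralizer_singleton_iff.1 c.2
    · rw [← map_mul, ← map_mul, Subgroup.mem_centralizer_singleton_iff.1 c.2]
  rw [SelfCentNC.card_cent_invol h2 hx hx1, Nat.card_eq_fintype_card] at hcard
  have h3 : 3 ≤ Fintype.card F := by
    have := Fintype.one_lt_card (α := F)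
    obtain ⟨m, hm⟩ := hodd
    omega
  have hgood : SelfCentNC.GoodQ (p ^ (n : ℕ)) := by
    refine SelfCentNC.goodQ_of_prime_pow (k := k) hpp hp2 n.pos ?_
    rw [← hn]
    split_ifs at hcard <;> omega
  rw [← hn] at hgood
  rcases hgood with h | h | ⟨h, j, hj⟩
  · rw [h] at hodd; exact absurd hodd (by decide)
  · exact Or.inl h
  · refine Or.inr ⟨h, j, hj.imp id fun e' => ?_⟩
    have := Nat.two_pow_pos j
    omega

/-- The groups with modules of order four. -/
theorem Conf.two_psl [IsSimpleGroup G] (hG : NoTI G) {S : Sylow 2 G} {T V W : Subgroup G}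
    (C : Conf T V W 2) (hTS : T ≤ (S : Subgroup G))
    (hSV : (S : Subgroup G) ⊓ Subgroup.normalizer (V : Set G) = T) : IsOddPSL G := by
  classical
  haveI : Fact (Nat.Prime 2) := ⟨Nat.prime_two⟩
  have hc := hG.cit
  obtain ⟨v, hv, hvZ⟩ := C.exists_outside
  have hvS : v ∈ (S : Subgroup G) := hTS (C.vw.V_le hv)
  have hv2 : orderOf v = 2 := order_two_of_sq (C.vw.elem_V.1 v hv) fun e => hvZ (e ▸ Subgroup.one_mem _)
  have hCv : ∀ s ∈ (S : Subgroup G), s * v = v * s → s ∈ V := by
    set D := (S : Subgroup G) ⊓ Ct v with hD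
    have hVD : V ≤ D := le_inf (C.vw.V_le.trans hTS) fun a ha => mem_Ct.2 (C.vw.elem_V.2 a ha v hv)
    suffices hDV : D ≤ V from fun s hs e => hDV ⟨hs, mem_Ct.2 e⟩
    by_contra hne
    have hlt : V.subgroupOf D < ⊤ := by
      rw [lt_top_iff_ne_top, Ne, Subgroup.subgroupOf_eq_top]; exact hne
    have := (S.isPGroup'.to_le (inf_le_left : D ≤ _)).isNilpotent
    obtain ⟨r, hr, hrn⟩ := SetLike.exists_of_lt (Group.normalizerCondition_of_isNilpotent _ hlt)
    have hrV : (r : G) ∈ Subgroup.normalizer (V : Set G) := Natural.mem_normalizer_of_conj_le fun a ha =>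
      (Subgroup.mem_normalizer_iff.1 hr ⟨a, hVD ha⟩).1 ha
    have hrT : (r : G) ∈ T := hSV ▸ ⟨r.2.1, hrV⟩
    exact hrn (C.vw.cent_V _ hrT v hv hvZ (mem_Ct.1 r.2.2).symm)
  let vS : (S : Subgroup G) := ⟨v, hvS⟩
  have hcent : Nat.card (Subgroup.centralizer ({vS} : Set (S : Subgroup G))) = 4 := by
    rw [show (4 : ℕ) = 2 * 2 from rfl, ← C.vw.card_V]
    refine Nat.card_congr ⟨fun s => ⟨(s.1 : G), hCv _ s.1.2
        (congrArg Subtype.val (Subgroup.mem_centralizer_singleton_iff.1 s.2))⟩,
      fun a => ⟨⟨a, hTS (C.vw.V_le a.2)⟩, Subgroup.mem_centralizer_singleton_iff.2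
        (Subtype.ext (C.vw.elem_V.2 _ a.2 v hv))⟩, fun s => rfl, fun a => rfl⟩
  have h8 : 8 ≤ Nat.card (S : Subgroup G) := by
    have := Subgroup.card_le_of_le hTS
    rwa [C.vw.card_T] at this
  rcases CentFour.dihedral_or_quasiDihedral S.isPGroup' (x := vS)
    (by rw [Subgroup.orderOf_mk]; exact hv2) hcent with ⟨m, ⟨eS⟩⟩ | hqd | h4
  · -- dihedral
    have hm : 2 ≤ m := by
      rcases Nat.eq_zero_or_pos m with rfl | hm
      · haveI : Finite (DihedralGroup 0) := Finite.of_equiv _ eS.toEquiv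
        have := Finite.of_injective (fun i : ZMod 0 => DihedralGroup.r i) fun i j h => by simpa using h
        exact absurd ‹Finite (ZMod 0)› (not_finite_iff_infinite.2 (inferInstanceAs (Infinite ℤ)))
      rw [Nat.card_congr eS.toEquiv, DihedralGroup.nat_card] at h8
      omega
    obtain ⟨z, hzS, hz, hzc⟩ := exists_central_invol hG.even S
    set O := (Cfsg.oddCore (Subgroup.centralizer ({z} : Set G))).map
      (Subgroup.centralizer ({z} : Set G)).subtype with hO
    have hO1 : O = ⊥ := by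
      rw [hO, Subgroup.map_eq_bot_iff_of_injective _ (Subgroup.subtype_injective _)]
      refine Subgroup.card_eq_one.1 ?_
      obtain ⟨k, hk⟩ := IsPGroup.iff_card.1 ((hc z hz).to_subgroup
        (Cfsg.oddCore (Subgroup.centralizer ({z} : Set G))))
      have hodd : Odd (Nat.card (Cfsg.oddCore (Subgroup.centralizer ({z} : Set G)))) :=
        Nat.coprime_two_right.1 (PBasic.pPrimeCore_coprime 2 _)
      rcases Nat.eq_zero_or_pos k with rfl | h0
      · rw [hk, pow_zero]
      · rw [hk] at hodd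
        exact absurd hodd (Nat.not_odd_iff_even.2 (even_iff_two_dvd.2 (dvd_pow_self 2 h0.ne')))
    have hOc : Subgroup.centralizer (O : Set G) = ⊤ := by
      rw [hO1]
      exact Subgroup.centralizer_eq_top_iff_subset.2 fun a ha => by
        rw [Subgroup.mem_bot.1 ha]; exact Subgroup.one_mem _
    obtain ⟨F, _, _, hodd, ⟨e⟩⟩ := S0508.result S m hm ⟨eS⟩ z hz hzS (fun s hs => mem_Ct.1 (hzc hs)) O hO
      (fun h => absurd hO1 h) (fun s _ hs => absurd (hOc ▸ Subgroup.mem_top s) hs)
      (fun Y hY hY1 => absurd (le_bot_iff.1 (hO1 ▸ hY)) hY1)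
    exact isOddPSL_of_psl hc hG.even hodd e
  · -- quasidihedral
    exfalso
    have hidx : ∀ H : Subgroup G, H.index ≠ 2 := by
      intro H hH
      haveI : H.Normal := Subgroup.normal_of_index_eq_two hH
      rcases IsSimpleGroup.eq_bot_or_eq_top_of_normal H inferInstance with e | e
      · rw [e, Subgroup.index_bot] at hH
        exact hG.not_two (IsPGroup.of_card (n := 1) (by rw [hH, pow_one]))
      · rw [e, Subgroup.index_top] at hH; omega
    obtain ⟨R, -, ⟨K, -, -, hK, hKQ⟩, -⟩ := S1213.result S (Or.inl hqd) hidx v hv2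
    obtain ⟨P⟩ : Nonempty (Sylow 2 K) := inferInstance
    obtain ⟨j, hj, ⟨eP⟩⟩ := hKQ P
    haveI : NeZero (2 ^ j) := ⟨by positivity⟩
    have hP : 4 ≤ Nat.card (P : Subgroup K) := by
      rw [Nat.card_congr eP.toEquiv, Nat.card_eq_fintype_card, QuaternionGroup.card]
      have := Nat.one_le_two_pow (n := j)
      omega
    have hKp : IsPGroup 2 K := (hc v hv2).to_subgroup K
    obtain ⟨k, hk⟩ := IsPGroup.iff_card.1 hKp
    have hPK := Subgroup.card_le_card_group (P : Subgroup K)
    rcases k with _ | k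
    · rw [hk] at hPK; omega
    · obtain ⟨H, hH⟩ := Sylow.exists_subgroup_card_pow_prime (G := K) 2 (n := k)
        (hk ▸ pow_dvd_pow 2 (Nat.le_succ k))
      refine hK H ?_
      have := H.card_mul_index
      rw [hH, hk, pow_succ] at this
      exact Nat.eq_of_mul_eq_mul_left (Nat.two_pow_pos k) this
  · omega

end Cfsg.Agent.CNSimple
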